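import Groth.Agent.JacAlbLib.Albanese
import Groth.Agent.SecDivLib.Abel

/-!
# Jacobians with their universal rigidified classes
-/

set_option autoImplicit false
set_option linter.style.haveILetI false
set_option linter.unusedSectionVars false
set_option backward.isDefEq.respectTransparency false
set_option backward.isDefEq.respectTransparency.types false
set_option maxRecDepth 8000
set_option maxHeartbeats 1000000

universe u

open CategoryTheory CategoryTheory.Limits AlgebraicGeometry MonoidalCategory CartesianMonoidalCategory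
open CubeConsLib (pull pull_comp pull_cl cl cl_eq_iff cl_tensor IsoCls)
open PicCurveLib
open scoped MonObj

noncomputable section

namespace JacAlbLib

section General

variable {C S : Scheme.{u}} {f : C ⟶ S} [IsProper f] [Flat f] [LocallyOfFinitePresentation f] (hf : Fam f)
  {σ : S ⟶ C} {hσ : σ ≫ f = 𝟙 S} {J₀ : Over S} (ξ : PicF.Rig f σ hσ J₀) (hξ : FGA.HasFibreDegreeZeroCl f J₀ ξ.1)
  (huniv : ∀ (T : Over S) (c : PicF.Rig f σ hσ T), FGA.HasFibreDegreeZeroCl f T c.1 →
    ∃! g : T ⟶ J₀, PicF.pullCl (PicF.XTmap f g) ξ.1 = c.1)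
include hf hξ huniv

/-- The universal class makes its carrier a group scheme with multiplicative classifying maps. -/
theorem exists_grp_rigJac : ∃ (_ : GrpObj J₀) (c : IsoCls (PicF.XT f J₀)), IsRigJac σ hσ J₀ c := by
  obtain ⟨N, hN, hbij⟩ := exists_cls hf ξ hξ huniv
  obtain ⟨N', hN', eN', -⟩ := hN.rep
  obtain ⟨u, hu⟩ := EllLawLib.isUnit_cl hN'
  rw [eN'] at hu
  have hz : ∀ {T : Over S} (a : T ⟶ J₀), RigZero σ hσ T
      ((Units.map (pull (PicF.XTmap f a) : IsoCls (PicF.XT f J₀) →* IsoCls (PicF.XT f T)) u) : IsoCls (PicF.XT f T)) :=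
    fun a => by rw [Units.coe_map, hu]; exact rigZero_pull hf σ hσ a hN
  let e₀ : ∀ T : Over S, (T ⟶ J₀) → rigZero hf σ hσ T := fun T a => ⟨_, hz a⟩
  have hb : ∀ T, Function.Bijective (e₀ T) := fun T => by
    constructor
    · intro a b h
      refine (hbij T _ (rigZero_pull hf σ hσ a hN)).unique rfl ?_
      have h' := congrArg (fun z => ((z : rigZero hf σ hσ T) : (IsoCls (PicF.XT f T))ˣ).val) h
      simp only [e₀, Units.coe_map, hu] at h'
      exact h'.symm
    · rintro ⟨d, hd⟩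
      obtain ⟨a, ha, -⟩ := hbij T _ hd
      exact ⟨a, Subtype.ext (Units.ext (by simp only [e₀, Units.coe_map, hu]; exact ha))⟩
  let E : ∀ T : Over S, (T ⟶ J₀) ≃ rigZero hf σ hσ T := fun T => Equiv.ofBijective _ (hb T)
  let mulE : ∀ T : Over S, (T ⟶ J₀) → (T ⟶ J₀) → (T ⟶ J₀) := fun T a b => (E T).symm (E T a * E T b)
  have hmul : ∀ (T : Over S) (a b : T ⟶ J₀), pull (PicF.XTmap f (mulE T a b)) (cl N) =
      pull (PicF.XTmap f a) (cl N) * pull (PicF.XTmap f b) (cl N) := fun T a b => by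
    have h := congrArg (fun z => ((z : rigZero hf σ hσ T) : (IsoCls (PicF.XT f T))ˣ).val)
      ((E T).apply_symm_apply (E T a * E T b))
    simp only [E, Equiv.ofBijective_apply, e₀, Subgroup.coe_mul, Units.val_mul, Units.coe_map, hu] at h
    exact h
  have nat : ∀ {T T' : Over S} (g : T' ⟶ T) (a b : T ⟶ J₀), g ≫ mulE T a b = mulE T' (g ≫ a) (g ≫ b) := fun {T T'} g a b => by
    refine (hbij T' _ (rigZero_pull hf σ hσ (g ≫ mulE T a b) hN)).unique rfl ?_
    show pull _ _ = _
    rw [hmul, ← DescAppLib.XTmap_comp, ← DescAppLib.XTmap_comp, ← DescAppLib.XTmap_comp, ← pull_comp, ← pull_comp,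
      ← pull_comp, hmul, map_mul]
  letI GI : GrpObj J₀ :=
    letI grp : ∀ T : Over S, Group (T ⟶ J₀) := fun T => (E T).group
    let Φ : (Over S)ᵒᵖ ⥤ GrpCat.{u} :=
      { obj := fun T => GrpCat.of (T.unop ⟶ J₀)
        map := fun g => GrpCat.ofHom (MonoidHom.mk' (fun a => g.unop ≫ a) fun a b => nat g.unop a b)
        map_id := fun T => GrpCat.hom_ext (MonoidHom.ext fun a => Category.id_comp a)
        map_comp := fun g h => GrpCat.hom_ext (MonoidHom.ext fun a => Category.assoc h.unop g.unop a) }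
    GrpObj.ofRepresentableBy J₀ Φ
      { homEquiv := Equiv.refl _
        homEquiv_comp := fun _ _ => rfl }
  refine ⟨GI, cl N, ⟨hN, fun T d hd => hbij T d hd, fun T a b => ?_⟩⟩
  have e : a * b = lift a b ≫ mulE (J₀ ⊗ J₀) (fst J₀ J₀) (snd J₀ J₀) := rfl
  rw [e, nat, lift_fst, lift_snd, hmul]

variable [Smooth f] [GeometricallyConnected f]

/-- A given Jacobian is isomorphic to a given universal one. -/
theorem exists_setup {J : Over S} [GrpObj J] (ψ : (ModFun.PicDeg f 0).Hom ⊤ J) (hJ : Jac.IsJacobian f ⊤ J ψ) :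
    ∃ c : IsoCls (PicF.XT f J), IsRigJac σ hσ J c ∧
      (∀ (T : Over S) (L : (PicF.XT f T).Modules) (hL : (ModFun.PicDeg f 0).ok T L),
        ∃ n : IsoCls T.left, InvC n ∧ pull (PicF.XTmap f (ψ.app T L trivial hL)) c = cl L * pull (PicF.XTproj f T) n) ∧
      Nonempty (J ≅ J₀) := by
  obtain ⟨c, hc, hψ⟩ := exists_isRigJac hf ξ hξ huniv ψ hJ
  obtain ⟨N, hN, hbij⟩ := exists_cls hf ξ hξ huniv
  obtain ⟨u, hu, -⟩ := hbij J c hc.rigZero
  obtain ⟨v, hv, -⟩ := hc.bij J₀ (cl N) hN
  refine ⟨c, hc, hψ, ⟨⟨u, v, ?_, ?_⟩⟩⟩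
  · refine hom_ext hf hc ?_
    rw [← DescAppLib.XTmap_comp, ← pull_comp, hv, hu,
      show PicF.XTmap f (𝟙 J) = 𝟙 _ by apply pullback.hom_ext <;> simp [PicF.XTmap], DescAppLib.pull_id]
  · refine (hbij J₀ _ (rigZero_pull hf σ hσ (v ≫ u) hN)).unique rfl ?_
    show pull _ _ = pull _ _
    rw [← DescAppLib.XTmap_comp, ← pull_comp, hu, hv,
      show PicF.XTmap f (𝟙 J₀) = 𝟙 _ by apply pullback.hom_ext <;> simp [PicF.XTmap], DescAppLib.pull_id]

end General

variable {k : Type u} [Field k] {C : Scheme.{u}} [C.Over (Spec (CommRingCat.of k))]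
  [IsProper (C ↘ Spec (CommRingCat.of k))] [Smooth (C ↘ Spec (CommRingCat.of k))]
  [GeometricallyConnected (C ↘ Spec (CommRingCat.of k))] (hf : Fam (C ↘ Spec (CommRingCat.of k)))
  {σ : Spec (CommRingCat.of k) ⟶ C} {hσ : σ ≫ (C ↘ Spec (CommRingCat.of k)) = 𝟙 _}
include hf

/-- The fine presentation of a Jacobian over a field, with its properties. -/
theorem exists_setup_field {J : Over (Spec (CommRingCat.of k))} [GrpObj J]
    (ψ : (ModFun.PicDeg (C ↘ Spec (CommRingCat.of k)) 0).Hom ⊤ J)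
    (hJ : Jac.IsJacobian (C ↘ Spec (CommRingCat.of k)) ⊤ J ψ) :
    ∃ c : IsoCls (PicF.XT (C ↘ Spec (CommRingCat.of k)) J), IsRigJac σ hσ J c ∧
      (∀ j : Over.mk (C ↘ Spec (CommRingCat.of k)) ⟶ J,
        Jac.IsAbelJacobiAt (C ↘ Spec (CommRingCat.of k)) σ ψ j → IsAbel σ hσ c j) ∧
      IsProper J.hom ∧ Smooth J.hom ∧ GeometricallyIntegral J.hom := by
  obtain ⟨J₀, ξ, hp, hs, hcn, hξ, hu⟩ := exists_jacobian rfl hf σ hσ
  obtain ⟨c, hc, hψ, ⟨e⟩⟩ := exists_setup hf ξ hξ hu ψ hJ
  haveI := hp; haveI := hs; haveI := hcn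
  have H : IsPullback e.hom.left J.hom J₀.hom (𝟙 _) :=
    haveI : IsIso e.hom.left := ((Over.forget _).mapIso e).isIso_hom
    IsPullback.of_horiz_isIso ⟨by rw [Category.comp_id]; exact Over.w e.hom⟩
  haveI : IsProper J.hom := MorphismProperty.of_isPullback H hp
  haveI : Smooth J.hom := MorphismProperty.of_isPullback H hs
  haveI : GeometricallyConnected J.hom := MorphismProperty.of_isPullback H hcn
  haveI := FibVALib.geometricallyIntegral_of_geometricallyConnected J.hom
  exact ⟨c, hc, fun j hj => isAbel_of_isAbelJacobiAt hf hc hψ hj, inferInstance, inferInstance, inferInstance⟩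

/-- An Abel map in positive genus is a closed immersion. -/
theorem isClosedImmersion_abel {J : Over (Spec (CommRingCat.of k))} [GrpObj J] [IsSeparated J.hom]
    {c : IsoCls (PicF.XT (C ↘ Spec (CommRingCat.of k)) J)} (hc : IsRigJac σ hσ J c)
    {j : Over.mk (C ↘ Spec (CommRingCat.of k)) ⟶ J} (hj : IsAbel σ hσ c j) (hg : 0 < Curv2.genus k C) :
    IsClosedImmersion j.left := by
  haveI : IsProper (j.left ≫ J.hom) := by rw [Over.w j]; exact inferInstanceAs (IsProper (C ↘ Spec (CommRingCat.of k)))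
  haveI : IsProper j.left := IsProper.of_comp j.left J.hom
  obtain ⟨-, hgi, -⟩ := hilb_hyps hf
  haveI : Mono j.left := ⟨fun {Z} g g' h => by
    have hgf : g' ≫ (C ↘ Spec (CommRingCat.of k)) = g ≫ (C ↘ Spec (CommRingCat.of k)) := by
      rw [← show j.left ≫ J.hom = (C ↘ Spec (CommRingCat.of k)) from Over.w j, ← Category.assoc, ← h, Category.assoc]
    let T : Over (Spec (CommRingCat.of k)) := Over.mk (g ≫ (C ↘ Spec (CommRingCat.of k)))
    let x : T ⟶ Over.mk (C ↘ Spec (CommRingCat.of k)) := Over.homMk g rfl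
    let x' : T ⟶ Over.mk (C ↘ Spec (CommRingCat.of k)) := Over.homMk g' hgf
    have hxx : x ≫ j = x' ≫ j := Over.OverMorphism.ext h
    obtain ⟨n, hn, e⟩ := hj.rel T x
    obtain ⟨n', hn', e'⟩ := hj.rel T x'
    obtain ⟨L₁, hL₁, eL₁, -⟩ := (rigZero_pull hf σ hσ (x ≫ j) hc.rigZero).rep
    obtain ⟨d, hd, hnd⟩ := hn.exists_inv
    have hm : pc x' = pc x * pull (PicF.XTproj (C ↘ Spec (CommRingCat.of k)) T) (d * n') := by
      refine (show InvC (pull (PicF.XTmap (C ↘ Spec (CommRingCat.of k)) (x ≫ j)) c) from ⟨L₁, hL₁, eL₁⟩).isUnit.mul_left_cancel ?_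
      rw [show pull (PicF.XTmap (C ↘ Spec (CommRingCat.of k)) (x ≫ j)) c * pc x' = pull (PicF.XTmap (C ↘ Spec (CommRingCat.of k)) (x' ≫ j)) c * pc x' by rw [hxx], e',
        ← mul_assoc, e]
      calc pc (base σ hσ T) * pull (PicF.XTproj (C ↘ Spec (CommRingCat.of k)) T) n' =
          pc (base σ hσ T) * pull (PicF.XTproj (C ↘ Spec (CommRingCat.of k)) T) (n * d * n') := by rw [hnd, one_mul]
        _ = _ := by simp only [map_mul]; ac_rfl
    obtain ⟨M, hM, eM⟩ := hd.mul hn'
    choose U hU hUi using fun t : T.left => hM t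
    refine (Scheme.openCoverOfIsOpenCover T.left U (TopologicalSpace.IsOpenCover.mk (eq_top_iff.2 fun t _ => TopologicalSpace.Opens.mem_iSup.2 ⟨t, hU t⟩))).hom_ext _ _ fun t => ?_
    change T.left at t
    show (U t).ι ≫ g = (U t).ι ≫ g'
    let T' : Over (Spec (CommRingCat.of k)) := Over.mk ((U t).ι ≫ T.hom)
    let i : T' ⟶ T := Over.homMk (U t).ι rfl
    have h1 : pull (U t).ι (cl M) = 1 := by
      rw [pull_cl]
      exact CubeConsLib.cl_eq_one_iff.2 ⟨((Scheme.Modules.restrictFunctorIsoPullback (U t).ι).app M).symm ≪≫ (hUi t).some⟩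
    have hpc : pc (i ≫ x') = pc (i ≫ x) := by
      rw [← pull_pc hf i x', hm, map_mul, pull_pc hf, pull_comp, DescAppLib.XTmap_proj, ← pull_comp, ← eM,
        show i.left = (U t).ι from rfl]
      erw [h1, map_one, mul_one]
    let p := PicF.XTproj (C ↘ Spec (CommRingCat.of k)) T'
    have H : IsPullback (pullback.fst (C ↘ Spec (CommRingCat.of k)) T'.hom) p (C ↘ Spec (CommRingCat.of k)) T'.hom := IsPullback.of_hasPullback (C ↘ Spec (CommRingCat.of k)) T'.hom
    haveI : IsProper p := MorphismProperty.of_isPullback H (inferInstanceAs (IsProper (C ↘ Spec (CommRingCat.of k))))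
    haveI : Smooth p := MorphismProperty.of_isPullback H (inferInstanceAs (Smooth (C ↘ Spec (CommRingCat.of k))))
    haveI : GeometricallyConnected p := MorphismProperty.of_isPullback H (inferInstanceAs (GeometricallyConnected (C ↘ Spec (CommRingCat.of k))))
    have hd' : ∀ z : T'.left, topologicalKrullDim ↥(p.fiber z) = 1 := fun z =>
      (FibDimLib.topologicalKrullDim_fiber_baseChange H z).trans (hf.dim _)
    have hg' : ∀ z : T'.left, 1 ≤ CohIII.fiberRank p (Coh.structureModule _) 1 z := fun z => by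
      rw [SecDivLib.fiberRank_structure_bc H z 1, fiberRank_spec_mod (C ↘ Spec (CommRingCat.of k)) CurvLib.isInvertible_structureModule]
      exact hg
    obtain ⟨e₀, ⟨L₀, hL₀, rfl⟩, he₀⟩ := (invC_pc hf (i ≫ x)).exists_inv
    have := SecDivLib.section_unique p hd' hg' (HilbPts.SC.secF (C ↘ Spec (CommRingCat.of k)) (i ≫ x).left (Over.w (i ≫ x)))
      (HilbPts.SC.secF (C ↘ Spec (CommRingCat.of k)) (i ≫ x').left (Over.w (i ≫ x'))) (pullback.lift_snd _ _ _) (pullback.lift_snd _ _ _) hL₀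
      (CubeConsLib.cl_eq_one_iff.1 ((cl_tensor _ _).trans ((mul_comm _ _).trans he₀)))
      (CubeConsLib.cl_eq_one_iff.1 ((cl_tensor _ _).trans ((mul_comm _ _).trans ((congrArg (· * _) hpc).trans he₀))))
    have h2 := congrArg (· ≫ pullback.fst (C ↘ Spec (CommRingCat.of k)) T'.hom) this
    simp only [HilbPts.SC.secF] at h2
    erw [pullback.lift_fst, pullback.lift_fst] at h2
    exact h2.symm⟩
  exact (IsClosedImmersion.iff_isProper_and_mono _).mpr ⟨inferInstance, inferInstance⟩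

end JacAlbLib

end
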