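import Groth.Agent.HilbPtsLib.SymHilb
import Groth.Agent.AbSchLib.Flat

/-!
# Fibre powers of a smooth proper geometrically irreducible morphism
-/

set_option autoImplicit false
set_option linter.style.haveILetI false
set_option backward.isDefEq.respectTransparency false
set_option backward.isDefEq.respectTransparency.types false

universe u

open CategoryTheory CategoryTheory.Limits AlgebraicGeometry SymProd HilbPts HilbPts.SC

noncomputable section

namespace JacAlbLib

theorem geometricallyIrreducible_of_isIso {X S : Scheme.{u}} (f : X ⟶ S) [IsIso f] : GeometricallyIrreducible f := by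
  refine ⟨geometrically_iff_of_isClosedUnderIsomorphisms.mpr fun K _ x ↦ ?_⟩
  exact ((asIso (pullback.snd f x)).hom.homeomorph.irreducibleSpace_iff).2 inferInstance

variable {X S : Scheme.{u}} (f : X ⟶ S) [Smooth f] [IsProper f] [GeometricallyIrreducible f]

/-- Fibre powers are smooth, proper and geometrically irreducible. -/
theorem fb_props : ∀ n, Smooth (fb f n) ∧ IsProper (fb f n) ∧ GeometricallyIrreducible (fb f n)
  | 0 => by
    let v : S ⟶ fibPow f 0 := WidePullback.lift (𝟙 S) (fun i => i.elim0) (fun i => i.elim0)
    haveI : IsIso (fb f 0) :=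
      ⟨v, WidePullback.hom_ext _ _ _ (fun i => i.elim0) (by simp [v]), WidePullback.lift_base _ _ _ _⟩
    exact ⟨inferInstance, inferInstance, geometricallyIrreducible_of_isIso _⟩
  | n + 1 => by
    obtain ⟨hs, hp, hg⟩ := fb_props n
    haveI := hs; haveI := hp; haveI := hg
    rw [show fb f (n + 1) = splitAt f 0 ≫ pullback.snd f (fb f n) ≫ fb f n by simp [splitAt]]
    exact ⟨inferInstance, inferInstance, by
      haveI := geometricallyIrreducible_of_isIso (splitAt f (n := n) 0)
      haveI := GeometricallyIrreducible.comp (pullback.snd f (fb f n)) (fb f n)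
      exact GeometricallyIrreducible.comp _ _⟩

theorem geometricallyIntegral_fb (n : ℕ) : GeometricallyIntegral (fb f n) := by
  obtain ⟨hs, -, hg⟩ := fb_props f n
  haveI := hs; haveI := hg
  haveI := AbSchLib.geometricallyReduced_of_smooth (fb f n)
  exact GeometricallyIntegral.of_geometricallyReduced_of_geometricallyIrreducible _

end JacAlbLib

end
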