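import Groth.Agent.JacAlbLib.Abel
import Groth.Agent.JacAlbLib.Fib
import Groth.Agent.PicCurveLib.JacArb
import Groth.Agent.PicCurveLib.JacDim
import Groth.Agent.PicCurveLib.Reach
import Groth.Agent.HilbPtsLib.SymQuot
import Groth.Agent.AVAmpleLib.EndRegular
import Groth.Agent.CubeConsLib.FieldHom
import Groth.Agent.S6487
import Groth.Agent.S11992
import Groth.Agent.S11994
import Groth.Agent.NeutralSchLib.Small

/-!
# The Jacobian is the Albanese variety of the curve
-/

set_option autoImplicit false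
set_option linter.style.haveILetI false
set_option linter.unusedSectionVars false
set_option backward.isDefEq.respectTransparency false
set_option backward.isDefEq.respectTransparency.types false
set_option maxRecDepth 8000
set_option maxHeartbeats 1000000
set_option synthInstance.maxHeartbeats 100000

universe u

open CategoryTheory CategoryTheory.Limits AlgebraicGeometry TopologicalSpace MonoidalCategory CartesianMonoidalCategory
open CubeConsLib (pull pull_comp pull_cl cl cl_eq_iff cl_tensor IsoCls)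
open EllLawLib (idCls)
open HilbPts (m m_comp m_fst m_snd isPullback_m)
open PicCurveLib SymProd
open HilbPts.SC (fb fp fp_comp sumId)
open scoped MonObj

noncomputable section

namespace JacAlbLib

section Prod

variable {S : Scheme.{u}} {T T' A B : Over S} [GrpObj A] [IsCommMonObj A]

theorem comp_prod (g : T' ⟶ T) {α : Type*} (s : Finset α) (a : α → (T ⟶ A)) :
    g ≫ ∏ i ∈ s, a i = ∏ i ∈ s, g ≫ a i := by
  induction s using Finset.cons_induction with
  | empty => rw [Finset.prod_empty, Finset.prod_empty, MonObj.comp_one]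
  | cons a' s ha ih => rw [Finset.prod_cons, Finset.prod_cons, MonObj.comp_mul, ih]

theorem prod_comp [GrpObj B] [IsCommMonObj B] (χ : A ⟶ B) [IsMonHom χ] {α : Type*} (s : Finset α)
    (a : α → (T ⟶ A)) : (∏ i ∈ s, a i) ≫ χ = ∏ i ∈ s, a i ≫ χ := by
  induction s using Finset.cons_induction with
  | empty => rw [Finset.prod_empty, Finset.prod_empty, MonObj.one_comp]
  | cons a' s ha ih => rw [Finset.prod_cons, Finset.prod_cons, MonObj.mul_comp, ih]

end Prod

variable {k : Type u} [Field k] {C : Scheme.{u}} [C.Over (Spec (CommRingCat.of k))]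

variable [IsProper (C ↘ Spec (CommRingCat.of k))] [Smooth (C ↘ Spec (CommRingCat.of k))]
  [GeometricallyConnected (C ↘ Spec (CommRingCat.of k))] (hf : Fam (C ↘ Spec (CommRingCat.of k)))
include hf

theorem hilb_hyps : SmoothOfRelativeDimension 1 (C ↘ Spec (CommRingCat.of k)) ∧ GeometricallyIrreducible (C ↘ Spec (CommRingCat.of k)) ∧
    Curve.IsSmoothProperCurve k C (C ↘ Spec (CommRingCat.of k)) := by
  have hdim := dim_total_field hf
  haveI := FibVALib.geometricallyIntegral_of_geometricallyConnected (C ↘ Spec (CommRingCat.of k))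
  haveI : IsIntegral C := GeometricallyIntegral.isIntegral_of_subsingleton (C ↘ Spec (CommRingCat.of k))
  exact ⟨Groth.Agent.S1170.smoothOfRelativeDimension_one k (C ↘ Spec (CommRingCat.of k)) hdim, inferInstance,
    inferInstance, inferInstance, inferInstance, hdim⟩

/-- A good class has the genus as its degree. -/
theorem deg_good (T : Over (Spec (CommRingCat.of k))) {G : IsoCls (pullback (C ↘ Spec (CommRingCat.of k)) T.hom)} (hG : GoodC (C ↘ Spec (CommRingCat.of k)) T.hom G)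
    {N : (PicF.XT (C ↘ Spec (CommRingCat.of k)) T).Modules} (e : cl N = G) (t : T.left) : deg (C ↘ Spec (CommRingCat.of k)) T N t = Curv2.genus k C := by
  obtain ⟨N', hN', e', hgood⟩ := hG
  rw [deg_congr (C ↘ Spec (CommRingCat.of k)) hf.dim_le T (e.trans e'.symm) t]
  show chi (T.left.residueField t) (FGA.restrFibre (C ↘ Spec (CommRingCat.of k)) T t N') -
    chi (T.left.residueField t) (Coh.structureModule (FGA.fibreAt (C ↘ Spec (CommRingCat.of k)) T t).left) = _
  rw [chi_good hf T t (hgood t), chi_fibre_structure hf T t, chi_eq, h0_structure hf, Curv2.genus]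
  ring

/-- Some point over an extension has a good twist by a given class. -/
theorem exists_good_pt {σ : (Spec (CommRingCat.of k)) ⟶ C} {hσ : σ ≫ (C ↘ Spec (CommRingCat.of k)) = 𝟙 _} {a : IsoCls C} (ha : InvC a) :
    ∃ (K : Type u) (_ : Field K) (P : RPt (C ↘ Spec (CommRingCat.of k)) σ hσ (Spec (CommRingCat.of K))),
      GoodC (C ↘ Spec (CommRingCat.of k)) P.g (P.c * tw a P.g) := by
  let K : Type u := AlgebraicClosure k
  let t : Spec (CommRingCat.of K) ⟶ (Spec (CommRingCat.of k)) := Spec.map (CommRingCat.ofHom (algebraMap k K))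
  let XK := pullback (C ↘ Spec (CommRingCat.of k)) t
  letI : XK.Over (Spec (CommRingCat.of K)) := ⟨pullback.snd (C ↘ Spec (CommRingCat.of k)) t⟩
  have hK : Fam (XK ↘ Spec (CommRingCat.of K)) := fam_snd hf t
  haveI := hK.proper; haveI := hK.smooth; haveI := hK.conn
  haveI : IsIntegral XK := isIntegral_total hK
  have hpb : IsPullback (𝟙 XK) (XK ↘ Spec (CommRingCat.of K)) (XK ↘ Spec (CommRingCat.of K))
      (Spec.map (CommRingCat.ofHom (algebraMap K K))) := by
    rw [show Spec.map (CommRingCat.ofHom (algebraMap K K)) = 𝟙 _ by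
      rw [Algebra.algebraMap_self, show CommRingCat.ofHom (RingHom.id K) = 𝟙 _ from rfl, Spec.map_id]]
    exact IsPullback.of_id_fst
  obtain ⟨A, hA, h0, h1⟩ := Groth.Agent.S6487.result K XK
    ⟨inferInstance, inferInstance, inferInstance, dim_total hK⟩ K XK (𝟙 XK) hpb (Coh.structureModule XK)
    CurvLib.isInvertible_structureModule
  let M := CohB1.tensorMod (Coh.structureModule XK) ((Scheme.Modules.pullback (𝟙 XK)).obj A)
  have hM : PicF.IsInvertible M :=
    HilbPolyLib.isInvertible_tensor CurvLib.isInvertible_structureModule (AmpleDevLib.isInvertible_pb _ hA)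
  haveI : IsProper (pullback.snd (C ↘ Spec (CommRingCat.of k)) t) := hK.proper
  haveI := h1
  have hgood : GoodC (C ↘ Spec (CommRingCat.of k)) t (cl M) := ⟨M, hM, rfl, fun s =>
    ⟨(fiberRank_spec_mod (pullback.snd (C ↘ Spec (CommRingCat.of k)) t) hM 1 s).trans (Module.finrank_zero_of_subsingleton (R := K)),
      (fiberRank_spec_mod (pullback.snd (C ↘ Spec (CommRingCat.of k)) t) hM 0 s).trans h0⟩⟩
  obtain ⟨a', ha', haa⟩ := ha.exists_inv
  obtain ⟨c', n, hc', hn, hr, ec⟩ := exists_rigid (f := (C ↘ Spec (CommRingCat.of k))) (σ := σ) (hσ := hσ) (g := t)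
    (hgood.inv.mul (ha'.pull (pullback.fst (C ↘ Spec (CommRingCat.of k)) t)))
  refine ⟨K, inferInstance, ⟨t, c', hc', hr⟩, ?_⟩
  show GoodC (C ↘ Spec (CommRingCat.of k)) t (c' * tw a t)
  have e : c' * tw a t = pull (pullback.snd (C ↘ Spec (CommRingCat.of k)) t) n * cl M := by
    rw [ec]
    calc cl M * pull (pullback.fst (C ↘ Spec (CommRingCat.of k)) t) a' * pull (pullback.snd (C ↘ Spec (CommRingCat.of k)) t) n * pull (pullback.fst (C ↘ Spec (CommRingCat.of k)) t) a
        = pull (pullback.snd (C ↘ Spec (CommRingCat.of k)) t) n * cl M * (pull (pullback.fst (C ↘ Spec (CommRingCat.of k)) t) a * pull (pullback.fst (C ↘ Spec (CommRingCat.of k)) t) a') := by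
          ac_rfl
      _ = _ := by rw [← map_mul, haa, map_one, mul_one]
  rw [e]
  exact hgood.twist hf hn

/-- The class of `n` times the base point. -/
theorem exists_baseClass (σ : (Spec (CommRingCat.of k)) ⟶ C) (hσ : σ ≫ (C ↘ Spec (CommRingCat.of k)) = 𝟙 _) (n : ℕ) :
    ∃ a : IsoCls C, InvC a ∧ ∀ T : Over (Spec (CommRingCat.of k)), tw a T.hom * pc (base σ hσ T) ^ n = 1 := by
  let T₀ : Over (Spec (CommRingCat.of k)) := Over.mk (𝟙 (Spec (CommRingCat.of k)))
  obtain ⟨d, hd, hpd⟩ := (invC_pc hf (base σ hσ T₀)).exists_inv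
  let iT : C ⟶ PicF.XT (C ↘ Spec (CommRingCat.of k)) T₀ := pullback.lift (𝟙 C) (C ↘ Spec (CommRingCat.of k)) (by
    show 𝟙 C ≫ (C ↘ Spec (CommRingCat.of k)) = (C ↘ Spec (CommRingCat.of k)) ≫ 𝟙 _
    rw [Category.id_comp, Category.comp_id])
  refine ⟨pull iT d ^ n, ?_, fun T => ?_⟩
  · induction n with
    | zero => rw [pow_zero]; exact ⟨_, CurvLib.isInvertible_structureModule, rfl⟩
    | succ n ih => rw [pow_succ]; exact ih.mul (hd.pull iT)
  · let q : T ⟶ T₀ := Over.homMk T.hom (Category.comp_id _)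
    have hq : pullback.fst (C ↘ Spec (CommRingCat.of k)) T.hom ≫ iT = PicF.XTmap (C ↘ Spec (CommRingCat.of k)) q := by
      apply pullback.hom_ext
      · rw [Category.assoc, pullback.lift_fst, Category.comp_id, CubeConsLib.XTmap_fst]
      · rw [Category.assoc, pullback.lift_snd, CubeConsLib.XTmap_snd]
        exact pullback.condition
    show pull (pullback.fst (C ↘ Spec (CommRingCat.of k)) T.hom) (pull iT d ^ n) * _ = 1
    rw [map_pow, pull_comp, hq, ← mul_pow, ← comp_base (σ := σ) (hσ := hσ) q, ← pull_pc hf q]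
    erw [← map_mul, mul_comm, hpd, map_one, one_pow]

variable {σ : (Spec (CommRingCat.of k)) ⟶ C} {hσ : σ ≫ (C ↘ Spec (CommRingCat.of k)) = 𝟙 (Spec (CommRingCat.of k))} {J : Over (Spec (CommRingCat.of k))} [GrpObj J] [IsProper J.hom] [Smooth J.hom]
  [GeometricallyIntegral J.hom] {c : IsoCls (PicF.XT (C ↘ Spec (CommRingCat.of k)) J)} (hc : IsRigJac σ hσ J c)
  {j : Over.mk (C ↘ Spec (CommRingCat.of k)) ⟶ J} (hj : IsAbel σ hσ c j)

/-- The `i`-th projection of a fibre power as a map over the base. -/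
def xi {n : ℕ} (i : Fin n) : Over.mk (fb (C ↘ Spec (CommRingCat.of k)) n) ⟶ Over.mk (C ↘ Spec (CommRingCat.of k)) := Over.homMk (fp (C ↘ Spec (CommRingCat.of k)) i) (fp_comp (C ↘ Spec (CommRingCat.of k)) i)

include hc hj

omit [IsProper J.hom] [Smooth J.hom] [GeometricallyIntegral J.hom] in
/-- Products of Abel images with their divisors. -/
theorem pull_prod_abel [IsCommMonObj J] (T : Over (Spec (CommRingCat.of k))) {α : Type*} (s : Finset α) (x : α → (T ⟶ Over.mk (C ↘ Spec (CommRingCat.of k)))) :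
    ∃ n : IsoCls T.left, InvC n ∧ pull (PicF.XTmap (C ↘ Spec (CommRingCat.of k)) (∏ i ∈ s, x i ≫ j)) c * ∏ i ∈ s, pc (x i) =
      pc (base σ hσ T) ^ s.card * pull (PicF.XTproj (C ↘ Spec (CommRingCat.of k)) T) n := by
  rw [pull_prod hf hc, ← Finset.prod_mul_distrib]
  choose n hn e using fun i => hj.rel T (x i)
  refine ⟨∏ i ∈ s, n i, ?_, ?_⟩
  · clear e
    induction s using Finset.cons_induction with
    | empty => rw [Finset.prod_empty]; exact ⟨_, CurvLib.isInvertible_structureModule, rfl⟩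
    | cons a s ha ih => rw [Finset.prod_cons]; exact (hn a).mul ih
  · rw [Finset.prod_congr rfl fun i _ => e i, Finset.prod_mul_distrib, Finset.prod_const, map_prod]

omit [IsProper J.hom] [Smooth J.hom] [GeometricallyIntegral J.hom] in
/-- A point whose twisted class has the divisor of a sum of points is the product of their Abel images. -/
theorem eq_prod_abel [IsCommMonObj J] {a : IsoCls C} {n : ℕ}
    (htw : ∀ T : Over (Spec (CommRingCat.of k)), tw a T.hom * pc (base σ hσ T) ^ n = 1)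
    {T : Over (Spec (CommRingCat.of k))} (h : T ⟶ J) (x : Fin n → (T ⟶ Over.mk (C ↘ Spec (CommRingCat.of k)))) {n₀ : IsoCls T.left}
    (hn₀ : InvC n₀) (e : (∏ i, pc (x i)) * (pull (PicF.XTmap (C ↘ Spec (CommRingCat.of k)) h) c * tw a T.hom) =
      pull (PicF.XTproj (C ↘ Spec (CommRingCat.of k)) T) n₀) : h = ∏ i, x i ≫ j := by
  obtain ⟨n₁, hn₁, en₁⟩ := pull_prod_abel hf hc hj T Finset.univ x
  refine hom_ext hf hc (eq_of_rel hf (rigZero_pull hf σ hσ _ hc.rigZero) (rigZero_pull hf σ hσ _ hc.rigZero)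
    (U := tw a T.hom * ∏ i, pc (x i)) (n := n₀) (n' := n₁) hn₀ ?_ ?_)
  · rw [← e, ← mul_assoc, mul_comm]
  · rw [mul_left_comm, en₁, Finset.card_univ, Fintype.card_fin, ← mul_assoc, htw T, one_mul]

omit [IsProper J.hom] [Smooth J.hom] [GeometricallyIntegral J.hom] in
/-- The good divisors of degree the genus form a nonempty open of the Jacobian. -/
theorem exists_theta' (hrep : ∀ d : ℕ, HilbD.Representable (C ↘ Spec (CommRingCat.of k)) d) {H : Over (Spec (CommRingCat.of k))}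
    {Z : HilbD.Obj (C ↘ Spec (CommRingCat.of k)) (Curv2.genus k C) H} (hZ : HilbD.IsUniversal (C ↘ Spec (CommRingCat.of k)) (Curv2.genus k C) H Z) :
    ∃ (a : IsoCls C) (_ : ∀ T : Over (Spec (CommRingCat.of k)), tw a T.hom * pc (base σ hσ T) ^ Curv2.genus k C = 1)
      (Y : Scheme.{u}) (ξ : RPt (C ↘ Spec (CommRingCat.of k)) σ hσ Y) (IY : (pullback (C ↘ Spec (CommRingCat.of k)) ξ.g).IdealSheafData) (jY : Y ⟶ H.left)
      (w : jY ≫ H.hom = ξ.g), IsOpenImmersion jY ∧ Z.1.comap (m (C ↘ Spec (CommRingCat.of k)) jY w) = IY ∧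
      IsDiv (C ↘ Spec (CommRingCat.of k)) ξ.g (ξ.c * tw a ξ.g) IY ∧ GoodC (C ↘ Spec (CommRingCat.of k)) ξ.g (ξ.c * tw a ξ.g) ∧
      ∃ θ : Over.mk ξ.g ⟶ J, pull (PicF.XTmap (C ↘ Spec (CommRingCat.of k)) θ) c = ξ.c ∧ IsOpenImmersion θ.left ∧ Nonempty Y ∧
      ∀ (T : Scheme.{u}) (P : RPt (C ↘ Spec (CommRingCat.of k)) σ hσ T) (I : (pullback (C ↘ Spec (CommRingCat.of k)) P.g).IdealSheafData),
        GoodC (C ↘ Spec (CommRingCat.of k)) P.g (P.c * tw a P.g) → IsDiv (C ↘ Spec (CommRingCat.of k)) P.g (P.c * tw a P.g) I →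
        Mor2.IsFinLocFreeOfDeg (Curv2.genus k C) (I.subschemeι ≫ pullback.snd (C ↘ Spec (CommRingCat.of k)) P.g) →
        ∃ x : T ⟶ Y, ξ.map x = P := by
  classical
  obtain ⟨hsm, hgi, hX⟩ := hilb_hyps hf
  haveI := hsm; haveI := hgi
  haveI : IsSeparated (C ↘ Spec (CommRingCat.of k)) := inferInstance
  set g := Curv2.genus k C with hgdef
  obtain ⟨a, ha, htw⟩ := exists_baseClass hf σ hσ g
  obtain ⟨Y, ξ, IY, ⟨jY, hjYg, hjY, hIY⟩, hgood, hdiv, hIYd, hmono, hex⟩ :=
    exists_chart (σ := σ) (hσ := hσ) hf hZ ha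
  haveI := hjY
  let TY : Over (Spec (CommRingCat.of k)) := Over.mk ξ.g
  obtain ⟨L, hL, eL⟩ := ξ.inv
  obtain ⟨N, hN, eN⟩ := hgood.inv
  have hdegN : ∀ t, deg (C ↘ Spec (CommRingCat.of k)) TY N t = g := deg_good hf TY hgood eN
  have hdegL : ∀ t, deg (C ↘ Spec (CommRingCat.of k)) TY L t = 0 := fun t => by
    have h := deg_prod hf (Finset.univ : Finset (Fin g)) (fun _ => base σ hσ TY) (L := N) (M := L) hN (by
      rw [Finset.prod_const, Finset.card_univ, Fintype.card_fin, eN, eL]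
      have e : ∀ z : IsoCls (PicF.XT (C ↘ Spec (CommRingCat.of k)) TY),
          z * tw a TY.hom * pc (base σ hσ TY) ^ g = z := fun z => by rw [mul_assoc, htw TY, mul_one]
      exact e ξ.c) t
    rw [hdegN, Finset.card_univ, Fintype.card_fin] at h
    linarith
  obtain ⟨θ, hθ, -⟩ := hc.bij TY ξ.c ⟨⟨L, hL, eL, hdegL⟩, ξ.rig⟩
  -- the classifying map is an open immersion
  let PJ : RPt (C ↘ Spec (CommRingCat.of k)) σ hσ J.left := ofCl (T := J) (by
    obtain ⟨L', hL', eL', -⟩ := hc.rigZero.rep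
    exact ⟨L', hL', eL'⟩) hc.rigZero.rig
  have inj : ∀ {Z' : Scheme.{u}} (x x' : Z' ⟶ J.left), PJ.map x = PJ.map x' → x = x' := by
    intro Z' x x' hxx
    obtain ⟨w, hw⟩ := (map_eq_iff PJ _ x).1 hxx
    let T' : Over (Spec (CommRingCat.of k)) := Over.mk (x' ≫ J.hom)
    exact congrArg CommaMorphism.left (hom_ext hf hc (T := T') (a := Over.homMk x w) (b := Over.homMk x' rfl) (by
      rw [HilbPts.xtMap_eq, HilbPts.xtMap_eq]; exact hw))
  have hθ' : PJ.map θ.left = ξ := (map_eq_iff PJ ξ θ.left).2 ⟨Over.w θ, by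
    rw [HilbPts.xtMap_eq] at hθ; exact hθ⟩
  obtain ⟨O, jO, q, hjO, hq, huniv⟩ := exists_locus hf ha
    (⟨hgood, ⟨IY, hdiv, hIYd⟩, hmono, hex⟩ : IsChart a g ξ) PJ
  obtain ⟨l, hl, hlq⟩ := huniv Y (𝟙 Y) θ.left (by rw [RPt.map_id, hθ'])
  haveI := hjO
  have hql : q ≫ l = 𝟙 O := by
    rw [← cancel_mono jO, Category.assoc, hl, Category.id_comp]
    refine inj _ _ ?_
    rw [← RPt.map_map, hθ', hq]
  haveI : IsIso l := ⟨q, hlq, hql⟩
  haveI : IsOpenImmersion θ.left := by rw [← hl]; infer_instance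
  have hne : Nonempty Y := by
    obtain ⟨K, _, Q, hQg⟩ := exists_good_pt hf (σ := σ) (hσ := hσ) ha
    obtain ⟨I, hI'⟩ := exists_isDiv hf hQg
    let π := I.subschemeι ≫ pullback.snd (C ↘ Spec (CommRingCat.of k)) Q.g
    let T : Over (Spec (CommRingCat.of k)) := Over.mk Q.g
    let t : T.left := IsLocalRing.closedPoint K
    have hd : Mor2.IsFinLocFreeOfDeg (π.finrank t) π :=
      ⟨hI'.1, fun y => congrArg π.finrank (Subsingleton.elim (α := PrimeSpectrum K) _ _)⟩
    have hd' : π.finrank t = g := deg_divisor hf T hQg hI' hd t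
    rw [hd'] at hd
    obtain ⟨x, -⟩ := hex _ Q I hQg hI' hd
    exact ⟨x (IsLocalRing.closedPoint K)⟩
  exact ⟨a, htw, Y, ξ, IY, jY, hjYg, hjY, hIY, hdiv, hgood, θ, hθ, inferInstance, hne, hex⟩

omit [IsProper J.hom] [Smooth J.hom] [GeometricallyIntegral J.hom] in
theorem exists_theta (hrep : ∀ d : ℕ, HilbD.Representable (C ↘ Spec (CommRingCat.of k)) d) {H : Over (Spec (CommRingCat.of k))}
    {Z : HilbD.Obj (C ↘ Spec (CommRingCat.of k)) (Curv2.genus k C) H} (hZ : HilbD.IsUniversal (C ↘ Spec (CommRingCat.of k)) (Curv2.genus k C) H Z) :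
    ∃ (a : IsoCls C) (_ : ∀ T : Over (Spec (CommRingCat.of k)), tw a T.hom * pc (base σ hσ T) ^ Curv2.genus k C = 1)
      (Y : Scheme.{u}) (ξ : RPt (C ↘ Spec (CommRingCat.of k)) σ hσ Y) (IY : (pullback (C ↘ Spec (CommRingCat.of k)) ξ.g).IdealSheafData) (jY : Y ⟶ H.left)
      (w : jY ≫ H.hom = ξ.g), IsOpenImmersion jY ∧ Z.1.comap (m (C ↘ Spec (CommRingCat.of k)) jY w) = IY ∧
      IsDiv (C ↘ Spec (CommRingCat.of k)) ξ.g (ξ.c * tw a ξ.g) IY ∧ GoodC (C ↘ Spec (CommRingCat.of k)) ξ.g (ξ.c * tw a ξ.g) ∧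
      ∃ θ : Over.mk ξ.g ⟶ J, pull (PicF.XTmap (C ↘ Spec (CommRingCat.of k)) θ) c = ξ.c ∧ IsOpenImmersion θ.left ∧ Nonempty Y := by
  obtain ⟨a, htw, Y, ξ, IY, jY, w, h1, h2, h3, h4, θ, h5, h6, h7, -⟩ := exists_theta' hf hc hj hrep hZ
  exact ⟨a, htw, Y, ξ, IY, jY, w, h1, h2, h3, h4, θ, h5, h6, h7⟩

omit [IsProper J.hom] [Smooth J.hom] [GeometricallyIntegral J.hom] in
/-- The Jacobian has the genus as its dimension. -/
theorem dim_jac [LocallyOfFiniteType J.hom] : topologicalKrullDim J.left = (Curv2.genus k C : WithBot ℕ∞) := by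
  obtain ⟨hsm, hgi, hX⟩ := hilb_hyps hf
  haveI := hsm; haveI := hgi
  haveI : IsSeparated (C ↘ Spec (CommRingCat.of k)) := inferInstance
  have hrep : ∀ d : ℕ, HilbD.Representable (C ↘ Spec (CommRingCat.of k)) d := fun d => by
    obtain ⟨H, Z, hZ, -, -⟩ := Groth.Agent.S1170.result k C (C ↘ Spec (CommRingCat.of k)) hX d
    exact ⟨H, Z, hZ⟩
  obtain ⟨H, Z, hZ⟩ := hrep (Curv2.genus k C)
  obtain ⟨a, htw, Y, ξ, IY, jY, hjYg, hjY, hIY, hdiv, -, θ, hθ, hθo, ⟨y₀⟩⟩ := exists_theta hf hc hj hrep hZ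
  haveI := hjY; haveI := hθo
  rw [← Groth.Agent.NeutralSch.localDim_eq_dim (θ.left y₀)]
  exact (FibDimLib.localDim_eq_of_isOpenEmbedding θ.left.isOpenEmbedding y₀).trans
    (((pureDim_hilb (C ↘ Spec (CommRingCat.of k)) hrep _ H Z hZ).of_isOpenImmersion jY) y₀)

set_option maxHeartbeats 2000000 in
/-- The extension of a map of the curve to the Jacobian through the symmetric product. -/
theorem exists_hom (hg : 0 < Curv2.genus k C) (A : Over (Spec (CommRingCat.of k))) [GrpObj A] [IsProper A.hom]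
    [GeometricallyIntegral A.hom] (φ : Over.mk (C ↘ Spec (CommRingCat.of k)) ⟶ A) (hφ : σ ≫ φ.left = (η : 𝟙_ (Over (Spec (CommRingCat.of k))) ⟶ A).left) :
    ∃ χ : J ⟶ A, IsMonHom χ ∧ j ≫ χ = φ := by
  classical
  haveI : IsCommMonObj A := CubeConsLib.isCommMonObj_field
  haveI : IsCommMonObj J := CubeConsLib.isCommMonObj_field
  obtain ⟨hsm, hgi, hX⟩ := hilb_hyps hf
  haveI := hsm; haveI := hgi
  haveI : IsSeparated (C ↘ Spec (CommRingCat.of k)) := inferInstance
  set g := Curv2.genus k C with hgdef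
  have hrep : ∀ d : ℕ, HilbD.Representable (C ↘ Spec (CommRingCat.of k)) d := fun d => by
    obtain ⟨H, Z, hZ, -, -⟩ := Groth.Agent.S1170.result k C (C ↘ Spec (CommRingCat.of k)) hX d
    exact ⟨H, Z, hZ⟩
  obtain ⟨H, Z, hZ⟩ := hrep g
  obtain ⟨ρ, hρ, hI⟩ := HilbPts.SC.exists_hom (C ↘ Spec (CommRingCat.of k)) hZ (sumId (C ↘ Spec (CommRingCat.of k)) g) (HilbPts.SC.prop_sumId (C ↘ Spec (CommRingCat.of k)) g)
  have hQ := HilbPts.SC.isQuot_classifier (C ↘ Spec (CommRingCat.of k)) hrep hZ ρ hρ hI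
  have hbφ : ∀ T : Over (Spec (CommRingCat.of k)), base σ hσ T ≫ φ = 1 := fun T => by
    rw [← comp_base (σ := σ) (hσ := hσ) (toUnit T), Category.assoc,
      show base σ hσ (𝟙_ (Over (Spec (CommRingCat.of k)))) ≫ φ = η from Over.OverMorphism.ext (by
        show (𝟙 (Spec (CommRingCat.of k)) ≫ σ) ≫ φ.left = _
        rw [Category.id_comp]; exact hφ), MonObj.one_eq_one, MonObj.comp_one]
  -- the product map and its descent to the Hilbert scheme
  let P : Over (Spec (CommRingCat.of k)) := Over.mk (fb (C ↘ Spec (CommRingCat.of k)) g)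
  let Φ' : P ⟶ A := ∏ i, xi i ≫ φ
  have hinv : ∀ π : Equiv.Perm (Fin g), permHom (C ↘ Spec (CommRingCat.of k)) g π ≫ Φ'.left = Φ'.left := fun π => by
    let pπ : P ⟶ P := Over.homMk (permHom (C ↘ Spec (CommRingCat.of k)) g π) (permHom_base (C ↘ Spec (CommRingCat.of k)) g π)
    have h : pπ ≫ Φ' = Φ' := by
      rw [comp_prod]
      refine Fintype.prod_equiv π.symm _ _ fun i => ?_
      rw [← Category.assoc]
      congr 1
      exact Over.OverMorphism.ext (permHom_π (C ↘ Spec (CommRingCat.of k)) g π i)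
    exact congrArg CommaMorphism.left h
  obtain ⟨Φ, hΦ⟩ := QuotLib.exists_desc hQ Φ'.left fun gp => by rw [permActU_hom]; exact hinv gp.down
  have hΦA : Φ ≫ A.hom = H.hom := QuotLib.hom_ext hQ (by
    rw [← Category.assoc, hΦ, hρ]; exact Over.w Φ')
  obtain ⟨a, htw, Y, ξ, IY, jY, hjYg, hjY, hIY, hdiv, -, θ, hθ, hθo, ⟨y₀⟩⟩ := exists_theta hf hc hj hrep hZ
  haveI := hjY; haveI := hθo
  let TY : Over (Spec (CommRingCat.of k)) := Over.mk ξ.g
  -- on the preimage of the chart the classifying map is the product of the Abel images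
  let TP : Over (Spec (CommRingCat.of k)) := Over.mk (pullback.fst ρ jY ≫ fb (C ↘ Spec (CommRingCat.of k)) g)
  have wY : pullback.snd ρ jY ≫ ξ.g = pullback.fst ρ jY ≫ fb (C ↘ Spec (CommRingCat.of k)) g := by
    rw [← hjYg, ← hρ, pullback.condition_assoc]
  let incl : TP ⟶ P := Over.homMk (pullback.fst ρ jY) rfl
  let y : TP ⟶ TY := Over.homMk (pullback.snd ρ jY) wY
  let Sg : P ⟶ J := ∏ i, xi i ≫ j
  have hcomp : y ≫ θ = incl ≫ Sg := by
    obtain ⟨hIf, n₀, hn₀, en₀⟩ := hdiv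
    have hsum : idCls (sumId (C ↘ Spec (CommRingCat.of k)) g) =
        (∏ i : Fin g, pc (xi i) : IsoCls (PicF.XT (C ↘ Spec (CommRingCat.of k)) P)) :=
      (idCls_prod _ _ (fun i => effCartier_sec hf (xi i : P ⟶ Over.mk (C ↘ Spec (CommRingCat.of k)))) ⟨⟨0, hg⟩, Finset.mem_univ _⟩).2
    have hdiv' : pull (m (C ↘ Spec (CommRingCat.of k)) (pullback.snd ρ jY) wY) (idCls IY) =
        (∏ i : Fin g, pc (incl ≫ xi i) : IsoCls (PicF.XT (C ↘ Spec (CommRingCat.of k)) TP)) := by
      have e1 : IY.comap (m (C ↘ Spec (CommRingCat.of k)) (pullback.snd ρ jY) wY) =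
          (sumId (C ↘ Spec (CommRingCat.of k)) g).comap (m (C ↘ Spec (CommRingCat.of k)) (pullback.fst ρ jY) rfl) := by
        rw [← hIY, ← hI, ← Scheme.IdealSheafData.comap_comp, ← Scheme.IdealSheafData.comap_comp, m_comp, m_comp]
        congr 2
        exact pullback.condition.symm
      rw [pull_idCls_m hIf, e1, ← pull_idCls_m (HilbPts.SC.prop_sumId (C ↘ Spec (CommRingCat.of k)) g).1]
      refine (congrArg (pull _) hsum).trans ?_
      rw [map_prod]
      refine Finset.prod_congr rfl fun i _ => ?_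
      rw [← pull_pc hf incl (xi i), HilbPts.xtMap_eq]
      rfl
    have h := congrArg (pull (m (C ↘ Spec (CommRingCat.of k)) (pullback.snd ρ jY) wY)) en₀
    rw [map_mul, map_mul, hdiv'] at h
    rw [comp_prod]
    simp only [← Category.assoc]
    refine eq_prod_abel hf hc hj htw (y ≫ θ) (fun i => incl ≫ xi i) (n₀ := pull y.left n₀) (hn₀.pull _) ?_
    rw [← DescAppLib.XTmap_comp, ← pull_comp, hθ, HilbPts.xtMap_eq]
    refine Eq.trans ?_ (h.trans ?_)
    · exact congrArg₂ (· * ·) rfl (congrArg₂ (· * ·) rfl (pull_fst_m (pullback.snd ρ jY) wY a).symm)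
    · rw [pull_comp, pull_comp, m_snd]
      rfl
  -- extension
  haveI : IsIntegral J.left := GeometricallyIntegral.isIntegral_of_subsingleton J.hom
  let U : J.left.Opens := θ.left.opensRange
  obtain ⟨χl, hχA, hχU⟩ := Groth.Agent.S11992.result k J.left J.hom A U ⟨θ.left y₀, y₀, rfl⟩
    (θ.left.isoOpensRange.inv ≫ jY ≫ Φ) (by
      rw [Category.assoc, Category.assoc, hΦA, hjYg, ← Scheme.Hom.isoOpensRange_inv_comp θ.left, Category.assoc,
        Over.w θ]
      rfl)
  let χ : J ⟶ A := Over.homMk χl hχA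
  have hθχ : θ.left ≫ χl = jY ≫ Φ := by
    rw [← Scheme.Hom.isoOpensRange_hom_ι θ.left, Category.assoc, hχU, Iso.hom_inv_id_assoc]
  obtain ⟨-, -, -⟩ := fb_props (C ↘ Spec (CommRingCat.of k)) g
  haveI := geometricallyIntegral_fb (C ↘ Spec (CommRingCat.of k)) g
  haveI : IsIntegral (fibPow (C ↘ Spec (CommRingCat.of k)) g) := GeometricallyIntegral.isIntegral_of_subsingleton (fb (C ↘ Spec (CommRingCat.of k)) g)
  haveI : IsDominant (pullback.fst ρ jY) := ⟨by
    refine (pullback.fst ρ jY).isOpenEmbedding.isOpen_range.dense ?_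
    obtain ⟨z, hz⟩ := QuotLib.surjective hQ (jY y₀)
    obtain ⟨w, hw, -⟩ := Scheme.Pullback.exists_preimage_pullback (f := ρ) (g := jY) z y₀ hz
    exact ⟨_, w, hw⟩⟩
  have hkey : Φ' = Sg ≫ χ := Over.OverMorphism.ext (by
    haveI : AlgebraicGeometry.IsReduced P.left := inferInstanceAs (AlgebraicGeometry.IsReduced (fibPow _ g))
    refine ext_of_isDominant_of_isSeparated A.hom ((Over.w Φ').trans (Over.w (Sg ≫ χ)).symm) (pullback.fst ρ jY) ?_
    show pullback.fst ρ jY ≫ Φ'.left = pullback.fst ρ jY ≫ Sg.left ≫ χl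
    rw [← hΦ, pullback.condition_assoc, ← hθχ, ← Category.assoc, ← Category.assoc]
    exact congrArg (fun z : TP ⟶ J => z.left ≫ χl) hcomp)
  -- the unit and the curve
  let v₀ : (Spec (CommRingCat.of k)) ⟶ fibPow (C ↘ Spec (CommRingCat.of k)) g := WidePullback.lift (𝟙 (Spec (CommRingCat.of k))) (fun _ => σ) (fun _ => hσ)
  let z₀ : 𝟙_ (Over (Spec (CommRingCat.of k))) ⟶ P := Over.homMk v₀ (WidePullback.lift_base _ _ _ _)
  have hz₀ : ∀ i, z₀ ≫ xi i = base σ hσ (𝟙_ (Over (Spec (CommRingCat.of k)))) := fun i => Over.OverMorphism.ext (by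
    show v₀ ≫ fp (C ↘ Spec (CommRingCat.of k)) i = 𝟙 (Spec (CommRingCat.of k)) ≫ σ
    rw [Category.id_comp]; exact WidePullback.lift_π _ _ _ _ i)
  have hχ1 : (η : 𝟙_ (Over (Spec (CommRingCat.of k))) ⟶ J) ≫ χ = η := by
    have h := congrArg (z₀ ≫ ·) hkey
    simp only [Φ', Sg] at h
    rw [comp_prod, ← Category.assoc, comp_prod] at h
    simp only [← Category.assoc, hz₀, hbφ, base_comp hf hc hj, Finset.prod_const_one] at h
    rw [MonObj.one_eq_one, MonObj.one_eq_one]
    exact h.symm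
  haveI hmon : IsMonHom χ := Groth.Agent.S11994.result k J A χ hχ1
  refine ⟨χ, hmon, ?_⟩
  let i₀ : Fin g := ⟨0, hg⟩
  let v₁ : C ⟶ fibPow (C ↘ Spec (CommRingCat.of k)) g := WidePullback.lift (C ↘ Spec (CommRingCat.of k)) (fun i => if i = i₀ then 𝟙 C else (C ↘ Spec (CommRingCat.of k)) ≫ σ) (fun i => by
    split_ifs
    · exact Category.id_comp _
    · rw [Category.assoc, hσ, Category.comp_id])
  let z₁ : Over.mk (C ↘ Spec (CommRingCat.of k)) ⟶ P := Over.homMk v₁ (WidePullback.lift_base _ _ _ _)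
  have hz₁ : ∀ i, z₁ ≫ xi i = if i = i₀ then 𝟙 (Over.mk (C ↘ Spec (CommRingCat.of k))) else base σ hσ (Over.mk (C ↘ Spec (CommRingCat.of k))) := fun i => by
    apply Over.OverMorphism.ext
    show v₁ ≫ fp (C ↘ Spec (CommRingCat.of k)) i = _
    rw [show v₁ ≫ fp (C ↘ Spec (CommRingCat.of k)) i = if i = i₀ then 𝟙 C else (C ↘ Spec (CommRingCat.of k)) ≫ σ from WidePullback.lift_π _ _ _ _ i]
    split_ifs <;> rfl
  have h := congrArg (z₁ ≫ ·) hkey
  simp only [Φ', Sg] at h
  rw [comp_prod, ← Category.assoc, comp_prod] at h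
  simp only [← Category.assoc, hz₁] at h
  rw [Fintype.prod_eq_single i₀, Fintype.prod_eq_single i₀] at h
  · simpa using h.symm
  · intro i hi; rw [if_neg hi, base_comp hf hc hj]
  · intro i hi; rw [if_neg hi, hbφ]

/-- Homomorphisms out of the Jacobian are determined by the Abel map. -/
theorem hom_unique (A : Over (Spec (CommRingCat.of k))) [GrpObj A] [IsProper A.hom] [GeometricallyIntegral A.hom] (χ χ' : J ⟶ A)
    [IsMonHom χ] [IsMonHom χ'] (h : j ≫ χ = j ≫ χ') : χ = χ' := by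
  haveI : IsCommMonObj A := CubeConsLib.isCommMonObj_field
  haveI : IsCommMonObj J := CubeConsLib.isCommMonObj_field
  let Ω : Type u := AlgebraicClosure k
  refine AVAmpleLib.hom_ext_of_geomPts Ω χ χ' fun x => ?_
  let q : Spec (CommRingCat.of Ω) ⟶ (Spec (CommRingCat.of k)) := Spec.map (CommRingCat.ofHom (algebraMap k Ω))
  let T : Over (Spec (CommRingCat.of k)) := Over.mk q
  change (x : T ⟶ J) ≫ χ = (x : T ⟶ J) ≫ χ'
  obtain ⟨L, hL, eL, dL⟩ := (rigZero_pull hf σ hσ (x : T ⟶ J) hc.rigZero).rep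
  obtain ⟨xs, ys, hxy⟩ := exists_points_of_deg_zero hf q hL dL (Curv2.genus k C)
    (le_of_eq (fiberRank_spec_mod (C ↘ Spec (CommRingCat.of k)) CurvLib.isInvertible_structureModule 1 _))
  obtain ⟨n₁, hn₁, e₁⟩ := pull_prod_abel hf hc hj T Finset.univ xs
  obtain ⟨n₂, hn₂, e₂⟩ := pull_prod_abel hf hc hj T Finset.univ ys
  obtain ⟨b, -, hb⟩ := (invC_prod_pc hf (Finset.univ : Finset (Fin (Curv2.genus k C)))
    (fun _ => base σ hσ T)).exists_inv
  rw [Finset.prod_const, Finset.card_univ, Fintype.card_fin] at hb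
  rw [Finset.card_univ, Fintype.card_fin] at e₁ e₂
  have key : (x : T ⟶ J) * ∏ i, (ys i ≫ j) = ∏ i, (xs i ≫ j) := by
    refine hom_ext hf hc (eq_of_rel hf (rigZero_pull hf σ hσ _ hc.rigZero) (rigZero_pull hf σ hσ _ hc.rigZero)
      (U := (∏ i, pc (xs i)) * b) (n := n₂) (n' := n₁) hn₂ ?_ ?_)
    · rw [hc.mul, ← eL]
      calc cl L * pull (PicF.XTmap (C ↘ Spec (CommRingCat.of k)) (∏ i, ys i ≫ j)) c * ((∏ i, pc (xs i)) * b)
          = pull (PicF.XTmap (C ↘ Spec (CommRingCat.of k)) (∏ i, ys i ≫ j)) c * (cl L * ∏ i, pc (xs i)) * b := by ac_rfl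
        _ = _ := by rw [hxy, e₂, mul_right_comm, hb, one_mul]
    · rw [← mul_assoc, e₁, mul_right_comm, hb, one_mul]
  have hx : ∀ (u : J ⟶ A) [IsMonHom u], (x : T ⟶ J) ≫ u * ∏ i, ys i ≫ (j ≫ u) = ∏ i, xs i ≫ (j ≫ u) := fun u _ => by
    have := congrArg (· ≫ u) key
    simp only [MonObj.mul_comp, prod_comp, Category.assoc] at this
    exact this
  have h1 := hx χ
  rw [h, ← hx χ'] at h1
  exact mul_right_cancel h1

/-- **The Albanese property of the Jacobian.** -/
theorem existsUnique_hom (hg : 0 < Curv2.genus k C) (A : Over (Spec (CommRingCat.of k))) [GrpObj A] [IsProper A.hom]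
    [GeometricallyIntegral A.hom] (φ : Over.mk (C ↘ Spec (CommRingCat.of k)) ⟶ A) (hφ : σ ≫ φ.left = (η : 𝟙_ (Over (Spec (CommRingCat.of k))) ⟶ A).left) :
    ∃! χ : J ⟶ A, IsMonHom χ ∧ j ≫ χ = φ := by
  obtain ⟨χ, hχ, e⟩ := exists_hom hf hc hj hg A φ hφ
  refine ⟨χ, ⟨hχ, e⟩, fun χ' ⟨hχ', e'⟩ => ?_⟩
  haveI := hχ; haveI := hχ'
  exact hom_unique hf hc hj A χ' χ (e'.trans e.symm)

end JacAlbLib

end
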