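import Groth.Agent.JacAlbLib.Setup

/-!
# Divisorial correspondences and homomorphisms of Jacobians
-/

set_option autoImplicit false
set_option linter.style.haveILetI false
set_option linter.unusedSectionVars false
set_option backward.isDefEq.respectTransparency false
set_option backward.isDefEq.respectTransparency.types false
set_option maxRecDepth 8000
set_option maxHeartbeats 1000000

universe u

open CategoryTheory CategoryTheory.Limits AlgebraicGeometry MonoidalCategory CartesianMonoidalCategory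
open CubeConsLib (pull pull_comp pull_cl cl cl_eq_iff cl_tensor IsoCls)
open EllLawLib (idCls)
open PicCurveLib
open scoped MonObj

noncomputable section

namespace JacAlbLib

variable {C S : Scheme.{u}} {f : C ⟶ S} {σ : S ⟶ C} {hσ : σ ≫ f = 𝟙 S}

theorem isTrivialCl_pullCl_iff {Y Y' : Scheme.{u}} (g : Y' ⟶ Y) (L : Y.Modules) :
    PicF.IsTrivialCl (PicF.pullCl g (PicF.cl L)) ↔ pull g (cl L) = 1 :=
  EllLawLib.toCl_eq (A := (Scheme.Modules.pullback g).obj L) (B := Coh.structureModule Y')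

variable [IsProper f] [Flat f] [LocallyOfFinitePresentation f] [Smooth f] [GeometricallyConnected f] (hf : Fam f)
  {J : Over S} [GrpObj J] {c : IsoCls (PicF.XT f J)} (hc : IsRigJac σ hσ J c)
include hf

omit [GrpObj J] [Smooth f] [GeometricallyConnected f] in
/-- A rigidified class on a connected base, trivial at one point, has degree zero. -/
theorem rigZero_of_trivial_at {T T' : Over S} [PreconnectedSpace T.left] [Nonempty T'.left]
    {L : (PicF.XT f T).Modules} (hL : PicF.IsInvertible L) (hr : pull (PicF.secT f σ hσ T) (cl L) = 1)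
    (x : T' ⟶ T) (hx : pull (PicF.XTmap f x) (cl L) = 1) : RigZero σ hσ T (cl L) := by
  refine ⟨⟨L, hL, rfl, fun t => ?_⟩, hr⟩
  obtain ⟨t'⟩ := ‹Nonempty T'.left›
  rw [(isLocallyConstant_deg f hf.dim_le T hL).apply_eq_of_preconnectedSpace t (x.left t'),
    ← deg_map f hf.dim_le x hL t',
    deg_congr f hf.dim_le T' (M := Coh.structureModule _) (show cl _ = _ from hx), deg_structure]

omit [GrpObj J] [Smooth f] [GeometricallyConnected f] in
theorem idCls_diagonal : idCls (pullback.diagonal f).ker = (pc (𝟙 (Over.mk f)) : IsoCls (PicF.XT f (Over.mk f))) := by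
  have h : (pullback.diagonal f) = HilbPts.SC.secF f (𝟙 (Over.mk f) : Over.mk f ⟶ Over.mk f).left
      (Over.w (𝟙 (Over.mk f) : Over.mk f ⟶ Over.mk f)) := by
    apply pullback.hom_ext <;> simp [HilbPts.SC.secF]
  exact congrArg (fun z : (Over.mk f).left ⟶ PicF.XT f (Over.mk f) => idCls z.ker) h

omit [GrpObj J] in
theorem pull_fst_idCls_section : pull (pullback.fst f f) (idCls σ.ker) =
    (pc (base σ hσ (Over.mk f)) : IsoCls (PicF.XT f (Over.mk f))) := by
  haveI : IsClosedImmersion σ := by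
    haveI : IsClosedImmersion (σ ≫ f) := by rw [hσ]; infer_instance
    exact IsClosedImmersion.of_comp σ f
  let s : C ⟶ pullback f f := HilbPts.SC.secF f (base σ hσ (Over.mk f)).left (Over.w (base σ hσ (Over.mk f)))
  have H : IsPullback f s σ (pullback.fst f f) := by
    refine IsPullback.of_bot ?_ (pullback.lift_fst _ _ _).symm (IsPullback.of_hasPullback f f)
    rw [show s ≫ pullback.snd f f = 𝟙 C from pullback.lift_snd _ _ _, hσ]
    exact IsPullback.of_vert_isIso ⟨by simp⟩
  have hcomap : σ.ker.comap (pullback.fst f f) = s.ker := SecDivLib.comap_ker_of_isPullback H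
  rw [EllLawLib.pull_idCls _ (RelDualLib.isEffCartier_section f hf.dim σ hσ)
    (by rw [hcomap]; exact effCartier_sec hf (base σ hσ (Over.mk f))), hcomap]
  rfl

include hc

/-- A normalised universal family has the universal rigidified class. -/
theorem cl_univ_eq {ψ : (ModFun.PicDeg f 0).Hom ⊤ J}
    (hψ : ∀ (T : Over S) (L : (PicF.XT f T).Modules) (hL : (ModFun.PicDeg f 0).ok T L),
      ∃ n : IsoCls T.left, InvC n ∧ pull (PicF.XTmap f (ψ.app T L trivial hL)) c = cl L * pull (PicF.XTproj f T) n)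
    {Pu : (PicF.XT f J).Modules} (hok : (ModFun.PicDeg f 0).ok J Pu) (hPn : Jac.IsNormAlong f σ hσ J Pu)
    (hPuψ : ψ.app J Pu trivial hok = 𝟙 J) : cl Pu = c := by
  obtain ⟨n, -, e⟩ := hψ J Pu hok
  rw [hPuψ, show PicF.XTmap f (𝟙 J) = 𝟙 _ by apply pullback.hom_ext <;> simp [PicF.XTmap], DescAppLib.pull_id] at e
  obtain ⟨hi, hd⟩ := (ok_iff hf 0 J Pu).1 hok
  exact eq_of_twist hf ⟨⟨Pu, hi, rfl, hd⟩, (isTrivialCl_pullCl_iff _ _).1 hPn⟩ hc.rigZero e

section Field

variable {k : Type u} [Field k] {C : Scheme.{u}} [C.Over (Spec (CommRingCat.of k))]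
  [IsProper (C ↘ Spec (CommRingCat.of k))] [Smooth (C ↘ Spec (CommRingCat.of k))]
  [GeometricallyConnected (C ↘ Spec (CommRingCat.of k))]
  {σ : Spec (CommRingCat.of k) ⟶ C} {hσ : σ ≫ (C ↘ Spec (CommRingCat.of k)) = 𝟙 _}

omit hf hc in
/-- The fine presentation of a Jacobian over a field, with the classifying map. -/
theorem exists_setup_field' (hdim : topologicalKrullDim ↥C = 1) {J : Over (Spec (CommRingCat.of k))} [GrpObj J]
    (ψ : (ModFun.PicDeg (C ↘ Spec (CommRingCat.of k)) 0).Hom ⊤ J)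
    (hJ : Jac.IsJacobian (C ↘ Spec (CommRingCat.of k)) ⊤ J ψ) :
    ∃ (_ : Fam (C ↘ Spec (CommRingCat.of k))) (c : IsoCls (PicF.XT (C ↘ Spec (CommRingCat.of k)) J)),
      IsRigJac σ hσ J c ∧
      (∀ (T : Over (Spec (CommRingCat.of k))) (L : (PicF.XT (C ↘ Spec (CommRingCat.of k)) T).Modules)
        (hL : (ModFun.PicDeg (C ↘ Spec (CommRingCat.of k)) 0).ok T L),
        ∃ n : IsoCls T.left, InvC n ∧ pull (PicF.XTmap (C ↘ Spec (CommRingCat.of k)) (ψ.app T L trivial hL)) c =
          cl L * pull (PicF.XTproj (C ↘ Spec (CommRingCat.of k)) T) n) ∧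
      IsProper J.hom ∧ Smooth J.hom ∧ GeometricallyIntegral J.hom := by
  have hF : Fam (C ↘ Spec (CommRingCat.of k)) := ⟨inferInstance, inferInstance, inferInstance,
    fun s => (EllLawLib.dim_fiber_spec (C ↘ Spec (CommRingCat.of k)) s).trans hdim⟩
  obtain ⟨J₀, ξ, hp, hs, hcn, hξ, hu⟩ := exists_jacobian rfl hF σ hσ
  obtain ⟨c₁, hc₁, hψ, -⟩ := exists_setup hF ξ hξ hu ψ hJ
  obtain ⟨c₂, -, -, hp', hs', hi'⟩ := exists_setup_field (σ := σ) (hσ := hσ) hF ψ hJ
  exact ⟨hF, c₁, hc₁, hψ, hp', hs', hi'⟩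

end Field

end JacAlbLib

end
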