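import Groth.Agent.JacAlbLib.ThetaClass
import Groth.Agent.S1684
import Groth.Agent.S1568
import Groth.Agent.S1535
import Groth.Agent.RegUFDLib.Basic
import Groth.Agent.BMLib.Geom
import Groth.Agent.BlowUpLib.Cartier
import Groth.Agent.AlgSpLib.TrdegInv
import Groth.Agent.GeomIntLib.Etale
import Groth.Agent.AlgSpRegLib.DimMaps

/-!
# Translates of the theta divisor are effective Cartier divisors
-/

set_option autoImplicit false
set_option linter.style.haveILetI false
set_option linter.unusedSectionVars false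
set_option backward.isDefEq.respectTransparency false
set_option backward.isDefEq.respectTransparency.types false
set_option maxRecDepth 8000
set_option maxHeartbeats 1000000

universe u

open CategoryTheory CategoryTheory.Limits AlgebraicGeometry TopologicalSpace MonoidalCategory CartesianMonoidalCategory
open CubeConsLib (pull pull_comp pull_cl cl cl_eq_iff cl_tensor IsoCls)
open EllLawLib (idCls)
open PicCurveLib SymProd
open HilbPts.SC (fb fp fp_comp splitAt)
open scoped MonObj

noncomputable section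

namespace JacAlbLib

/-- The irreducible closed subset carries an integral reduced structure. -/
theorem isIntegral_vanishingIdeal {X : Scheme.{u}} (Z : Closeds X) (hZ : IsIrreducible (Z : Set X)) :
    IsIntegral (Scheme.IdealSheafData.vanishingIdeal Z).subscheme := by
  let I := Scheme.IdealSheafData.vanishingIdeal Z
  haveI : IsReduced I.subscheme := BMLib.isReduced_vanishingIdeal Z
  have hr : Set.range I.subschemeι = (Z : Set X) := by
    rw [I.range_subschemeι]; exact Scheme.IdealSheafData.coe_support_vanishingIdeal Z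
  haveI : IrreducibleSpace ↥(Set.range I.subschemeι) := Subtype.irreducibleSpace (hr.symm ▸ hZ)
  haveI : IrreducibleSpace ↥I.subscheme :=
    (I.subschemeι.isClosedEmbedding.isEmbedding.toHomeomorph.irreducibleSpace_iff).2 inferInstance
  exact isIntegral_of_irreducibleSpace_of_isReduced _

variable {k : Type u} [Field k] [IsAlgClosed k] {C : Scheme.{u}} [C.Over (Spec (CommRingCat.of k))]
  [IsProper (C ↘ Spec (CommRingCat.of k))] [Smooth (C ↘ Spec (CommRingCat.of k))]
  [GeometricallyConnected (C ↘ Spec (CommRingCat.of k))] (hdim : topologicalKrullDim ↥C = 1)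
  (hf : Fam (C ↘ Spec (CommRingCat.of k))) {σ : Spec (CommRingCat.of k) ⟶ C}
  {hσ : σ ≫ (C ↘ Spec (CommRingCat.of k)) = 𝟙 _} {J : Over (Spec (CommRingCat.of k))} [GrpObj J]
  {c : IsoCls (PicF.XT (C ↘ Spec (CommRingCat.of k)) J)} (hc : IsRigJac σ hσ J c)
  [IsProper J.hom] [Smooth J.hom] [GeometricallyIntegral J.hom] [IsCommMonObj J]
  {j : Over.mk (C ↘ Spec (CommRingCat.of k)) ⟶ J} (hj : IsAbel σ hσ c j)

/-- The image of the fibre power is irreducible. -/
theorem isIrreducible_WSet (n : ℕ) : IsIrreducible (WSet j n) := by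
  haveI := FibVALib.geometricallyIntegral_of_geometricallyConnected (C ↘ Spec (CommRingCat.of k))
  haveI := geometricallyIntegral_fb (C ↘ Spec (CommRingCat.of k)) n
  haveI : IsIntegral (fibPow (C ↘ Spec (CommRingCat.of k)) n) :=
    GeometricallyIntegral.isIntegral_of_subsingleton (fb (C ↘ Spec (CommRingCat.of k)) n)
  show IsIrreducible (Set.range (Wmap j n).left.base)
  rw [← Set.image_univ]
  exact (IrreducibleSpace.isIrreducible_univ (fibPow (C ↘ Spec (CommRingCat.of k)) n)).image _
    (Wmap j n).left.continuous.continuousOn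

include hdim hf hc hj

/-- Translates of the theta divisor are effective Cartier. -/
theorem isEffCartier_transl_WSet {n : ℕ} (hn : n + 1 = Curv2.genus k C)
    (a : 𝟙_ (Over (Spec (CommRingCat.of k))) ⟶ J) (Z : Closeds J.left)
    (hZ : (Z : Set J.left) = (Jac.transl J a).left.base '' WSet j n) :
    BlowUp.IsEffCartierIdeal (Scheme.IdealSheafData.vanishingIdeal Z) := by
  classical
  let f := C ↘ Spec (CommRingCat.of k)
  let T₀ : Over (Spec (CommRingCat.of k)) := 𝟙_ _
  obtain ⟨D0, hD0, hinj0, MD0, hMD0, eMD0, h10⟩ := exists_good (k := k) hdim (n + 1) hn.le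
  let i₀ : Fin (n + 1) := 0
  let Q := D0 i₀
  let Qp : C := Q (IsLocalRing.closedPoint k)
  have hQc : IsClosed ({Qp} : Set C) := GenusZeroLib.isClosed_rational Q (hD0 i₀) _
  let jQ : T₀ ⟶ J := pt Q (hD0 i₀) ≫ j
  let Θ' : Closeds J.left := ⟨(Jac.transl J jQ).left.base '' WSet j n, isClosed_transl jQ (isClosed_WSet j n)⟩
  -- reduction to a translate
  let φ : J ⟶ J := Jac.transl J (jQ * a⁻¹)
  haveI : IsIso φ := ⟨Jac.transl J (jQ * a⁻¹)⁻¹, transl_inv_hom _, transl_inv_hom' _⟩
  haveI : IsIso φ.left := (Over.forget _).map_isIso φ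
  suffices h : BlowUp.IsEffCartierIdeal (Scheme.IdealSheafData.vanishingIdeal Θ') by
    have h' := BlowUpLib.isEffCartier_comap_of_flat φ.left h
    rw [AlgSpRegLib.comap_vanishingIdeal_etale φ.left Θ'] at h'
    convert h' using 2
    refine Closeds.ext (eq_of_points Z.isClosed (Θ'.isClosed.preimage φ.left.continuous) fun t => ?_)
    show pnt t ∈ (Z : Set J.left) ↔ pnt (t ≫ φ) ∈ (Jac.transl J jQ).left.base '' WSet j n
    rw [hZ, mem_transl, mem_transl, comp_transl, _root_.mul_assoc, mul_assoc jQ, mul_comm a⁻¹, mul_inv_cancel_left]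
  -- the étale chart
  obtain ⟨U, hUet, hUin, hUout⟩ := exists_etale_open hdim hf hc hj (by omega)
  revert hUin hUout hUet U
  rw [← hn]
  intro U hUet hUin hUout
  let V : (fibPow f (n + 1)).Opens := ⟨⋂ (i : Fin (n + 1)), ⋂ (_ : i ≠ i₀), (fp f i).base ⁻¹' {Qp}ᶜ,
    isOpen_iInter_of_finite fun i => isOpen_iInter_of_finite fun _ => hQc.isOpen_compl.preimage (fp f i).continuous⟩
  let U' := U ⊓ V
  let F : Over.mk (fb f (n + 1)) ⟶ J := ∏ i, xi (C := C) i ≫ j
  haveI : Etale (U.ι ≫ F.left) := hUet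
  haveI : Etale (U'.ι ≫ F.left) := by
    rw [← Scheme.homOfLE_ι (X := fibPow f (n + 1)) (inf_le_left : U' ≤ U), Category.assoc]
    infer_instance
  let F' : U'.toScheme ⟶ J.left := U'.ι ≫ F.left
  haveI := AlgSpRegLib.lqf_of_etale F'
  haveI := FibVALib.geometricallyIntegral_of_geometricallyConnected f
  obtain ⟨hfbs, hfbp, -⟩ := fb_props f (n + 1)
  haveI := hfbs; haveI := hfbp
  haveI : Smooth (fb f n) := (fb_props f n).1
  haveI : IsLocallyNoetherian U'.toScheme := LocallyOfFiniteType.isLocallyNoetherian (U'.ι ≫ fb f (n + 1))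
  haveI : IsLocallyNoetherian J.left := LocallyOfFiniteType.isLocallyNoetherian J.hom
  haveI : JacobsonSpace U'.toScheme := LocallyOfFiniteType.jacobsonSpace (U'.ι ≫ fb f (n + 1))
  haveI : LocallyOfFiniteType (Over.mk (U'.ι ≫ fb f (n + 1))).hom :=
    inferInstanceAs (LocallyOfFiniteType (U'.ι ≫ fb f (n + 1)))
  -- the slice
  let K := Q.ker.comap (U'.ι ≫ fp f i₀)
  haveI : Flat (fp f i₀) := by
    rw [show fp f i₀ = splitAt f i₀ ≫ pullback.fst f (fb f n) from (pullback.lift_fst _ _ _).symm]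
    haveI : Flat (pullback.fst f (fb f n)) := MorphismProperty.pullback_fst (P := @Flat) _ _ inferInstance
    infer_instance
  have hK : BlowUp.IsEffCartierIdeal K :=
    BlowUpLib.isEffCartier_comap_of_flat _ (AlgEquivCurveLib.isEffCartier_pt hdim Q (hD0 i₀))
  have hKsupp : ∀ q, q ∈ K.support ↔ fp f i₀ (U'.ι q) = Qp := fun q => by
    rw [← SetLike.mem_coe, Scheme.IdealSheafData.support_comap]
    exact support_ker_point hdim Q (hD0 i₀) _
  have hsub : ∀ q, F' q ∈ (Θ' : Set J.left) → q ∈ K.support := fun q hq => (hKsupp q).2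
    (preimage_shift_subset hdim hf hc hj hn i₀ Q (hD0 i₀) U' (fun z hz hzU M hM e => hUout z hz hzU.1 M hM e)
      (fun p hp i hi h => Set.mem_iInter.1 (Set.mem_iInter.1 hp.2 i) hi h) F' rfl Θ' rfl hq)
  have hsup : ∀ q ∈ K.support, F' q ∈ (Θ' : Set J.left) := by
    intro q hq
    have hcl : IsClosed (F'.base ⁻¹' (Θ' : Set J.left)) := Θ'.isClosed.preimage F'.continuous
    have hcl' : IsClosed (K.support : Set U'.toScheme) := K.support.isClosed
    refine (hcl'.closure_eq ▸ (?_ : closure (K.support : Set U'.toScheme) ⊆ F'.base ⁻¹' (Θ' : Set J.left))) hq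
    rw [← JacobsonSpace.closure_inter_closedPoints_eq_closure hcl'.isLocallyClosed]
    refine hcl.closure_subset_iff.2 ?_
    rintro p ⟨hp, hpc⟩
    obtain ⟨t, rfl⟩ := exists_pnt (J := Over.mk (U'.ι ≫ fb f (n + 1))) (mem_closedPoints_iff.1 hpc)
    let zo : T₀ ⟶ Over.mk (fb f (n + 1)) := t ≫ (Over.homMk U'.ι rfl :
      Over.mk (U'.ι ≫ fb f (n + 1)) ⟶ Over.mk (fb f (n + 1)))
    show pnt (zo ≫ F) ∈ (Jac.transl J jQ).left.base '' WSet j n
    rw [mem_transl, sum_tuple, mem_WSet_iff]
    have h0 : zo ≫ xi (C := C) i₀ = pt Q (hD0 i₀) :=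
      Over.OverMorphism.ext (eq_of_point_eq hdim (Over.w (zo ≫ xi (C := C) i₀)) (hD0 i₀) ((hKsupp _).1 hp))
    refine ⟨fun i => zo ≫ xi (C := C) (i₀.succAbove i), ?_⟩
    rw [Fin.prod_univ_succAbove _ i₀, h0, mul_comm (pt Q (hD0 i₀) ≫ j), mul_inv_cancel_right]
  -- the generic point
  have hirr : IsIrreducible (Θ' : Set J.left) :=
    (isIrreducible_WSet (j := j) n).image _ (Jac.transl J jQ).left.continuous.continuousOn
  let I := Scheme.IdealSheafData.vanishingIdeal Θ'
  haveI : IsIntegral I.subscheme := isIntegral_vanishingIdeal Θ' hirr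
  have hI : (I.support : Set J.left) = Θ' := Scheme.IdealSheafData.coe_support_vanishingIdeal Θ'
  let z := I.subschemeι (genericPoint I.subscheme)
  have hz : IsGenericPoint z (Θ' : Set J.left) := by
    have h := (genericPoint_spec I.subscheme).image I.subschemeι.continuous
    rwa [Set.image_univ, I.range_subschemeι, hI, Θ'.isClosed.closure_eq] at h
  let Dt : Spec (CommRingCat.of k) ⟶ fibPow f (n + 1) := WidePullback.lift (𝟙 _) D0 hD0
  have hDtb : Dt ≫ fb f (n + 1) = 𝟙 _ := WidePullback.lift_base _ _ _ _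
  have hDtp : ∀ i, Dt ≫ fp f i = D0 i := fun i => WidePullback.lift_π _ _ _ _ _
  have hDtU : Dt (IsLocalRing.closedPoint k) ∈ U' := by
    refine ⟨hUin Dt hDtb (fun i i' h => hinj0 i i' (by rwa [hDtp, hDtp] at h)) fun M hM e => ?_,
      Set.mem_iInter.2 fun i => Set.mem_iInter.2 fun hne h => hne (hinj0 i i₀ ?_)⟩
    · simp only [show ∀ i, Dt ≫ fp (C ↘ Spec (CommRingCat.of k)) i = D0 i from hDtp] at e
      rw [← h10]
      exact h_congr (k := k) ((isUnit_pts hdim hf D0 hD0).mul_right_cancel (e.trans eMD0.symm)) 0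
    · refine eq_of_point_eq hdim (hD0 i) (hD0 i₀) (Eq.trans ?_ h)
      show _ = fp f i (Dt (IsLocalRing.closedPoint k))
      rw [← Scheme.Hom.comp_apply, hDtp]
  have hmeet : ((Θ' : Set J.left) ∩ Set.range F').Nonempty := by
    let q : U'.toScheme := ⟨Dt (IsLocalRing.closedPoint k), hDtU⟩
    refine ⟨F' q, hsup q ((hKsupp q).2 ?_), ⟨q, rfl⟩⟩
    show fp f i₀ (Dt (IsLocalRing.closedPoint k)) = Qp
    rw [← Scheme.Hom.comp_apply, hDtp]
  obtain ⟨w, hw⟩ : z ∈ Set.range F' := (hz.mem_open_set_iff F'.isOpenMap.isOpen_range).2 hmeet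
  have hzΘ : z ∈ (Θ' : Set J.left) := hz.mem
  have hdimw : ringKrullDim (U'.toScheme.presheaf.stalk w) = 1 := by
    refine Groth.Agent.S1568.result _ K hK w (hsub w (hw.symm ▸ hzΘ)) fun y hy hyw => ?_
    have hs : F' y ⤳ z := hw ▸ hyw.map F'.continuous
    have hs' : z ⤳ F' y := hz.specializes (hsup y hy)
    exact GeomIntLib.eq_of_specializes_of_same_image F' hyw ((hs.antisymm hs').eq.trans hw.symm)
  have hcodim : ringKrullDim (J.left.presheaf.stalk z) = 1 := by
    rw [← hw]
    exact (AlgSpLib.ringKrullDim_stalk_etale F' w).symm.trans hdimw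
  letI : J.left.Over (Spec (CommRingCat.of k)) := ⟨J.hom⟩
  haveI : Smooth (J.left ↘ Spec (CommRingCat.of k)) := ‹Smooth J.hom›
  refine Groth.Agent.S1684.result J.left I hcodim fun x _ => ?_
  haveI : IsRegularLocalRing (J.left.presheaf.stalk x) := Groth.Agent.S1535.result k J.left x
  exact ⟨CommAlgDim.isDomain_of_isRegularLocalRing _, RegUFDLib.uniqueFactorizationMonoid _⟩

end JacAlbLib

end
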