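import Groth.Agent.JacAlbLib.ThetaAlg

/-!
# Bundles of translates of `W^(g-1)` over an algebraically closed field
-/

set_option autoImplicit false
set_option linter.style.haveILetI false
set_option linter.unusedSectionVars false
set_option backward.isDefEq.respectTransparency false
set_option backward.isDefEq.respectTransparency.types false
set_option maxRecDepth 8000
set_option maxHeartbeats 1000000

universe u

open CategoryTheory CategoryTheory.Limits AlgebraicGeometry TopologicalSpace MonoidalCategory CartesianMonoidalCategory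
open CubeConsLib (pull pull_comp pull_cl cl cl_eq_iff cl_tensor IsoCls)
open EllLawLib (idCls)
open PicCurveLib SymProd
open scoped MonObj

noncomputable section

namespace JacAlbLib

variable {k : Type u} [Field k] [IsAlgClosed k] {C : Scheme.{u}} [C.Over (Spec (CommRingCat.of k))]
  [IsProper (C ↘ Spec (CommRingCat.of k))] [Smooth (C ↘ Spec (CommRingCat.of k))]
  [GeometricallyConnected (C ↘ Spec (CommRingCat.of k))] (hdim : topologicalKrullDim ↥C = 1)
  (hf : Fam (C ↘ Spec (CommRingCat.of k))) {σ : Spec (CommRingCat.of k) ⟶ C}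
  {hσ : σ ≫ (C ↘ Spec (CommRingCat.of k)) = 𝟙 _} {J : Over (Spec (CommRingCat.of k))} [GrpObj J]
  {c : IsoCls (PicF.XT (C ↘ Spec (CommRingCat.of k)) J)} (hc : IsRigJac σ hσ J c)
  [IsProper J.hom] [Smooth J.hom] [GeometricallyIntegral J.hom] [IsCommMonObj J]
  {j : Over.mk (C ↘ Spec (CommRingCat.of k)) ⟶ J} (hj : IsAbel σ hσ c j)
  {n : ℕ} (hn : n + 1 = Curv2.genus k C) (a : 𝟙_ (Over (Spec (CommRingCat.of k))) ⟶ J) (Z : Closeds J.left)
  (hZ : (Z : Set J.left) = (Jac.transl J a).left.base '' WSet j n)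
  {L : J.left.Modules} (hL : PicF.IsInvertible L)
  (hinv : ClSub.IsInverseOf L (ClSub.idealMod (Scheme.IdealSheafData.vanishingIdeal Z)))
include hdim hf hc hj hn hZ

/-- A translate of `W` is a translate of the inverse. -/
theorem exists_transl_inv : ∃ b : 𝟙_ (Over (Spec (CommRingCat.of k))) ⟶ J,
    (Z : Set J.left) = (Jac.transl J b).left.base '' (((𝟙 J)⁻¹).left.base '' WSet j n) := by
  obtain ⟨κ, hκ⟩ := exists_kappa hdim hf hc hn
  refine ⟨κ * a, hZ.trans ?_⟩
  refine eq_of_points (isClosed_transl _ (isClosed_WSet j n)) (isClosed_transl _ (isClosed_inv (isClosed_WSet j n)))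
    fun z => ?_
  rw [mem_transl, mem_transl, mem_inv, ← mem_kappa hdim hf hc hj κ hn hκ,
    show (z * (κ * a)⁻¹)⁻¹ = κ * (z * a⁻¹)⁻¹ by simp only [mul_inv_rev, inv_inv]; ac_rfl]

include hL hinv

theorem principal_translW : AVDualLib.Principal hL := by
  obtain ⟨b, hb⟩ := exists_transl_inv hdim hf hc hj hn a Z hZ
  exact principal_thetaMinus hdim hf hc hj hn b Z hb hL hinv

theorem isAmple_translW : CohB1.IsAmple L := by
  have hp := principal_translW hdim hf hc hj hn a Z hZ hL hinv
  haveI : IsIntegral J.left := GeometricallyIntegral.isIntegral_of_subsingleton J.hom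
  have hI := IntMultLib.isEffCartier_of_isInvertible _ (CohCmpLib.isInvertible_of_inverse' hL hinv.some)
  obtain ⟨s, hs⟩ := SecDivLib.exists_secHom hL hI hinv
  refine AVAmpleLib.isAmple_of_nonDegenerate hL s (fun h0 => ?_) ((Set.finite_singleton 1).subset fun a ha => ?_)
  · rw [h0, VBHyp.zeroScheme_zero hL] at hs
    exact SurfNumLib.effCartier_ne_bot hI hs.symm
  · refine hp _ a ?_
    show CubeConsLib.P hL (fst J (𝟙_ _) * (snd J (𝟙_ _) ≫ a)) = _
    rw [toUnit_unique (snd J (𝟙_ _)) (toUnit _), CubeConsLib.P_const hL, add_zero,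
      show fst J (𝟙_ _) * (toUnit (J ⊗ 𝟙_ _) ≫ a) = fst J (𝟙_ _) ≫ AVAmpleLib.tR a by
        rw [AVAmpleLib.tR, MonObj.comp_mul, Category.comp_id, ← Category.assoc, toUnit_unique (_ ≫ toUnit J) (toUnit _)],
      ← CubeConsLib.pullA_P, show CubeConsLib.P hL (AVAmpleLib.tR a) = CubeConsLib.clA hL from ha,
      ← CubeConsLib.P_id hL, CubeConsLib.pullA_P, Category.comp_id]

theorem pull_lambda_translW {Λ : (PicF.XT J.hom J).Modules}
    (hΛL : AgPol.IsLambdaSheaf (μ[J].left : PicF.XT J.hom J ⟶ J.left) (fst J J).left (snd J J).left L Λ) :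
    pull (PicF.XTmap (C ↘ Spec (CommRingCat.of k)) ((𝟙 J)⁻¹) ≫ AbDual.bcMap j J) (cl Λ) = c := by
  obtain ⟨b, hb⟩ := exists_transl_inv hdim hf hc hj hn a Z hZ
  exact pull_lambda_translMinus hdim hf hc hj hn b Z hb hL hinv hΛL

end JacAlbLib

end
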