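import Groth.Agent.JacAlbLib.ThetaClass

/-!
# The universal class through the Mumford bundle of the inverse theta divisor
-/

set_option autoImplicit false
set_option linter.style.haveILetI false
set_option linter.unusedSectionVars false
set_option backward.isDefEq.respectTransparency false
set_option backward.isDefEq.respectTransparency.types false
set_option maxRecDepth 8000
set_option maxHeartbeats 1000000

universe u

open CategoryTheory CategoryTheory.Limits AlgebraicGeometry TopologicalSpace MonoidalCategory CartesianMonoidalCategory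
open CubeConsLib (pull pull_comp pull_cl cl cl_eq_iff cl_tensor IsoCls)
open EllLawLib (idCls)
open PicCurveLib SymProd
open scoped MonObj

noncomputable section

namespace JacAlbLib

variable {k : Type u} [Field k] {C : Scheme.{u}} [C.Over (Spec (CommRingCat.of k))]
  [IsProper (C ↘ Spec (CommRingCat.of k))] [Smooth (C ↘ Spec (CommRingCat.of k))]
  [GeometricallyConnected (C ↘ Spec (CommRingCat.of k))] (hdim : topologicalKrullDim ↥C = 1)
  (hf : Fam (C ↘ Spec (CommRingCat.of k))) {σ : Spec (CommRingCat.of k) ⟶ C}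
  {hσ : σ ≫ (C ↘ Spec (CommRingCat.of k)) = 𝟙 _} {J : Over (Spec (CommRingCat.of k))} [GrpObj J]
  {c : IsoCls (PicF.XT (C ↘ Spec (CommRingCat.of k)) J)} (hc : IsRigJac σ hσ J c)
include hdim hf hc

omit hc in
/-- The graph of the base point is the constant divisor. -/
theorem pc_base_eq (T : Over (Spec (CommRingCat.of k))) :
    pc (base σ hσ T) = pull (pullback.fst (C ↘ Spec (CommRingCat.of k)) T.hom) (idCls σ.ker) := by
  let f := C ↘ Spec (CommRingCat.of k)
  have h0 : pc (base σ hσ (𝟙_ (Over (Spec (CommRingCat.of k))))) =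
      pull (pullback.fst f (𝟙_ (Over (Spec (CommRingCat.of k)))).hom) (idCls σ.ker) := by
    haveI : IsIso (toXT₀ (k := k) (C := C)) := (isPullback_toXT₀ (k := k) (C := C)).isIso_fst_of_isIso
    have h := congrArg (pull (inv (toXT₀ (k := k) (C := C)))) (pull_toXT₀_pc hdim hf (base σ hσ (𝟙_ _)))
    rw [pull_comp, IsIso.inv_hom_id, DescAppLib.pull_id,
      show (base σ hσ (𝟙_ (Over (Spec (CommRingCat.of k))))).left = σ from Category.id_comp σ] at h
    rw [h, show inv (toXT₀ (k := k) (C := C)) = pullback.fst f (𝟙_ (Over (Spec (CommRingCat.of k)))).hom from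
      IsIso.inv_eq_of_hom_inv_id toXT₀_fst]
  rw [← comp_base (σ := σ) (hσ := hσ) (toUnit T), ← pull_pc hf (toUnit T), h0, pull_comp, DescAppLib.XTmap_fst]

variable [IsProper J.hom] [Smooth J.hom] [GeometricallyIntegral J.hom] [IsCommMonObj J] [IsAlgClosed k]
  {j : Over.mk (C ↘ Spec (CommRingCat.of k)) ⟶ J} (hj : IsAbel σ hσ c j)
include hj

/-- **The Mumford bundle of a translate of the inverse theta divisor pulled back along `j × (-1)`.** -/
theorem pull_lambda_translMinus {n : ℕ} (hn : n + 1 = Curv2.genus k C)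
    (a : 𝟙_ (Over (Spec (CommRingCat.of k))) ⟶ J) (Z : Closeds J.left)
    (hZ : (Z : Set J.left) = (Jac.transl J a).left.base '' (((𝟙 J)⁻¹).left.base '' WSet j n))
    {L : J.left.Modules} (hL : PicF.IsInvertible L)
    (hinv : ClSub.IsInverseOf L (ClSub.idealMod (Scheme.IdealSheafData.vanishingIdeal Z)))
    {Λ : (PicF.XT J.hom J).Modules} (hΛL : AgPol.IsLambdaSheaf (μ[J].left : PicF.XT J.hom J ⟶ J.left)
      (fst J J).left (snd J J).left L Λ) :
    pull (PicF.XTmap (C ↘ Spec (CommRingCat.of k)) ((𝟙 J)⁻¹) ≫ AbDual.bcMap j J) (cl Λ) = c := by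
  let f := C ↘ Spec (CommRingCat.of k)
  let P : Over (Spec (CommRingCat.of k)) := Over.mk f ⊗ J
  let A : P ⟶ J := fst (Over.mk f) J ≫ j
  let B : P ⟶ J := snd (Over.mk f) J ≫ (𝟙 J)⁻¹
  let χ : PicF.XT f J ⟶ PicF.XT J.hom J := PicF.XTmap f ((𝟙 J)⁻¹) ≫ AbDual.bcMap j J
  let proj := PicF.XTproj f J
  let sec := PicF.secT f σ hσ J
  have hχ : χ = (lift A B).left := by
    apply pullback.hom_ext <;> simp [χ, A, B, P, f, PicF.XTmap, AbDual.bcMap] <;> rfl
  have eΛ : cl Λ * pull (Y := PicF.XT J.hom J) (fst J J).left (cl L) * pull (Y := PicF.XT J.hom J) (snd J J).left (cl L) =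
      pull (Y := PicF.XT J.hom J) μ[J].left (cl L) := by
    rw [pull_cl, pull_cl, pull_cl, ← cl_tensor, ← cl_tensor]
    exact cl_eq_iff.2 hΛL
  have h1 : pull χ (cl Λ) * pull (Y := PicF.XT f J) A.left (cl L) * pull (Y := PicF.XT f J) B.left (cl L) =
      pull (Y := PicF.XT f J) (A * B).left (cl L) := by
    have h := congrArg (pull χ) eΛ
    rw [map_mul, map_mul, pull_comp, pull_comp, pull_comp] at h
    have e1 : χ ≫ (fst J J).left = A.left := by rw [hχ]; exact congrArg CommaMorphism.left (lift_fst A B)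
    have e2 : χ ≫ (snd J J).left = B.left := by rw [hχ]; exact congrArg CommaMorphism.left (lift_snd A B)
    have e3 : χ ≫ μ[J].left = (A * B).left := by rw [hχ]; rfl
    rw [e1, e2, e3] at h
    exact h
  have hA : A.left = pullback.fst f J.hom ≫ j.left := rfl
  have hB : B.left = proj ≫ ((𝟙 J)⁻¹).left := rfl
  -- the twist
  obtain ⟨⟨m, hm, em⟩, key⟩ := exists_univ_twist hdim hf hc hj hn a Z hZ hL hinv
  rw [Finset.prod_const, Finset.card_univ, Fintype.card_fin] at em
  let aC : P ⟶ J := toUnit P ≫ a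
  have hjL : pull (Y := C) (j ≫ Jac.transl J a).left (cl L) * idCls σ.ker ^ (n + 1) = 1 := by
    have h := key 1
    rw [tcl_one hdim hf hc, inv_one, _root_.one_mul] at h
    exact h.symm
  have h3 : CubeConsLib.P hL (A * B * aC) + CubeConsLib.P hL A + CubeConsLib.P hL B =
      CubeConsLib.P hL (A * B) + CubeConsLib.P hL (A * aC) + CubeConsLib.P hL (B * aC) := by
    have h := CubeConsLib.cube_field hL A B aC
    rwa [CubeConsLib.P_const hL, add_zero] at h
  have h4 : pull (Y := PicF.XT f J) (A * B * aC).left (cl L) * pull (Y := PicF.XT f J) A.left (cl L) *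
      pull (Y := PicF.XT f J) B.left (cl L) = pull (Y := PicF.XT f J) (A * B).left (cl L) *
        pull (Y := PicF.XT f J) (A * aC).left (cl L) * pull (Y := PicF.XT f J) (B * aC).left (cl L) :=
    congrArg (fun x : CubeConsLib.PicA P.left => ((Additive.toMul x : (IsoCls P.left)ˣ) : IsoCls P.left)) h3
  have eA : (A * aC).left = pullback.fst f J.hom ≫ (j ≫ Jac.transl J a).left := by
    refine congrArg CommaMorphism.left (?_ : A * aC = fst (Over.mk f) J ≫ j ≫ Jac.transl J a)
    rw [Jac.transl, ← Category.assoc, MonObj.comp_mul, Category.comp_id, ← Category.assoc,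
      toUnit_unique (_ ≫ toUnit J) (toUnit _)]
  have eB : (B * aC).left = proj ≫ ((𝟙 J)⁻¹ ≫ Jac.transl J a).left := by
    refine congrArg CommaMorphism.left (?_ : B * aC = snd (Over.mk f) J ≫ (𝟙 J)⁻¹ ≫ Jac.transl J a)
    rw [Jac.transl, ← Category.assoc, MonObj.comp_mul, Category.comp_id, ← Category.assoc,
      toUnit_unique (_ ≫ toUnit J) (toUnit _)]
  have h5 : pull (Y := PicF.XT f J) (A * B * aC).left (cl L) =
      pull χ (cl Λ) * pull (Y := PicF.XT f J) (A * aC).left (cl L) * pull (Y := PicF.XT f J) (B * aC).left (cl L) := by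
    refine ((InvC.pull (c := cl L) ⟨L, hL, rfl⟩ A.left).mul (InvC.pull (c := cl L) ⟨L, hL, rfl⟩ B.left)).isUnit.mul_right_cancel ?_
    refine (_root_.mul_assoc _ _ _).symm.trans (h4.trans ?_)
    rw [← h1]
    ac_rfl
  have hkey : c = pull χ (cl Λ) * pull proj (pull ((𝟙 J)⁻¹ ≫ Jac.transl J a).left (cl L) * m) := by
    rw [em, show pull (Y := PicF.XT f J) ((fst (Over.mk f) J ≫ j) * (snd (Over.mk f) J ≫ (𝟙 J)⁻¹) *
      (toUnit (Over.mk f ⊗ J) ≫ a)).left (cl L) =
      pull (Y := PicF.XT f J) (A * B * aC).left (cl L) from rfl, h5, map_mul, eA, eB,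
      ← pull_comp (pullback.fst f J.hom) (j ≫ Jac.transl J a).left,
      ← pull_comp proj ((𝟙 J)⁻¹ ≫ Jac.transl J a).left,
      pc_base_eq hdim hf J, ← map_pow]
    calc pull χ (cl Λ) * pull (pullback.fst f J.hom) (pull (j ≫ Jac.transl J a).left (cl L)) *
          pull proj (pull ((𝟙 J)⁻¹ ≫ Jac.transl J a).left (cl L)) *
          pull (pullback.fst f J.hom) (idCls σ.ker ^ (n + 1)) * pull proj m
        = pull χ (cl Λ) * (pull proj (pull ((𝟙 J)⁻¹ ≫ Jac.transl J a).left (cl L)) * pull proj m) *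
          (pull (pullback.fst f J.hom) (pull (j ≫ Jac.transl J a).left (cl L)) *
            pull (pullback.fst f J.hom) (idCls σ.ker ^ (n + 1))) := by
          ac_rfl
      _ = _ := by
        have h' : pull (pullback.fst f J.hom) (pull (Y := C) (j ≫ Jac.transl J a).left (cl L)) *
            pull (pullback.fst f J.hom) (idCls σ.ker ^ (n + 1)) = 1 :=
          (map_mul (pull (pullback.fst f J.hom)) _ _).symm.trans ((congrArg _ hjL).trans (map_one _))
        exact (congrArg (_ * ·) h').trans (_root_.mul_one _)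
  have hrig : pull sec (pull χ (cl Λ)) = 1 := by
    have hs : sec = (lift (base σ hσ J) (𝟙 J)).left := by
      apply pullback.hom_ext <;> simp [sec, base, f, PicF.secT] <;> rfl
    have h := congrArg (pull sec) h1
    rw [map_mul, map_mul, pull_comp sec A.left, pull_comp sec B.left, pull_comp sec (A * B).left, hA, hB] at h
    have e1 : sec ≫ pullback.fst f J.hom ≫ j.left = J.hom ≫ σ ≫ j.left := by
      rw [← Category.assoc, DescAppLib.secT_fst, Category.assoc]
    have e2 : sec ≫ proj ≫ ((𝟙 J)⁻¹).left = ((𝟙 J)⁻¹).left := by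
      rw [← Category.assoc, DescAppLib.secT_proj, Category.id_comp]
    have e3 : sec ≫ (A * B).left = ((𝟙 J)⁻¹).left := by
      rw [hs]
      refine congrArg CommaMorphism.left (?_ : lift (base σ hσ J) (𝟙 J) ≫ (A * B) = (𝟙 J)⁻¹)
      rw [MonObj.comp_mul, lift_fst_assoc, lift_snd_assoc, Category.id_comp, base_comp hf hc hj, _root_.one_mul]
    rw [e1, e2, e3, ← pull_comp J.hom (σ ≫ j.left),
      show pull (σ ≫ j.left) (cl L) = 1 from invC_spec (InvC.pull (c := cl L) ⟨L, hL, rfl⟩ _), map_one,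
      _root_.mul_one] at h
    exact ((InvC.pull (c := cl L) ⟨L, hL, rfl⟩ ((𝟙 J)⁻¹).left).isUnit).mul_right_cancel (h.trans (_root_.one_mul _).symm)
  have h := congrArg (pull sec) hkey
  rw [hc.rigZero.rig, map_mul, hrig, _root_.one_mul, pull_comp, DescAppLib.secT_proj, DescAppLib.pull_id] at h
  rw [hkey, ← h, map_one, _root_.mul_one]

/-- **The Mumford bundle of the inverse theta divisor pulled back along `j × (-1)` is the universal class.** -/
theorem pull_lambda_thetaMinus {n : ℕ} (hn : n + 1 = Curv2.genus k C) (Z : Closeds J.left)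
    (hZ : (Z : Set J.left) = ((𝟙 J)⁻¹).left.base '' WSet j n)
    {L : J.left.Modules} (hL : PicF.IsInvertible L)
    (hinv : ClSub.IsInverseOf L (ClSub.idealMod (Scheme.IdealSheafData.vanishingIdeal Z)))
    {Λ : (PicF.XT J.hom J).Modules} (hΛL : AgPol.IsLambdaSheaf (μ[J].left : PicF.XT J.hom J ⟶ J.left)
      (fst J J).left (snd J J).left L Λ) :
    pull (PicF.XTmap (C ↘ Spec (CommRingCat.of k)) ((𝟙 J)⁻¹) ≫ AbDual.bcMap j J) (cl Λ) = c := by
  refine pull_lambda_translMinus hdim hf hc hj hn 1 Z ?_ hL hinv hΛL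
  rw [hZ]
  refine eq_of_points (isClosed_inv (isClosed_WSet j n)) (isClosed_transl _ (isClosed_inv (isClosed_WSet j n))) fun t => ?_
  rw [mem_transl, inv_one, _root_.mul_one]

end JacAlbLib

end
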