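import Groth.Agent.JacAlbLib.Albanese
import Groth.Agent.AlgEquivCurveLib.Curve
import Groth.Agent.AVAmpleLib.NonDegen

/-!
# Sections of invertible modules vanishing at rational points
-/

set_option autoImplicit false
set_option linter.style.haveILetI false
set_option linter.unusedSectionVars false
set_option backward.isDefEq.respectTransparency false
set_option backward.isDefEq.respectTransparency.types false
set_option maxRecDepth 8000
set_option maxHeartbeats 1000000

universe u

open CategoryTheory CategoryTheory.Limits AlgebraicGeometry TopologicalSpace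
open CubeConsLib (pull pull_comp pull_cl cl cl_eq_iff cl_tensor IsoCls)
open EllLawLib (idCls)
open AmpleLib TwistLib

noncomputable section

namespace JacAlbLib

theorem cl_tensorList {Y : Scheme.{u}} : ∀ l : List Y.Modules, cl (FGA.tensorList l) = (l.map cl).prod
  | [] => rfl
  | M :: l => by rw [FGA.tensorList, cl_tensor, cl_tensorList l, List.map_cons, List.prod_cons]

theorem cl_tensorList_ofFn {Y : Scheme.{u}} {n : ℕ} (I : Fin n → Y.IdealSheafData) :
    cl (FGA.tensorList (List.ofFn fun i => ClSub.idealMod (I i))) = ∏ i, idCls (I i) := by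
  rw [cl_tensorList, List.map_ofFn, List.prod_ofFn]
  rfl

theorem cl_tensorPow' {Y : Scheme.{u}} (L : Y.Modules) : ∀ m : ℕ, cl (CohB1.tensorPow L m) = cl L ^ m
  | 0 => (pow_zero _).symm
  | m + 1 => by rw [CohB1.tensorPow, cl_tensor, cl_tensorPow' L m, pow_succ]

variable {k : Type u} [Field k] {X : Scheme.{u}} [X.Over (Spec (CommRingCat.of k))]
  [IsProper (X ↘ Spec (CommRingCat.of k))] [Smooth (X ↘ Spec (CommRingCat.of k))]
  [GeometricallyConnected (X ↘ Spec (CommRingCat.of k))] (hdim : topologicalKrullDim ↥X = 1)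
include hdim

/-- Twisting by the ideal of a rational point. -/
theorem h0_point (x : Spec (CommRingCat.of k) ⟶ X) (hx : x ≫ (X ↘ Spec (CommRingCat.of k)) = 𝟙 _)
    {L N : X.Modules} (hL : PicF.IsInvertible L) (e : cl N = cl L * idCls x.ker) :
    Module.finrank k (Coh.HH X N 0) ≤ Module.finrank k (Coh.HH X L 0) ∧
      ((∃ σ : Γ(L, ⊤), GenAt L σ (show x (IsLocalRing.closedPoint k) ∈ (⊤ : X.Opens) from trivial)) →
        Module.finrank k (Coh.HH X N 0) + 1 = Module.finrank k (Coh.HH X L 0)) := by
  haveI := FibVALib.geometricallyIntegral_of_geometricallyConnected (X ↘ Spec (CommRingCat.of k))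
  haveI := FibVALib.geometricallyIntegral_of_geometricallyConnected (X ↘ Spec (CommRingCat.of k))
  haveI : IsIntegral X := GeometricallyIntegral.isIntegral_of_subsingleton (X ↘ Spec (CommRingCat.of k))
  haveI := CurvLib.isNoetherian k (X := X)
  let P := x (IsLocalRing.closedPoint k)
  have hP : IsClosed ({P} : Set X) := GenusZeroLib.isClosed_rational x hx _
  haveI : IsDiscreteValuationRing (X.presheaf.stalk P) := HurwitzLib.dvr_stalk_closed (k := k) hdim hP
  have hr : letI : Algebra k (X.residueField P) := Curv2.resAlgebra k X P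
      Module.finrank k (X.residueField P) = 1 :=
    GenusZeroLib.finrank_residueField_rational x hx (IsLocalRing.closedPoint k)
  obtain ⟨hgen, hng⟩ := GenusZeroLib.finrank_h0_tensor_ptIdeal (k := k) hP hdim hr hL
  have hker : x.ker = GenusZeroLib.ptIdeal hP := by
    rw [SecDivLib.ker_rational x hx]

  obtain ⟨e'⟩ : Nonempty (N ≅ CohB1.tensorMod L (ClSub.idealMod (GenusZeroLib.ptIdeal hP))) :=
    cl_eq_iff.1 (by rw [e, cl_tensor, hker]; rfl)
  rw [(CurvLib.hIso (k := k) e' 0).finrank_eq]
  refine ⟨?_, hgen⟩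
  by_cases hc : ∃ σ : Γ(L, ⊤), GenAt L σ (show P ∈ (⊤ : X.Opens) from trivial)
  · have := hgen hc
    omega
  · exact (hng fun σ hσ => hc ⟨σ, hσ⟩).le

/-- Twisting by the ideals of rational points does not increase the sections. -/
theorem h0_points_le {n : ℕ} (x : Fin n → (Spec (CommRingCat.of k) ⟶ X))
    (hx : ∀ i, x i ≫ (X ↘ Spec (CommRingCat.of k)) = 𝟙 _) :
    ∀ {L N : X.Modules}, PicF.IsInvertible L → cl N = cl L * ∏ i, idCls (x i).ker →
      Module.finrank k (Coh.HH X N 0) ≤ Module.finrank k (Coh.HH X L 0) := by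
  induction n with
  | zero =>
    intro L N _ e
    rw [Fin.prod_univ_zero, mul_one] at e
    exact (CurvLib.hIso (k := k) (cl_eq_iff.1 e).some 0).finrank_eq.le
  | succ n ih =>
    intro L N hL e
    have hI : PicF.IsInvertible (ClSub.idealMod (x 0).ker) :=
      IntMultLib.isInvertible_idealMod _ (AlgEquivCurveLib.isEffCartier_pt hdim (x 0) (hx 0))
    rw [Fin.prod_univ_succ, ← mul_assoc, idCls, ← cl_tensor] at e
    exact (ih (fun i => x i.succ) (fun i => hx _) (HilbPolyLib.isInvertible_tensor hL hI) e).trans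
      (h0_point hdim (x 0) (hx 0) hL (cl_tensor _ _)).1

/-- A divisor of rational points has a nonzero section. -/
theorem one_le_h0_of_points {n : ℕ} (x : Fin n → (Spec (CommRingCat.of k) ⟶ X))
    (hx : ∀ i, x i ≫ (X ↘ Spec (CommRingCat.of k)) = 𝟙 _) {M : X.Modules} (hM : PicF.IsInvertible M)
    (e : cl M * ∏ i, idCls (x i).ker = 1) : 1 ≤ Module.finrank k (Coh.HH X M 0) := by
  haveI := FibVALib.geometricallyIntegral_of_geometricallyConnected (X ↘ Spec (CommRingCat.of k))
  rw [← FibVALib.finrank_h0_structure k X hdim]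
  exact h0_points_le hdim x hx hM e.symm

/-- An invertible module of degree `m` with a nonzero section comes from `m` points. -/
theorem exists_points_of_h0 [IsAlgClosed k] :
    ∀ (m : ℕ) {N : X.Modules}, PicF.IsInvertible N → Curv2.deg k X N 1 = m →
      1 ≤ Module.finrank k (Coh.HH X N 0) → ∃ x : Fin m → (Spec (CommRingCat.of k) ⟶ X),
        (∀ i, x i ≫ (X ↘ Spec (CommRingCat.of k)) = 𝟙 _) ∧ cl N * ∏ i, idCls (x i).ker = 1 := by
  haveI := FibVALib.geometricallyIntegral_of_geometricallyConnected (X ↘ Spec (CommRingCat.of k))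
  haveI : IsIntegral X := GeometricallyIntegral.isIntegral_of_subsingleton (X ↘ Spec (CommRingCat.of k))
  intro m
  induction m with
  | zero =>
    intro N hN hd h0
    haveI := CurvLib.isNoetherian k (X := X)
    have hnt : Nontrivial (Coh.HH X N 0) := Module.nontrivial_of_finrank_pos (R := k) (by omega)
    obtain ⟨τ, hτ⟩ := CurvLib.exists_hom_ne_zero hnt
    haveI : IsIso τ := CurvLib.isIso_of_euler_le (k := k) CurvLib.isInvertible_structureModule hN hdim hτ (by
      simp only [Curv2.deg] at hd; omega)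
    exact ⟨Fin.elim0, fun i => i.elim0, by
      rw [Fin.prod_univ_zero, mul_one, CubeConsLib.cl_eq_one_iff.2 ⟨(asIso τ).symm⟩]⟩
  | succ m ih =>
    intro N hN hd h0
    obtain ⟨x, hx, N', hN', hd', h0', hcl⟩ :=
      AlgEquivCurveLib.exists_step hdim hN (by push_cast at hd; exact hd) h0
    obtain ⟨xs, hxs, hcl'⟩ := ih hN' hd' h0'
    refine ⟨Fin.cons x xs, Fin.cases hx hxs, ?_⟩
    rw [Fin.prod_univ_succ]
    simp only [Fin.cons_zero, Fin.cons_succ]
    rw [← mul_assoc, ← hcl, hcl']

/-- A nonzero section generates somewhere over a separably closed field. -/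
theorem exists_point_gen [IsSepClosed k] {N : X.Modules} (hN : PicF.IsInvertible N)
    (h0 : 1 ≤ Module.finrank k (Coh.HH X N 0)) :
    ∃ (x : Spec (CommRingCat.of k) ⟶ X), x ≫ (X ↘ Spec (CommRingCat.of k)) = 𝟙 _ ∧
      ∃ σ : Γ(N, ⊤), GenAt N σ (show x (IsLocalRing.closedPoint k) ∈ (⊤ : X.Opens) from trivial) := by
  haveI := FibVALib.geometricallyIntegral_of_geometricallyConnected (X ↘ Spec (CommRingCat.of k))
  haveI : IsIntegral X := GeometricallyIntegral.isIntegral_of_subsingleton (X ↘ Spec (CommRingCat.of k))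
  have hnt : Nontrivial (Coh.HH X N 0) := Module.nontrivial_of_finrank_pos (R := k) (by omega)
  obtain ⟨τ, hτ⟩ := CurvLib.exists_hom_ne_zero hnt
  let U : X.Opens := genSet hN (τ.app ⊤ (1 : Γ(X, ⊤)))
  have hne : (U : Set X).Nonempty := AVAmpleLib.genSet_nonempty hN τ hτ
  haveI : Nonempty U.toScheme := hne.to_subtype
  obtain ⟨w, hw⟩ := GenusZeroLib.exists_rational_point_of_smooth (U.ι ≫ (X ↘ Spec (CommRingCat.of k)))
  exact ⟨w ≫ U.ι, by rw [Category.assoc]; exact hw, _, (w (IsLocalRing.closedPoint k)).2⟩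

end JacAlbLib

end
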