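import Groth.Agent.JacAlbLib.Setup
import Groth.Agent.JacAlbLib.Points

/-!
# The open of good sums of `g` points
-/

set_option autoImplicit false
set_option linter.style.haveILetI false
set_option linter.unusedSectionVars false
set_option backward.isDefEq.respectTransparency false
set_option backward.isDefEq.respectTransparency.types false
set_option maxRecDepth 8000
set_option maxHeartbeats 1000000

universe u

open CategoryTheory CategoryTheory.Limits AlgebraicGeometry TopologicalSpace MonoidalCategory CartesianMonoidalCategory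
open CubeConsLib (pull pull_comp pull_cl cl cl_eq_iff cl_tensor IsoCls)
open EllLawLib (idCls)
open HilbPts (m)
open PicCurveLib
open scoped MonObj

noncomputable section

namespace JacAlbLib

variable {k : Type u} [Field k]

/-- Invertible classes on the spectrum of a field are trivial. -/
theorem invC_spec {n : IsoCls (Spec (CommRingCat.of k))} (hn : InvC n) : n = 1 := by
  obtain ⟨L, hL, rfl⟩ := hn
  obtain ⟨U, hU, ⟨e⟩⟩ := hL (IsLocalRing.closedPoint k)
  have hT : U = ⊤ := eq_top_iff.2 fun x _ => (Subsingleton.elim (α := PrimeSpectrum k) (IsLocalRing.closedPoint k) x) ▸ hU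
  haveI : IsIso U.ι := by subst hT; exact (Scheme.topIso _).isIso_hom
  have h : pull U.ι (cl L) = 1 := by
    rw [pull_cl]
    exact CubeConsLib.cl_eq_one_iff.2 ⟨((Scheme.Modules.restrictFunctorIsoPullback U.ι).app L).symm ≪≫ e⟩
  have h2 := congrArg (pull (inv U.ι)) h
  rwa [pull_comp, IsIso.inv_hom_id, DescAppLib.pull_id, map_one] at h2

variable {C : Scheme.{u}} [C.Over (Spec (CommRingCat.of k))]

/-- The curve as the base change to the trivial base. -/
def toXT₀ : C ⟶ PicF.XT (C ↘ Spec (CommRingCat.of k)) (𝟙_ (Over (Spec (CommRingCat.of k)))) :=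
  pullback.lift (𝟙 C) (C ↘ Spec (CommRingCat.of k)) (by
    show 𝟙 C ≫ (C ↘ Spec (CommRingCat.of k)) = (C ↘ Spec (CommRingCat.of k)) ≫ 𝟙 _
    rw [Category.id_comp, Category.comp_id])

@[simp]
theorem toXT₀_fst : toXT₀ (k := k) (C := C) ≫ pullback.fst _ _ = 𝟙 C := pullback.lift_fst _ _ _

theorem isPullback_toXT₀ : IsPullback (toXT₀ (k := k) (C := C)) (C ↘ Spec (CommRingCat.of k))
    (PicF.XTproj (C ↘ Spec (CommRingCat.of k)) (𝟙_ (Over (Spec (CommRingCat.of k))))) (𝟙 _) := by
  haveI : IsIso (pullback.fst (C ↘ Spec (CommRingCat.of k)) (𝟙_ (Over (Spec (CommRingCat.of k)))).hom) :=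
    inferInstanceAs (IsIso (pullback.fst (C ↘ Spec (CommRingCat.of k)) (𝟙 (Spec (CommRingCat.of k)))))
  haveI : IsIso (toXT₀ (k := k) (C := C)) := by
    rw [show toXT₀ (k := k) (C := C) = inv (pullback.fst (C ↘ Spec (CommRingCat.of k))
      (𝟙_ (Over (Spec (CommRingCat.of k)))).hom) from (IsIso.inv_eq_of_inv_hom_id toXT₀_fst).symm]
    infer_instance
  exact IsPullback.of_horiz_isIso ⟨(pullback.lift_snd _ _ _).trans (Category.comp_id _).symm⟩

/-- The class on the curve of a point. -/
theorem pull_toXT₀_pc [IsProper (C ↘ Spec (CommRingCat.of k))] [Smooth (C ↘ Spec (CommRingCat.of k))]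
    [GeometricallyConnected (C ↘ Spec (CommRingCat.of k))] (hdim : topologicalKrullDim ↥C = 1)
    (hf : Fam (C ↘ Spec (CommRingCat.of k))) (u : 𝟙_ (Over (Spec (CommRingCat.of k))) ⟶ Over.mk (C ↘ Spec (CommRingCat.of k))) :
    pull (toXT₀ (k := k) (C := C)) (pc u) = idCls u.left.ker := by
  have hu : u.left ≫ (C ↘ Spec (CommRingCat.of k)) = 𝟙 _ := Over.w u
  haveI : IsClosedImmersion u.left := by
    haveI : IsClosedImmersion (u.left ≫ (C ↘ Spec (CommRingCat.of k))) := by rw [hu]; infer_instance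
    exact IsClosedImmersion.of_comp u.left (C ↘ Spec (CommRingCat.of k))
  let s := HilbPts.SC.secF (C ↘ Spec (CommRingCat.of k)) (g := (𝟙_ (Over (Spec (CommRingCat.of k)))).hom) u.left (Over.w u)
  haveI : IsClosedImmersion s := HilbPts.SC.isClosedImmersion_secF _ _ _
  haveI : IsIso (toXT₀ (k := k) (C := C)) :=
    (isPullback_toXT₀ (k := k) (C := C)).isIso_fst_of_isIso
  have hs : u.left ≫ toXT₀ (k := k) (C := C) = s := by
    apply pullback.hom_ext
    · rw [Category.assoc]
      erw [toXT₀_fst, Category.comp_id, HilbPts.SC.secF_fst]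
    · rw [Category.assoc, toXT₀, pullback.lift_snd, hu, HilbPts.SC.secF_snd]
  have hcomap := HilbPts.SC.comap_ker_of_isPullback (s := s) (s' := u.left) (toXT₀ (k := k) (C := C)) hs
  rw [pc, EllLawLib.pull_idCls _ (effCartier_sec hf u) (by
    rw [hcomap]; exact AlgEquivCurveLib.isEffCartier_pt hdim u.left hu), hcomap]

variable [IsProper (C ↘ Spec (CommRingCat.of k))] [Smooth (C ↘ Spec (CommRingCat.of k))]
  [GeometricallyConnected (C ↘ Spec (CommRingCat.of k))] (hdim : topologicalKrullDim ↥C = 1)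
  (hf : Fam (C ↘ Spec (CommRingCat.of k))) {σ : Spec (CommRingCat.of k) ⟶ C}
  {hσ : σ ≫ (C ↘ Spec (CommRingCat.of k)) = 𝟙 _} {J : Over (Spec (CommRingCat.of k))} [GrpObj J] [IsProper J.hom]
  [Smooth J.hom] [GeometricallyIntegral J.hom] {c : IsoCls (PicF.XT (C ↘ Spec (CommRingCat.of k)) J)}
  (hc : IsRigJac σ hσ J c) {j : Over.mk (C ↘ Spec (CommRingCat.of k)) ⟶ J} (hj : IsAbel σ hσ c j)
include hdim hf hc hj

/-- The open of the Jacobian of classes with exactly one section after adding `g` times the base point. -/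
theorem exists_good_open [IsAlgClosed k] :
    ∃ U : J.left.Opens, (∀ (x : 𝟙_ (Over (Spec (CommRingCat.of k))) ⟶ J), x.left (IsLocalRing.closedPoint k) ∈ U →
        ∀ M : C.Modules, PicF.IsInvertible M →
          cl M * idCls σ.ker ^ Curv2.genus k C = pull toXT₀ (pull (PicF.XTmap _ x) c) →
            Module.finrank k (Coh.HH C M 0) = 1) ∧
      ∃ w : Fin (Curv2.genus k C) → (𝟙_ (Over (Spec (CommRingCat.of k))) ⟶ Over.mk (C ↘ Spec (CommRingCat.of k))),
        ∀ [IsCommMonObj J], (∏ i, w i ≫ j).left (IsLocalRing.closedPoint k) ∈ U := by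
  obtain ⟨hsm, hgi, hX⟩ := hilb_hyps hf
  haveI := hsm; haveI := hgi
  haveI : IsSeparated (C ↘ Spec (CommRingCat.of k)) := inferInstance
  set g := Curv2.genus k C with hgdef
  have hrep : ∀ d : ℕ, HilbD.Representable (C ↘ Spec (CommRingCat.of k)) d := fun d => by
    obtain ⟨H, Z, hZ, -, -⟩ := Groth.Agent.S1170.result k C (C ↘ Spec (CommRingCat.of k)) hX d
    exact ⟨H, Z, hZ⟩
  obtain ⟨H, Z, hZ⟩ := hrep g
  obtain ⟨a, htw, Y, ξ, IY, jY, hjYg, hjY, hIY, hdiv, hgood, θ, hθ, hθo, hne⟩ := exists_theta hf hc hj hrep hZ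
  haveI := hθo; haveI := hjY
  let T₀ : Over (Spec (CommRingCat.of k)) := 𝟙_ _
  have hb := congrArg (pull (toXT₀ (k := k) (C := C))) (htw T₀)
  rw [map_mul, map_pow, map_one, pull_toXT₀_pc hdim hf, tw, pull_comp, toXT₀_fst, DescAppLib.pull_id,
    show (base σ hσ T₀).left = σ from Category.id_comp σ] at hb
  -- points of the image
  have key : ∀ (x : T₀ ⟶ J), x.left (IsLocalRing.closedPoint k) ∈ θ.left.opensRange →
      ∀ M : C.Modules, PicF.IsInvertible M → cl M = pull toXT₀ (pull (PicF.XTmap _ x) c) * a →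
        Module.finrank k (Coh.HH C M 0) = 1 := by
    intro x hx M hM eM
    have hr : Set.range x.left ⊆ Set.range θ.left := by
      rintro _ ⟨p, rfl⟩
      rw [show p = IsLocalRing.closedPoint k from Subsingleton.elim (α := PrimeSpectrum k) _ _]
      exact hx
    let y := IsOpenImmersion.lift θ.left x.left hr
    have hy : y ≫ θ.left = x.left := IsOpenImmersion.lift_fac _ _ _
    have wy : y ≫ ξ.g = T₀.hom := by
      rw [show ξ.g = θ.left ≫ J.hom from (Over.w θ).symm, ← Category.assoc, hy]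
      exact Over.w x
    let y' : T₀ ⟶ Over.mk ξ.g := Over.homMk y wy
    have hyx : y' ≫ θ = x := Over.OverMorphism.ext hy
    obtain ⟨L, hL, eL, hgL⟩ := hgood.pull_m hf y wy
    have hLC := hgL.baseChange hL (isPullback_toXT₀ (k := k) (C := C))
    have e : cl ((Scheme.Modules.pullback (toXT₀ (k := k) (C := C))).obj L) = cl M := by
      rw [← pull_cl, eL, eM, ← hyx, ← DescAppLib.XTmap_comp, ← pull_comp, hθ, HilbPts.xtMap_eq]
      show pull toXT₀ (pull (m _ y wy) (ξ.c * tw a ξ.g)) = _
      rw [map_mul, map_mul, pull_fst_m y wy a]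
      congr 1
      exact (pull_comp _ _ _).trans ((congrArg (fun z => pull z a) toXT₀_fst).trans (DescAppLib.pull_id a))
    rw [← (CurvLib.hIso (k := k) (cl_eq_iff.1 e).some 0).finrank_eq,
      ← fiberRank_spec_mod (C ↘ Spec (CommRingCat.of k)) (AmpleDevLib.isInvertible_pb _ hL) 0 (IsLocalRing.closedPoint k)]
    exact (hLC (IsLocalRing.closedPoint k)).2
  refine ⟨θ.left.opensRange, fun x hx M hM eM => key x hx M hM ?_, ?_⟩
  · rw [← eM]
    exact (by
      calc cl M = cl M * (a * idCls σ.ker ^ g) := by rw [hb, mul_one]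
        _ = _ := by ac_rfl)
  -- some sum of points lies in the image
  haveI : LocallyOfFiniteType (Over.mk ξ.g).hom := by
    show LocallyOfFiniteType ξ.g
    rw [show ξ.g = θ.left ≫ J.hom from (Over.w θ).symm]
    infer_instance
  haveI : LocallyOfFiniteType ξ.g := inferInstanceAs (LocallyOfFiniteType (Over.mk ξ.g).hom)
  haveI : JacobsonSpace Y := LocallyOfFiniteType.jacobsonSpace ξ.g
  obtain ⟨y₀, -, hy₀⟩ := (nonempty_inter_closedPoints (Set.univ_nonempty (α := Y)) isOpen_univ.isLocallyClosed)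
  let y : T₀ ⟶ Over.mk ξ.g := Over.homMk (pointOfClosedPoint ξ.g y₀ hy₀) (pointOfClosedPoint_comp ξ.g y₀ hy₀)
  let x : T₀ ⟶ J := y ≫ θ
  have hxU : x.left (IsLocalRing.closedPoint k) ∈ θ.left.opensRange := ⟨y.left (IsLocalRing.closedPoint k), rfl⟩
  obtain ⟨L, hL, eL, dL⟩ := (rigZero_pull hf σ hσ x hc.rigZero).rep
  have haInv : InvC a := by
    have hu : InvC (idCls σ.ker ^ g) := by
      clear hb
      induction g with
      | zero => rw [pow_zero]; exact ⟨_, CurvLib.isInvertible_structureModule, rfl⟩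
      | succ n ih => rw [pow_succ]; exact ih.mul (invC_idCls (AlgEquivCurveLib.isEffCartier_pt hdim σ hσ))
    obtain ⟨a', ha', hua⟩ := hu.exists_inv
    rwa [show a = a' by
      calc a = a * (idCls σ.ker ^ g * a') := by rw [hua, mul_one]
        _ = a' := by rw [← mul_assoc, hb, one_mul]]
  obtain ⟨A, hA, rfl⟩ := haInv
  let M := CohB1.tensorMod ((Scheme.Modules.pullback (toXT₀ (k := k) (C := C))).obj L) A
  have hM : PicF.IsInvertible M := HilbPolyLib.isInvertible_tensor (AmpleDevLib.isInvertible_pb _ hL) hA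
  have eM : cl M = pull toXT₀ (pull (PicF.XTmap _ x) c) * cl A := by rw [cl_tensor, ← pull_cl, eL]
  have h0 := key x hxU M hM eM
  have hdM : Curv2.deg k C M 1 = (g : ℤ) := by
    obtain ⟨L', hL', eL', hgL'⟩ := hgood.pull_m hf y.left (Over.w y)
    have h := deg_good hf T₀ (G := cl L') ⟨L', hL', rfl, hgL'⟩ rfl (IsLocalRing.closedPoint k)
    have h' := (deg_point (C ↘ Spec (CommRingCat.of k)) hf.dim_le T₀ hL' (K := k) (Z := C) (g' := toXT₀) (v := 𝟙 _)
      (isPullback_toXT₀ (k := k) (C := C)) (IsLocalRing.closedPoint k)).trans h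
    rw [chi_eq_euler hf, chi_eq_euler hf] at h'
    rw [Curv2.deg, Nat.cast_one, one_mul, hgdef, ← h']
    congr 1
    refine CurvLib.euler_congr (k := k) (cl_eq_iff.1 ?_).some
    have e1 : pull (PicF.XTmap _ x) c = pull (m _ y.left (Over.w y)) ξ.c := by
      rw [show x = y ≫ θ from rfl, ← DescAppLib.XTmap_comp, ← pull_comp, hθ, HilbPts.xtMap_eq]
    have e2 : pull (toXT₀ (k := k) (C := C)) (pull (m _ y.left (Over.w y)) (tw (cl A) ξ.g)) = cl A :=
      (congrArg (pull (toXT₀ (k := k) (C := C))) (pull_fst_m y.left (Over.w y) (cl A))).trans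
        ((pull_comp _ _ _).trans ((congrArg (fun z => pull z (cl A)) toXT₀_fst).trans (DescAppLib.pull_id _)))
    rw [← pull_cl, eL', eM, map_mul, map_mul]
    exact congrArg₂ (· * ·) (congrArg _ e1) e2.symm
  obtain ⟨pts, hpts, epts⟩ := exists_points_of_h0 hdim g hM hdM h0.ge
  let w : Fin g → (T₀ ⟶ Over.mk (C ↘ Spec (CommRingCat.of k))) := fun i => Over.homMk (pts i) (hpts i)
  refine ⟨w, fun {_} => ?_⟩
  have hxw : x = ∏ i, w i ≫ j := by
    refine eq_prod_abel hf hc hj htw x w (n₀ := 1) ⟨_, CurvLib.isInvertible_structureModule, rfl⟩ ?_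
    haveI : IsIso (toXT₀ (k := k) (C := C)) := (isPullback_toXT₀ (k := k) (C := C)).isIso_fst_of_isIso
    rw [map_one]
    have hinj : Function.Injective (pull (toXT₀ (k := k) (C := C))) := fun z z' h => by
      have h2 := congrArg (pull (inv (toXT₀ (k := k) (C := C)))) h
      rwa [pull_comp, pull_comp, IsIso.inv_hom_id, DescAppLib.pull_id, DescAppLib.pull_id] at h2
    refine hinj ?_
    rw [map_one, map_mul, map_mul, map_prod]
    simp only [pull_toXT₀_pc hdim hf]
    rw [mul_comm, show pull (toXT₀ (k := k) (C := C)) (tw (cl A) T₀.hom) = cl A from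
      ((pull_comp _ _ _).trans ((congrArg (fun z => pull z (cl A)) toXT₀_fst).trans (DescAppLib.pull_id _))), ← eM]
    exact epts
  rw [← hxw]
  exact hxU

end JacAlbLib

end
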