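import Groth.Agent.JacAlbLib.Points
import Groth.Agent.CurveH0Lib.DegBound
import Groth.Agent.PicCurveLib.TwistPts
import Groth.Agent.CurveDualLib.DualField

/-!
# Adding rational points: sections and the speciality
-/

set_option autoImplicit false
set_option linter.style.haveILetI false
set_option linter.unusedSectionVars false
set_option backward.isDefEq.respectTransparency false
set_option backward.isDefEq.respectTransparency.types false
set_option maxRecDepth 8000
set_option maxHeartbeats 1000000

universe u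

open CategoryTheory CategoryTheory.Limits AlgebraicGeometry TopologicalSpace
open CubeConsLib (pull pull_comp pull_cl cl cl_eq_iff cl_tensor IsoCls)
open EllLawLib (idCls)
open AmpleLib TwistLib PicCurveLib

noncomputable section

namespace JacAlbLib

variable {k : Type u} [Field k] {X : Scheme.{u}} [X.Over (Spec (CommRingCat.of k))]
  [IsProper (X ↘ Spec (CommRingCat.of k))] [Smooth (X ↘ Spec (CommRingCat.of k))]
  [GeometricallyConnected (X ↘ Spec (CommRingCat.of k))] (hdim : topologicalKrullDim ↥X = 1)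

theorem h_congr {L M : X.Modules} (e : cl L = cl M) (i : ℕ) :
    Module.finrank k (Coh.HH X L i) = Module.finrank k (Coh.HH X M i) :=
  (CurvLib.hIso (k := k) (cl_eq_iff.1 e).some i).finrank_eq

theorem deg_congr' {L M : X.Modules} (e : cl L = cl M) : Curv2.deg k X L 1 = Curv2.deg k X M 1 :=
  CurvLib.deg_congr (cl_eq_iff.1 e).some 1

/-- The class of a differential form. -/
abbrev omegaCls (k : Type u) [Field k] (X : Scheme.{u}) [X.Over (Spec (CommRingCat.of k))] : IsoCls X :=
  cl (Omega.sheaf (X ↘ Spec (CommRingCat.of k)))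

include hdim

theorem invC_point (x : Spec (CommRingCat.of k) ⟶ X) (hx : x ≫ (X ↘ Spec (CommRingCat.of k)) = 𝟙 _) :
    InvC (idCls x.ker) :=
  invC_idCls (AlgEquivCurveLib.isEffCartier_pt hdim x hx)

omit hdim in
/-- Division by an invertible class. -/
theorem exists_div {L : X.Modules} (hL : PicF.IsInvertible L) {a : IsoCls X} (ha : InvC a) :
    ∃ N : X.Modules, PicF.IsInvertible N ∧ cl N * a = cl L := by
  obtain ⟨b, hb, hab⟩ := ha.exists_inv
  obtain ⟨N, hN, e⟩ := InvC.mul ⟨L, hL, rfl⟩ hb
  exact ⟨N, hN, by rw [e, mul_assoc, mul_comm b a, hab, mul_one]⟩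

theorem invC_omega : InvC (omegaCls k X) := ⟨_, CurveDualLib.omega_invertible_field k X hdim, rfl⟩

/-- Riemann-Roch. -/
theorem rr (L : X.Modules) : (Module.finrank k (Coh.HH X L 0) : ℤ) =
    Curv2.deg k X L 1 + 1 - (Curv2.genus k X : ℤ) + (Module.finrank k (Coh.HH X L 1) : ℤ) := by
  haveI := FibVALib.geometricallyIntegral_of_geometricallyConnected (X ↘ Spec (CommRingCat.of k))
  haveI : IsIntegral X := GeometricallyIntegral.isIntegral_of_subsingleton (X ↘ Spec (CommRingCat.of k))
  have h := CurvLib.deg_curve (k := k) hdim L (FibVALib.finrank_h0_structure k X hdim)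
  omega

theorem deg_mul {L M N : X.Modules} (hL : PicF.IsInvertible L) (hM : PicF.IsInvertible M)
    (e : cl N = cl L * cl M) : Curv2.deg k X N 1 = Curv2.deg k X L 1 + Curv2.deg k X M 1 := by
  haveI := FibVALib.geometricallyIntegral_of_geometricallyConnected (X ↘ Spec (CommRingCat.of k))
  haveI : IsIntegral X := GeometricallyIntegral.isIntegral_of_subsingleton (X ↘ Spec (CommRingCat.of k))
  rw [deg_congr' (e.trans (cl_tensor L M).symm), GenusZeroLib.deg_tensor k hdim hL hM]

/-- The dual with respect to the differentials. -/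
theorem exists_dual {L : X.Modules} (hL : PicF.IsInvertible L) :
    ∃ M : X.Modules, PicF.IsInvertible M ∧ cl M * cl L = omegaCls k X ∧
      Module.finrank k (Coh.HH X L 1) = Module.finrank k (Coh.HH X M 0) := by
  obtain ⟨M, hM, e⟩ := exists_div (CurveDualLib.omega_invertible_field k X hdim) (a := cl L) ⟨L, hL, rfl⟩
  refine ⟨M, hM, e, CurveDualLib.h1_eq_h0 k X hdim hL hM (cl_eq_iff.1 ?_).some⟩
  rw [cl_tensor, mul_comm, e]

/-- Serre duality on classes. -/
theorem h1_eq_h0' {L M : X.Modules} (hL : PicF.IsInvertible L) (hM : PicF.IsInvertible M)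
    (e : cl M * cl L = omegaCls k X) :
    Module.finrank k (Coh.HH X L 1) = Module.finrank k (Coh.HH X M 0) :=
  CurveDualLib.h1_eq_h0 k X hdim hL hM (cl_eq_iff.1 (by rw [cl_tensor, mul_comm, e])).some

theorem deg_point (x : Spec (CommRingCat.of k) ⟶ X) (hx : x ≫ (X ↘ Spec (CommRingCat.of k)) = 𝟙 _) :
    Curv2.deg k X (ClSub.idealMod x.ker) 1 = -1 := by
  haveI := FibVALib.geometricallyIntegral_of_geometricallyConnected (X ↘ Spec (CommRingCat.of k))
  haveI : IsIntegral X := GeometricallyIntegral.isIntegral_of_subsingleton (X ↘ Spec (CommRingCat.of k))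
  haveI := CurvLib.isNoetherian k (X := X)
  have hP : IsClosed ({x (IsLocalRing.closedPoint k)} : Set X) := GenusZeroLib.isClosed_rational x hx _
  haveI : IsDiscreteValuationRing (X.presheaf.stalk (x (IsLocalRing.closedPoint k))) :=
    HurwitzLib.dvr_stalk_closed (k := k) hdim hP
  obtain ⟨I, ⟨e⟩, -, hd⟩ := GenusZeroLib.exists_idealMod_iso (k := k) hP hdim
  rw [SecDivLib.ker_rational x hx]
  refine (CurvLib.deg_congr e.symm 1).trans (hd.trans ?_)
  rw [GenusZeroLib.finrank_residueField_rational x hx (IsLocalRing.closedPoint k), Nat.cast_one]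

/-- The degree after adding a rational point. -/
theorem deg_add_point (x : Spec (CommRingCat.of k) ⟶ X) (hx : x ≫ (X ↘ Spec (CommRingCat.of k)) = 𝟙 _)
    {L N : X.Modules} (hN : PicF.IsInvertible N) (e : cl N * idCls x.ker = cl L) :
    Curv2.deg k X L 1 + 1 = Curv2.deg k X N 1 := by
  rw [deg_mul hdim hN (IntMultLib.isInvertible_idealMod _ (AlgEquivCurveLib.isEffCartier_pt hdim x hx)) e.symm,
    deg_point hdim x hx]
  ring

/-- Sections not generating at a rational point survive. -/
theorem h0_point_not_gen (x : Spec (CommRingCat.of k) ⟶ X) (hx : x ≫ (X ↘ Spec (CommRingCat.of k)) = 𝟙 _)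
    {L N : X.Modules} (hL : PicF.IsInvertible L) (e : cl N = cl L * idCls x.ker)
    (hng : ∀ σ : Γ(L, ⊤), ¬ GenAt L σ (show x (IsLocalRing.closedPoint k) ∈ (⊤ : X.Opens) from trivial)) :
    Module.finrank k (Coh.HH X N 0) = Module.finrank k (Coh.HH X L 0) := by
  haveI := FibVALib.geometricallyIntegral_of_geometricallyConnected (X ↘ Spec (CommRingCat.of k))
  haveI : IsIntegral X := GeometricallyIntegral.isIntegral_of_subsingleton (X ↘ Spec (CommRingCat.of k))
  haveI := CurvLib.isNoetherian k (X := X)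
  have hP : IsClosed ({x (IsLocalRing.closedPoint k)} : Set X) := GenusZeroLib.isClosed_rational x hx _
  haveI : IsDiscreteValuationRing (X.presheaf.stalk (x (IsLocalRing.closedPoint k))) :=
    HurwitzLib.dvr_stalk_closed (k := k) hdim hP
  have h := (GenusZeroLib.finrank_h0_tensor_ptIdeal (k := k) hP hdim
    (GenusZeroLib.finrank_residueField_rational x hx (IsLocalRing.closedPoint k)) hL).2 hng
  refine (h_congr ?_ 0).trans h
  rw [e, cl_tensor, SecDivLib.ker_rational x hx]
  rfl

/-- Adding a point: the speciality drops exactly where the dual generates. -/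
theorem h1_add_point (x : Spec (CommRingCat.of k) ⟶ X) (hx : x ≫ (X ↘ Spec (CommRingCat.of k)) = 𝟙 _)
    {L M N : X.Modules} (hL : PicF.IsInvertible L) (hM : PicF.IsInvertible M) (hN : PicF.IsInvertible N)
    (eM : cl M * cl L = omegaCls k X) (e : cl N * idCls x.ker = cl L) :
    ((∃ σ : Γ(M, ⊤), GenAt M σ (show x (IsLocalRing.closedPoint k) ∈ (⊤ : X.Opens) from trivial)) →
      Module.finrank k (Coh.HH X N 1) + 1 = Module.finrank k (Coh.HH X L 1)) ∧
    ((∀ σ : Γ(M, ⊤), ¬ GenAt M σ (show x (IsLocalRing.closedPoint k) ∈ (⊤ : X.Opens) from trivial)) →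
      Module.finrank k (Coh.HH X N 1) = Module.finrank k (Coh.HH X L 1)) := by
  have hI := IntMultLib.isInvertible_idealMod _ (AlgEquivCurveLib.isEffCartier_pt hdim x hx)
  let M' := CohB1.tensorMod M (ClSub.idealMod x.ker)
  have e' : cl M' = cl M * idCls x.ker := cl_tensor _ _
  rw [h1_eq_h0' hdim hL hM eM, h1_eq_h0' hdim hN (HilbPolyLib.isInvertible_tensor hM hI)
    (show cl M' * cl N = omegaCls k X by rw [e', mul_assoc, mul_comm (idCls x.ker), e, eM])]
  exact ⟨(h0_point hdim x hx hM e').2, h0_point_not_gen hdim x hx hM e'⟩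

/-- A special bundle has a point whose addition creates no section. -/
theorem exists_point_h0_eq [IsSepClosed k] {L : X.Modules} (hL : PicF.IsInvertible L)
    (h1 : 1 ≤ Module.finrank k (Coh.HH X L 1)) :
    ∃ (x : Spec (CommRingCat.of k) ⟶ X), x ≫ (X ↘ Spec (CommRingCat.of k)) = 𝟙 _ ∧
      ∀ N : X.Modules, PicF.IsInvertible N → cl N * idCls x.ker = cl L →
        Module.finrank k (Coh.HH X N 0) = Module.finrank k (Coh.HH X L 0) ∧
          Module.finrank k (Coh.HH X N 1) + 1 = Module.finrank k (Coh.HH X L 1) := by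
  obtain ⟨M, hM, eM, h⟩ := exists_dual (k := k) hdim hL
  obtain ⟨x, hx, hgen⟩ := exists_point_gen hdim hM (h ▸ h1)
  refine ⟨x, hx, fun N hN e => ?_⟩
  have h' := (h1_add_point hdim x hx hL hM hN eM e).1 hgen
  have := deg_add_point hdim x hx hN e
  have := rr (k := k) hdim N
  have := rr (k := k) hdim L
  exact ⟨by omega, h'⟩

/-- A bundle all of whose translates by `n` points have sections has a section itself, in small degree. -/
theorem one_le_h0_of_forall [IsSepClosed k] :
    ∀ (n : ℕ) {L : X.Modules}, PicF.IsInvertible L → Curv2.deg k X L 1 + n + 1 ≤ (Curv2.genus k X : ℤ) →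
      (∀ x : Fin n → (Spec (CommRingCat.of k) ⟶ X), (∀ i, x i ≫ (X ↘ Spec (CommRingCat.of k)) = 𝟙 _) →
        ∀ N : X.Modules, PicF.IsInvertible N → cl N * ∏ i, idCls (x i).ker = cl L →
          1 ≤ Module.finrank k (Coh.HH X N 0)) →
      1 ≤ Module.finrank k (Coh.HH X L 0) := by
  intro n
  induction n with
  | zero =>
    intro L hL _ h
    exact h Fin.elim0 (fun i => i.elim0) L hL (by rw [Fin.prod_univ_zero, mul_one])
  | succ n ih =>
    intro L hL hd h
    by_contra h0
    have := rr (k := k) hdim L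
    obtain ⟨x, hx, hx'⟩ := exists_point_h0_eq (k := k) hdim hL (by push_cast at hd; omega)
    obtain ⟨N, hN, e⟩ := exists_div hL (invC_point hdim x hx)
    have := (hx' N hN e).1
    refine h0 (this ▸ ih hN (by rw [← deg_add_point hdim x hx hN e]; push_cast at hd; omega) fun xs hxs P hP eP => ?_)
    refine h (Fin.cons x xs) (Fin.cases hx hxs) P hP ?_
    rw [Fin.prod_univ_succ]
    simp only [Fin.cons_zero, Fin.cons_succ]
    rw [mul_comm (idCls x.ker), ← mul_assoc, eP, e]

/-- Degree above `2g - 2` is nonspecial. -/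
theorem h0_of_deg {L : X.Modules} (hL : PicF.IsInvertible L)
    (hd : 2 * (Curv2.genus k X : ℤ) - 2 < Curv2.deg k X L 1) :
    (Module.finrank k (Coh.HH X L 0) : ℤ) = Curv2.deg k X L 1 + 1 - (Curv2.genus k X : ℤ) := by
  haveI := FibVALib.geometricallyIntegral_of_geometricallyConnected (X ↘ Spec (CommRingCat.of k))
  haveI : IsIntegral X := GeometricallyIntegral.isIntegral_of_subsingleton (X ↘ Spec (CommRingCat.of k))
  have := rr (k := k) hdim L
  rw [PicCurveLib.h1_eq_zero_of_deg hdim hL hd] at this
  simpa using this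

end JacAlbLib

end
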