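import Groth.Agent.JacAlbLib.Generic

/-!
# Classes of sums of rational points
-/

set_option autoImplicit false
set_option linter.style.haveILetI false
set_option linter.unusedSectionVars false
set_option backward.isDefEq.respectTransparency false
set_option backward.isDefEq.respectTransparency.types false
set_option maxRecDepth 8000
set_option maxHeartbeats 1000000

universe u

open CategoryTheory CategoryTheory.Limits AlgebraicGeometry TopologicalSpace MonoidalCategory CartesianMonoidalCategory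
open CubeConsLib (pull pull_comp pull_cl cl cl_eq_iff cl_tensor IsoCls)
open EllLawLib (idCls)
open PicCurveLib SymProd
open scoped MonObj

noncomputable section

namespace JacAlbLib

variable {k : Type u} [Field k] {C : Scheme.{u}} [C.Over (Spec (CommRingCat.of k))]

/-- A rational point of the curve as a map over the base. -/
abbrev pt (x : Spec (CommRingCat.of k) ⟶ C) (hx : x ≫ (C ↘ Spec (CommRingCat.of k)) = 𝟙 _) :
    𝟙_ (Over (Spec (CommRingCat.of k))) ⟶ Over.mk (C ↘ Spec (CommRingCat.of k)) := Over.homMk x hx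

/-- The ideal class of a rational point. -/
abbrev pid (u : 𝟙_ (Over (Spec (CommRingCat.of k))) ⟶ Over.mk (C ↘ Spec (CommRingCat.of k))) : IsoCls C :=
  idCls (X := C) u.left.ker

variable [IsProper (C ↘ Spec (CommRingCat.of k))] [Smooth (C ↘ Spec (CommRingCat.of k))]
  [GeometricallyConnected (C ↘ Spec (CommRingCat.of k))] (hdim : topologicalKrullDim ↥C = 1)
  (hf : Fam (C ↘ Spec (CommRingCat.of k))) {σ : Spec (CommRingCat.of k) ⟶ C}
  {hσ : σ ≫ (C ↘ Spec (CommRingCat.of k)) = 𝟙 _} {J : Over (Spec (CommRingCat.of k))} [GrpObj J] [IsProper J.hom]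
  [Smooth J.hom] [GeometricallyIntegral J.hom] {c : IsoCls (PicF.XT (C ↘ Spec (CommRingCat.of k)) J)}
  (hc : IsRigJac σ hσ J c) {j : Over.mk (C ↘ Spec (CommRingCat.of k)) ⟶ J} (hj : IsAbel σ hσ c j)
include hdim hf hc hj

/-- The class of a sum of Abel images. -/
theorem class_prod [IsCommMonObj J] {n : ℕ}
    (u : Fin n → (𝟙_ (Over (Spec (CommRingCat.of k))) ⟶ Over.mk (C ↘ Spec (CommRingCat.of k)))) :
    pull toXT₀ (pull (PicF.XTmap _ (∏ i, u i ≫ j)) c) * ∏ i, pid (u i) = idCls σ.ker ^ n := by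
  obtain ⟨m, hm, e⟩ := pull_prod_abel hf hc hj (𝟙_ _) Finset.univ u
  rw [show m = 1 from invC_spec hm, map_one, mul_one, Finset.card_univ, Fintype.card_fin] at e
  have h := congrArg (pull (toXT₀ (k := k) (C := C))) e
  rw [map_mul, map_prod, map_pow, pull_toXT₀_pc hdim hf, show (base σ hσ (𝟙_ _)).left = σ from Category.id_comp σ] at h
  simpa only [pull_toXT₀_pc hdim hf] using h

omit hc hj in
theorem isUnit_pts {n : ℕ} (x : Fin n → (Spec (CommRingCat.of k) ⟶ C))
    (hx : ∀ i, x i ≫ (C ↘ Spec (CommRingCat.of k)) = 𝟙 _) : IsUnit (∏ i, idCls (x i).ker) :=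
  IsUnit.prod_iff.2 fun i _ => (invC_idCls (AlgEquivCurveLib.isEffCartier_pt hdim (x i) (hx i))).isUnit

omit hdim hf hc hj in
theorem fp_pt {n : ℕ} (x : Spec (CommRingCat.of k) ⟶ fibPow (C ↘ Spec (CommRingCat.of k)) n)
    (hx : x ≫ HilbPts.SC.fb (C ↘ Spec (CommRingCat.of k)) n = 𝟙 _) (i : Fin n) :
    (x ≫ HilbPts.SC.fp (C ↘ Spec (CommRingCat.of k)) i) ≫ (C ↘ Spec (CommRingCat.of k)) = 𝟙 _ := by
  rw [Category.assoc, HilbPts.SC.fp_comp, hx]

omit hdim hf hc hj in
theorem homMk_xi {n : ℕ} (x : Spec (CommRingCat.of k) ⟶ fibPow (C ↘ Spec (CommRingCat.of k)) n)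
    (hx : x ≫ HilbPts.SC.fb (C ↘ Spec (CommRingCat.of k)) n = 𝟙 _) (i : Fin n) :
    (Over.homMk x hx : 𝟙_ (Over (Spec (CommRingCat.of k))) ⟶ Over.mk (HilbPts.SC.fb _ n)) ≫ xi i =
      pt (x ≫ HilbPts.SC.fp (C ↘ Spec (CommRingCat.of k)) i) (fp_pt x hx i) :=
  Over.OverMorphism.ext rfl

end JacAlbLib

end
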