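import Groth.Agent.JacAlbLib.Twist
import Groth.Agent.JacAlbLib.Corr
import Groth.Agent.JacAlbLib.PointClass

/-!
# Rational points of the images of the symmetric powers
-/

set_option autoImplicit false
set_option linter.style.haveILetI false
set_option linter.unusedSectionVars false
set_option backward.isDefEq.respectTransparency false
set_option backward.isDefEq.respectTransparency.types false
set_option maxRecDepth 8000
set_option maxHeartbeats 1000000

universe u

open CategoryTheory CategoryTheory.Limits AlgebraicGeometry TopologicalSpace MonoidalCategory CartesianMonoidalCategory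
open CubeConsLib (pull pull_comp pull_cl cl cl_eq_iff cl_tensor IsoCls)
open EllLawLib (idCls)
open PicCurveLib SymProd
open scoped MonObj

noncomputable section

namespace JacAlbLib

section Group

variable {k : Type u} [Field k] {J : Over (Spec (CommRingCat.of k))}

/-- The point of a rational point. -/
abbrev pnt (t : 𝟙_ (Over (Spec (CommRingCat.of k))) ⟶ J) : J.left := t.left (IsLocalRing.closedPoint k)

theorem forall_pnt (t : 𝟙_ (Over (Spec (CommRingCat.of k))) ⟶ J) (Z : Set J.left) :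
    (∀ p, t.left.base p ∈ Z) ↔ pnt t ∈ Z :=
  ⟨fun h => h _, fun h p => (Subsingleton.elim (α := PrimeSpectrum k) (IsLocalRing.closedPoint k) p) ▸ h⟩

theorem mem_image_of_inverse {φ φ' : J ⟶ J} (h : φ ≫ φ' = 𝟙 J) (h' : φ' ≫ φ = 𝟙 J)
    (z : 𝟙_ (Over (Spec (CommRingCat.of k))) ⟶ J) (Z : Set J.left) :
    pnt z ∈ φ.left.base '' Z ↔ pnt (z ≫ φ') ∈ Z := by
  have e : ∀ p, φ'.left (φ.left p) = p := fun p => by
    rw [← Scheme.Hom.comp_apply, ← Over.comp_left, h]; rfl
  have e' : ∀ p, φ.left (φ'.left p) = p := fun p => by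
    rw [← Scheme.Hom.comp_apply, ← Over.comp_left, h']; rfl
  constructor
  · rintro ⟨p, hp, hpz⟩
    show φ'.left (pnt z) ∈ Z
    rw [← show φ.left p = pnt z from hpz, e]
    exact hp
  · intro hz
    exact ⟨_, hz, e' _⟩

theorem isClosed_image_of_inverse {φ φ' : J ⟶ J} (h : φ ≫ φ' = 𝟙 J) (h' : φ' ≫ φ = 𝟙 J) {Z : Set J.left}
    (hZ : IsClosed Z) : IsClosed (φ.left.base '' Z) := by
  have : φ.left.base '' Z = φ'.left.base ⁻¹' Z := by
    apply congrFun (Set.image_eq_preimage_of_inverse ?_ ?_) Z <;> intro p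
    · show φ'.left (φ.left p) = p
      rw [← Scheme.Hom.comp_apply, ← Over.comp_left, h]; rfl
    · show φ.left (φ'.left p) = p
      rw [← Scheme.Hom.comp_apply, ← Over.comp_left, h']; rfl
  rw [this]
  exact hZ.preimage φ'.left.continuous

variable [GrpObj J]

theorem comp_transl (z a : 𝟙_ (Over (Spec (CommRingCat.of k))) ⟶ J) : z ≫ Jac.transl J a = z * a := by
  rw [Jac.transl, MonObj.comp_mul, Category.comp_id, ← Category.assoc, toUnit_unique (z ≫ toUnit J) (𝟙 _),
    Category.id_comp]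

theorem transl_comp (a b : 𝟙_ (Over (Spec (CommRingCat.of k))) ⟶ J) :
    Jac.transl J a ≫ Jac.transl J b = Jac.transl J (a * b) := by
  simp only [Jac.transl, MonObj.comp_mul, Category.comp_id]
  rw [← Category.assoc, toUnit_unique ((𝟙 J * (toUnit J ≫ a)) ≫ toUnit J) (toUnit J), mul_assoc]

theorem transl_one : Jac.transl J (1 : 𝟙_ (Over (Spec (CommRingCat.of k))) ⟶ J) = 𝟙 J := by
  rw [Jac.transl, MonObj.comp_one, _root_.mul_one]

theorem transl_inv_hom (a : 𝟙_ (Over (Spec (CommRingCat.of k))) ⟶ J) :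
    Jac.transl J a ≫ Jac.transl J a⁻¹ = 𝟙 J := by rw [transl_comp, mul_inv_cancel, transl_one]

theorem transl_inv_hom' (a : 𝟙_ (Over (Spec (CommRingCat.of k))) ⟶ J) :
    Jac.transl J a⁻¹ ≫ Jac.transl J a = 𝟙 J := by rw [transl_comp, inv_mul_cancel, transl_one]

/-- Rational points of a translate. -/
theorem mem_transl (a z : 𝟙_ (Over (Spec (CommRingCat.of k))) ⟶ J) (Z : Set J.left) :
    pnt z ∈ (Jac.transl J a).left.base '' Z ↔ pnt (z * a⁻¹) ∈ Z := by
  rw [mem_image_of_inverse (transl_inv_hom a) (transl_inv_hom' a), comp_transl]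

theorem isClosed_transl (a : 𝟙_ (Over (Spec (CommRingCat.of k))) ⟶ J) {Z : Set J.left} (hZ : IsClosed Z) :
    IsClosed ((Jac.transl J a).left.base '' Z) :=
  isClosed_image_of_inverse (transl_inv_hom a) (transl_inv_hom' a) hZ

theorem inv_comp_inv : (𝟙 J)⁻¹ ≫ (𝟙 J)⁻¹ = 𝟙 J := by
  rw [GrpObj.comp_inv, Category.comp_id, inv_inv]

/-- Rational points of the inverse image. -/
theorem mem_inv (z : 𝟙_ (Over (Spec (CommRingCat.of k))) ⟶ J) (Z : Set J.left) :
    pnt z ∈ ((𝟙 J)⁻¹).left.base '' Z ↔ pnt z⁻¹ ∈ Z := by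
  rw [mem_image_of_inverse inv_comp_inv inv_comp_inv, GrpObj.comp_inv, Category.comp_id]

theorem isClosed_inv {Z : Set J.left} (hZ : IsClosed Z) : IsClosed (((𝟙 J)⁻¹).left.base '' Z) :=
  isClosed_image_of_inverse inv_comp_inv inv_comp_inv hZ

end Group

section Closed

variable {k : Type u} [Field k] [IsAlgClosed k] {J : Over (Spec (CommRingCat.of k))} [LocallyOfFiniteType J.hom]

theorem exists_pnt {p : J.left} (hp : IsClosed ({p} : Set J.left)) :
    ∃ t : 𝟙_ (Over (Spec (CommRingCat.of k))) ⟶ J, pnt t = p :=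
  ⟨Over.homMk (pointOfClosedPoint J.hom p hp) (pointOfClosedPoint_comp J.hom p hp),
    pointOfClosedPoint_apply J.hom p hp _⟩

theorem eq_of_pnt {s t : 𝟙_ (Over (Spec (CommRingCat.of k))) ⟶ J} (h : pnt s = pnt t) : s = t :=
  Over.OverMorphism.ext (ext_of_apply_closedPoint_eq J.hom (Over.w s) (Over.w t) h)

/-- Closed sets are compared on rational points. -/
theorem subset_of_points {Z Z' : Set J.left} (hZ : IsClosed Z) (hZ' : IsClosed Z')
    (h : ∀ t : 𝟙_ (Over (Spec (CommRingCat.of k))) ⟶ J, pnt t ∈ Z → pnt t ∈ Z') : Z ⊆ Z' := by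
  haveI : JacobsonSpace J.left := LocallyOfFiniteType.jacobsonSpace J.hom
  rw [← hZ.closure_eq, ← JacobsonSpace.closure_inter_closedPoints_eq_closure hZ.isLocallyClosed]
  refine hZ'.closure_subset_iff.2 ?_
  rintro p ⟨hp, hpc⟩
  obtain ⟨t, rfl⟩ := exists_pnt (mem_closedPoints_iff.1 hpc)
  exact h t hp

theorem eq_of_points {Z Z' : Set J.left} (hZ : IsClosed Z) (hZ' : IsClosed Z')
    (h : ∀ t : 𝟙_ (Over (Spec (CommRingCat.of k))) ⟶ J, pnt t ∈ Z ↔ pnt t ∈ Z') : Z = Z' :=
  (subset_of_points hZ hZ' fun t => (h t).1).antisymm (subset_of_points hZ' hZ fun t => (h t).2)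

end Closed

variable {k : Type u} [Field k] {C : Scheme.{u}} [C.Over (Spec (CommRingCat.of k))]

section Map

variable {J : Over (Spec (CommRingCat.of k))} [GrpObj J]

/-- The sum of the Abel images on the fibre power. -/
abbrev Wmap (j : Over.mk (C ↘ Spec (CommRingCat.of k)) ⟶ J) (r : ℕ) :
    Over.mk (WidePullback.base fun (_ : Fin r) => (C ↘ Spec (CommRingCat.of k))) ⟶ J :=
  ((List.ofFn fun i : Fin r =>
    (Over.homMk (WidePullback.π (fun (_ : Fin r) => (C ↘ Spec (CommRingCat.of k))) i)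
      (WidePullback.π_arrow (fun (_ : Fin r) => (C ↘ Spec (CommRingCat.of k))) i) :
      Over.mk (WidePullback.base fun (_ : Fin r) => (C ↘ Spec (CommRingCat.of k))) ⟶
        Over.mk (C ↘ Spec (CommRingCat.of k))) ≫ j).prod)

/-- The image of the symmetric power. -/
abbrev WSet (j : Over.mk (C ↘ Spec (CommRingCat.of k)) ⟶ J) (r : ℕ) : Set J.left :=
  Set.range (Wmap j r).left.base

variable [IsProper (C ↘ Spec (CommRingCat.of k))] [Smooth (C ↘ Spec (CommRingCat.of k))]
  [GeometricallyConnected (C ↘ Spec (CommRingCat.of k))]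

theorem isProper_wide (r : ℕ) : IsProper (WidePullback.base fun (_ : Fin r) => (C ↘ Spec (CommRingCat.of k))) := by
  haveI := FibVALib.geometricallyIntegral_of_geometricallyConnected (C ↘ Spec (CommRingCat.of k))
  exact (fb_props (C ↘ Spec (CommRingCat.of k)) r).2.1

theorem isClosed_WSet [IsSeparated J.hom] (j : Over.mk (C ↘ Spec (CommRingCat.of k)) ⟶ J) (r : ℕ) :
    IsClosed (WSet j r) := by
  haveI : IsProper ((Wmap j r).left ≫ J.hom) := by
    rw [Over.w (Wmap j r)]
    exact isProper_wide r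
  haveI : IsProper (Wmap j r).left := IsProper.of_comp _ J.hom
  exact (Wmap j r).left.isClosedMap.isClosed_range

variable [IsCommMonObj J]

/-- Rational points of the image are sums of Abel images of rational points. -/
theorem mem_WSet_iff [IsAlgClosed k] [LocallyOfFiniteType J.hom] [IsSeparated J.hom]
    (j : Over.mk (C ↘ Spec (CommRingCat.of k)) ⟶ J) (r : ℕ) (t : 𝟙_ (Over (Spec (CommRingCat.of k))) ⟶ J) :
    pnt t ∈ WSet j r ↔ ∃ v : Fin r → (𝟙_ (Over (Spec (CommRingCat.of k))) ⟶ Over.mk (C ↘ Spec (CommRingCat.of k))),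
      t = ∏ i, v i ≫ j := by
  let P : Over (Spec (CommRingCat.of k)) := Over.mk (WidePullback.base fun (_ : Fin r) => (C ↘ Spec (CommRingCat.of k)))
  have hx : ∀ x : 𝟙_ (Over (Spec (CommRingCat.of k))) ⟶ P, x ≫ Wmap j r = ∏ i, (x ≫
      (Over.homMk (WidePullback.π (fun (_ : Fin r) => (C ↘ Spec (CommRingCat.of k))) i)
        (WidePullback.π_arrow (fun (_ : Fin r) => (C ↘ Spec (CommRingCat.of k))) i) :
        P ⟶ Over.mk (C ↘ Spec (CommRingCat.of k)))) ≫ j := fun x => by
    rw [Wmap, List.prod_ofFn, comp_prod]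
    exact Finset.prod_congr rfl fun i _ => (Category.assoc _ _ _).symm
  constructor
  · intro ht
    haveI : IsProper P.hom := isProper_wide r
    haveI : JacobsonSpace P.left := LocallyOfFiniteType.jacobsonSpace P.hom
    have hcl : IsClosed ((Wmap j r).left.base ⁻¹' {pnt t}) :=
      ((pointEquivClosedPoint J.hom) ⟨t.left, Over.w t⟩).2.preimage (Wmap j r).left.continuous
    obtain ⟨p, hp⟩ := ht
    obtain ⟨q, hq, hqc⟩ := nonempty_inter_closedPoints (Z := (Wmap j r).left.base ⁻¹' {pnt t}) ⟨p, hp⟩ hcl.isLocallyClosed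
    obtain ⟨x, hxq⟩ := exists_pnt (J := P) (mem_closedPoints_iff.1 hqc)
    refine ⟨fun i => x ≫ Over.homMk (WidePullback.π (fun (_ : Fin r) => (C ↘ Spec (CommRingCat.of k))) i)
        (WidePullback.π_arrow (fun (_ : Fin r) => (C ↘ Spec (CommRingCat.of k))) i), (eq_of_pnt ?_).trans (hx x)⟩
    show pnt t = (Wmap j r).left.base (pnt x)
    rw [hxq]
    exact (show (Wmap j r).left.base q = pnt t from hq).symm
  · rintro ⟨v, rfl⟩
    let x : 𝟙_ (Over (Spec (CommRingCat.of k))) ⟶ P :=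
      Over.homMk (WidePullback.lift (𝟙 _) (fun i => (v i).left) fun i => Over.w (v i)) (WidePullback.lift_base _ _ _ _)
    have e : x ≫ Wmap j r = ∏ i, v i ≫ j := by
      rw [hx]
      refine Finset.prod_congr rfl fun i _ => congrArg (· ≫ j) (Over.OverMorphism.ext ?_)
      exact WidePullback.lift_π _ _ _ _ _
    exact ⟨pnt x, by rw [← e]; rfl⟩

end Map

/-- The class on the curve of a rational point of the Jacobian. -/
abbrev tcl {J : Over (Spec (CommRingCat.of k))} (c : IsoCls (PicF.XT (C ↘ Spec (CommRingCat.of k)) J))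
    (t : 𝟙_ (Over (Spec (CommRingCat.of k))) ⟶ J) : IsoCls C :=
  pull toXT₀ (pull (PicF.XTmap _ t) c)

variable [IsProper (C ↘ Spec (CommRingCat.of k))] [Smooth (C ↘ Spec (CommRingCat.of k))]
  [GeometricallyConnected (C ↘ Spec (CommRingCat.of k))] (hdim : topologicalKrullDim ↥C = 1)
  (hf : Fam (C ↘ Spec (CommRingCat.of k))) {σ : Spec (CommRingCat.of k) ⟶ C}
  {hσ : σ ≫ (C ↘ Spec (CommRingCat.of k)) = 𝟙 _} {J : Over (Spec (CommRingCat.of k))} [GrpObj J]
  {c : IsoCls (PicF.XT (C ↘ Spec (CommRingCat.of k)) J)} (hc : IsRigJac σ hσ J c)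
include hdim hf hc

omit hdim hf in
theorem tcl_mul (s t : 𝟙_ (Over (Spec (CommRingCat.of k))) ⟶ J) : tcl c (s * t) = tcl c s * tcl c t := by
  rw [tcl, hc.mul, map_mul]

theorem exists_tcl (t : 𝟙_ (Over (Spec (CommRingCat.of k))) ⟶ J) :
    ∃ L : C.Modules, PicF.IsInvertible L ∧ Curv2.deg k C L 1 = 0 ∧ cl L = tcl c t := by
  obtain ⟨L, hL, eL, dL⟩ := (rigZero_pull hf σ hσ t hc.rigZero).rep
  refine ⟨(Scheme.Modules.pullback (toXT₀ (k := k) (C := C))).obj L, AmpleDevLib.isInvertible_pb _ hL, ?_,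
    (pull_cl _ _).symm.trans (by rw [eL])⟩
  have h := (PicCurveLib.deg_point (C ↘ Spec (CommRingCat.of k)) hf.dim_le (𝟙_ _) hL (K := k) (Z := C) (g' := toXT₀)
    (v := 𝟙 _) (isPullback_toXT₀ (k := k) (C := C)) (IsLocalRing.closedPoint k)).trans (dL _)
  rw [chi_eq_euler hf, chi_eq_euler hf] at h
  rw [Curv2.deg, Nat.cast_one, _root_.one_mul]
  exact h

theorem invC_tcl (t : 𝟙_ (Over (Spec (CommRingCat.of k))) ⟶ J) : InvC (tcl c t) := by
  obtain ⟨L, hL, -, e⟩ := exists_tcl hdim hf hc t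
  exact ⟨L, hL, e⟩

theorem tcl_one : tcl c (1 : 𝟙_ (Over (Spec (CommRingCat.of k))) ⟶ J) = 1 :=
  (invC_tcl hdim hf hc 1).isUnit.mul_left_cancel
    (b := tcl c 1) (c := 1) (by rw [← tcl_mul hc, _root_.mul_one, _root_.mul_one])

theorem tcl_inj {s t : 𝟙_ (Over (Spec (CommRingCat.of k))) ⟶ J} (h : tcl c s = tcl c t) : s = t := by
  haveI : IsIso (toXT₀ (k := k) (C := C)) := (isPullback_toXT₀ (k := k) (C := C)).isIso_fst_of_isIso
  have hinj : Function.Injective (pull (toXT₀ (k := k) (C := C))) := fun z z' hz => by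
    have h2 := congrArg (pull (inv (toXT₀ (k := k) (C := C)))) hz
    rwa [pull_comp, pull_comp, IsIso.inv_hom_id, DescAppLib.pull_id, DescAppLib.pull_id] at h2
  have h2 := hinj h
  exact (hc.bij _ _ (rigZero_pull hf σ hσ t hc.rigZero)).unique h2 rfl

omit hc [GrpObj J] hf in
theorem invC_sigma_pow (hσ' : σ ≫ (C ↘ Spec (CommRingCat.of k)) = 𝟙 _) : ∀ r : ℕ, InvC (idCls σ.ker ^ r)
  | 0 => by rw [pow_zero]; exact ⟨_, CurvLib.isInvertible_structureModule, rfl⟩
  | r + 1 => by rw [pow_succ]; exact (invC_sigma_pow hσ' r).mul (invC_point hdim σ hσ')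

/-- The twist of a point by a multiple of the base point. -/
theorem exists_twist (t : 𝟙_ (Over (Spec (CommRingCat.of k))) ⟶ J) (r : ℕ) :
    ∃ N : C.Modules, PicF.IsInvertible N ∧ cl N * idCls σ.ker ^ r = tcl c t := by
  obtain ⟨L, hL, -, e⟩ := exists_tcl hdim hf hc t
  obtain ⟨N, hN, eN⟩ := exists_div hL (invC_sigma_pow hdim hσ r)
  exact ⟨N, hN, eN.trans e⟩

theorem deg_twist (t : 𝟙_ (Over (Spec (CommRingCat.of k))) ⟶ J) :
    ∀ (r : ℕ) {N : C.Modules}, PicF.IsInvertible N → cl N * idCls σ.ker ^ r = tcl c t →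
      Curv2.deg k C N 1 = r := by
  obtain ⟨L, -, dL, eL⟩ := exists_tcl hdim hf hc t
  intro r
  induction r with
  | zero =>
    intro N _ e
    rw [pow_zero, _root_.mul_one, ← eL] at e
    rw [deg_congr' (k := k) e, dL, Nat.cast_zero]
  | succ r ih =>
    intro N hN e
    rw [pow_succ', ← _root_.mul_assoc, show cl N * idCls σ.ker = cl (CohB1.tensorMod N (ClSub.idealMod σ.ker)) from
      (cl_tensor _ _).symm] at e
    have hI := IntMultLib.isInvertible_idealMod _ (AlgEquivCurveLib.isEffCartier_pt hdim σ hσ)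
    have h1 := ih (HilbPolyLib.isInvertible_tensor hN hI) e
    have h2 := deg_add_point (k := k) hdim σ hσ (L := CohB1.tensorMod N (ClSub.idealMod σ.ker)) hN (cl_tensor _ _).symm
    push_cast
    omega

variable [IsProper J.hom] [Smooth J.hom] [GeometricallyIntegral J.hom] [IsCommMonObj J]
  {j : Over.mk (C ↘ Spec (CommRingCat.of k)) ⟶ J} (hj : IsAbel σ hσ c j)
include hj

/-- A point lies in the image of the `r`-th power exactly when its twist has a section. -/
theorem mem_WSet_iff_h0 [IsAlgClosed k] (r : ℕ) (t : 𝟙_ (Over (Spec (CommRingCat.of k))) ⟶ J) {N : C.Modules}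
    (hN : PicF.IsInvertible N) (e : cl N * idCls σ.ker ^ r = tcl c t) :
    pnt t ∈ WSet j r ↔ 1 ≤ Module.finrank k (Coh.HH C N 0) := by
  rw [mem_WSet_iff]
  have hu : IsUnit (idCls σ.ker ^ r) := (invC_sigma_pow hdim hσ r).isUnit
  constructor
  · rintro ⟨v, rfl⟩
    refine one_le_h0_of_points hdim (fun i => (v i).left) (fun i => Over.w (v i)) hN (hu.mul_right_cancel ?_)
    have h := class_prod hdim hf hc hj v
    rw [← tcl, ← e] at h
    rw [_root_.one_mul]
    exact (mul_right_comm _ _ _).trans h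
  · intro h0
    obtain ⟨x, hx, ex⟩ := exists_points_of_h0 hdim r hN (deg_twist hdim hf hc t r hN e) h0
    refine ⟨fun i => pt (x i) (hx i), tcl_inj hdim hf hc ((isUnit_pts hdim hf x hx).mul_right_cancel ?_)⟩
    have h := class_prod hdim hf hc hj (fun i => pt (x i) (hx i))
    exact ((by rw [← e, mul_right_comm, ex, _root_.one_mul] :
      tcl c t * ∏ i, idCls (x i).ker = idCls σ.ker ^ r).trans h.symm)

end JacAlbLib

end
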