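import Groth.Agent.JacAlbLib.Setup
import Groth.Agent.JacAlbLib.Generic
import Groth.Agent.JacAlbLib.Twist
import Groth.Agent.JacAlbLib.WPoints
import Groth.Agent.AmpleThLib.Ample
import Groth.Agent.AVAmpleLib.Exist
import Groth.Agent.LinSysLib.AmpleBase
import Groth.Agent.LinSysLib.AmpleProj
import Groth.Agent.MiscFlat6.RelAmpleLocal

/-!
# Fine moduli of line bundles of a given degree on a pointed curve
-/

set_option autoImplicit false
set_option linter.style.haveILetI false
set_option linter.unusedSectionVars false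
set_option backward.isDefEq.respectTransparency false
set_option backward.isDefEq.respectTransparency.types false
set_option maxRecDepth 8000
set_option maxHeartbeats 1000000

universe u

open CategoryTheory CategoryTheory.Limits AlgebraicGeometry MonoidalCategory CartesianMonoidalCategory
open CubeConsLib (pull pull_comp pull_cl cl cl_eq_iff cl_tensor IsoCls)
open EllLawLib (idCls)
open PicCurveLib
open scoped MonObj

noncomputable section

namespace JacAlbLib

/-- A proper scheme over a field with an ample class is projective. -/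
theorem isHProjective_of_ample {k : Type u} [Field k] {Y : Scheme.{u}} (h : Y ⟶ Spec (CommRingCat.of k)) [IsProper h]
    {L : Y.Modules} (hL : CohB1.IsAmple L) : RelProj.IsHProjective h :=
  LinSysLib.isHProjective_of_ample_base ⟨Coh.structureModule _, AmpleThLib.isAmple_of_isQuasiAffine fun x => ⟨⊤, trivial,
    TwistLib.nonempty_iso_of_genOn _ (AmpleLib.one_genOn ⊤)⟩⟩
    (LinSysLib.isProjective_of_isRelAmple h ((MiscFlat6.isRelAmple_iff_isAmple h L).2 hL))

section Affine

variable {S : Scheme.{u}} {F : ModFun.Problem.{u + 1} S} {J : Over S} [IsSeparated J.hom]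

/-- A universal family on affine test schemes gives the best approximation. -/
theorem isBestApprox_of_univ [IsAffine S] {ξ : F.Fam J}
    (φ : F.Hom (fun T => IsAffine T.left) J)
    (hpull : ∀ {T T' : Over S} (g : T' ⟶ T) (x : F.Fam T), F.ok T x → F.ok T' (F.pull g x))
    (hcomp : ∀ {T T' T'' : Over S} (g : T' ⟶ T) (h : T'' ⟶ T') (x : F.Fam T), F.ok T x →
      F.r T'' (F.pull h (F.pull g x)) (F.pull (h ≫ g) x))
    (hξ : F.ok J ξ)
    (hφ : ∀ (T : Over S) (x : F.Fam T) (hT : IsAffine T.left) (hx : F.ok T x),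
      F.r T (F.pull (φ.app T x hT hx) ξ) x)
    (huniq : ∀ (T : Over S) (g : T ⟶ J) (hT : IsAffine T.left) (h : F.ok T (F.pull g ξ)),
      φ.app T (F.pull g ξ) hT h = g) :
    ModFun.IsBestApprox (fun T => IsAffine T.left) F J φ := by
  intro N ψ
  haveI : J.left.IsSeparated := ⟨by rw [← Limits.terminal.comp_from J.hom]; infer_instance⟩
  let 𝒰 := J.left.affineCover
  let U : 𝒰.I₀ → Over S := fun i => Over.mk (𝒰.f i ≫ J.hom)
  let inc : ∀ i, U i ⟶ J := fun i => Over.homMk (𝒰.f i) rfl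
  have haff : ∀ i, IsAffine (U i).left := fun i => inferInstanceAs (IsAffine (𝒰.X i))
  let v : ∀ i, U i ⟶ N := fun i => ψ.app (U i) (F.pull (inc i) ξ) (haff i) (hpull _ _ hξ)
  -- the value on any affine scheme mapping to a chart
  have hv : ∀ (i : 𝒰.I₀) (T : Over S) (hT : IsAffine T.left) (h : T ⟶ U i),
      h ≫ v i = ψ.app T (F.pull (h ≫ inc i) ξ) hT (hpull _ _ hξ) := fun i T hT h => by
    rw [← ψ.natural h _ (haff i) hT (hpull _ _ hξ) (hpull _ _ (hpull _ _ hξ))]
    exact ψ.resp _ _ hT _ _ (hcomp _ _ _ hξ)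
  have hc : ∀ i i', pullback.fst (𝒰.f i) (𝒰.f i') ≫ (v i).left = pullback.snd (𝒰.f i) (𝒰.f i') ≫ (v i').left := by
    intro i i'
    let T : Over S := Over.mk ((pullback.fst (𝒰.f i) (𝒰.f i') ≫ 𝒰.f i) ≫ J.hom)
    have hT : IsAffine T.left := by
      haveI : IsAffineHom (𝒰.f i') := by
        haveI : IsAffineHom (𝒰.f i' ≫ terminal.from J.left) := by rw [terminal.comp_from]; infer_instance
        exact MorphismProperty.of_postcomp (W := @IsAffineHom) (W' := @IsSeparated) _ (terminal.from J.left)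
          inferInstance inferInstance
      haveI : IsAffineHom (pullback.fst (𝒰.f i) (𝒰.f i')) := MorphismProperty.pullback_fst _ _ inferInstance
      exact isAffine_of_isAffineHom (pullback.fst (𝒰.f i) (𝒰.f i'))
    let a : T ⟶ U i := Over.homMk (pullback.fst _ _) (Category.assoc _ _ _).symm
    let b : T ⟶ U i' := Over.homMk (pullback.snd _ _) (by
      show _ ≫ (𝒰.f i' ≫ J.hom) = _
      rw [← Category.assoc, ← pullback.condition]
      rfl)
    have hab : a ≫ inc i = b ≫ inc i' := Over.OverMorphism.ext pullback.condition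
    have h := hv i T hT a
    simp only [hab] at h
    exact congrArg CommaMorphism.left (h.trans (hv i' T hT b).symm)
  let f₀ := 𝒰.glueMorphisms (fun i => (v i).left) hc
  have hf₀ : ∀ i, 𝒰.f i ≫ f₀ = (v i).left := fun i => 𝒰.ι_glueMorphisms _ hc i
  let f : J ⟶ N := Over.homMk f₀ (𝒰.hom_ext _ _ fun i => by
    rw [← Category.assoc, hf₀]
    exact Over.w (v i))
  have hinc : ∀ i, inc i ≫ f = v i := fun i => Over.OverMorphism.ext (hf₀ i)
  refine ⟨f, fun T x hT hx => ?_, fun f' hf' => ?_⟩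
  · rw [← ψ.resp _ _ hT (hpull (φ.app T x hT hx) _ hξ) hx (hφ T x hT hx)]
    set g := φ.app T x hT hx
    clear_value g
    refine Over.OverMorphism.ext ((Scheme.Cover.hom_ext ((𝒰.pullback₁ g.left).bind fun i => (pullback g.left (𝒰.f i)).affineCover)) _ _ ?_)
    rintro ⟨i, l⟩
    let W := (pullback g.left (𝒰.f i)).affineCover
    let T' : Over S := Over.mk ((W.f l ≫ pullback.fst g.left (𝒰.f i)) ≫ T.hom)
    have hT' : IsAffine T'.left := inferInstanceAs (IsAffine (W.X l))
    let a : T' ⟶ T := Over.homMk (W.f l ≫ pullback.fst _ _) rfl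
    let b : T' ⟶ U i := Over.homMk (W.f l ≫ pullback.snd _ _) (by
      show (_ ≫ _) ≫ (𝒰.f i ≫ J.hom) = (_ ≫ _) ≫ T.hom
      rw [← Over.w g]
      simp only [Category.assoc]
      rw [← pullback.condition_assoc])
    have hab : a ≫ g = b ≫ inc i := Over.OverMorphism.ext (by
      show (_ ≫ _) ≫ g.left = (_ ≫ _) ≫ 𝒰.f i
      rw [Category.assoc, Category.assoc, pullback.condition])
    have h1 : a ≫ ψ.app T (F.pull g ξ) hT (hpull _ _ hξ) = b ≫ v i := by
      rw [hv i T' hT' b, ← ψ.natural a _ hT hT' (hpull _ _ hξ) (hpull _ _ (hpull _ _ hξ))]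
      refine (ψ.resp _ _ hT' _ (hpull _ _ hξ) (hcomp _ _ _ hξ)).trans ?_
      simp only [hab]
    have h2 : a ≫ g ≫ f = b ≫ v i := by rw [← Category.assoc, hab, Category.assoc, hinc]
    exact congrArg CommaMorphism.left (h1.trans h2.symm)
  · refine Over.OverMorphism.ext (𝒰.hom_ext _ _ fun i => ?_)
    have h := hf' (U i) (F.pull (inc i) ξ) (haff i) (hpull _ _ hξ)
    rw [huniq] at h
    exact (congrArg CommaMorphism.left h).symm.trans (hf₀ i).symm

end Affine

variable {k : Type u} [Field k] {C : Scheme.{u}} [C.Over (Spec (CommRingCat.of k))]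
  [IsProper (C ↘ Spec (CommRingCat.of k))] [Smooth (C ↘ Spec (CommRingCat.of k))]
  [GeometricallyConnected (C ↘ Spec (CommRingCat.of k))] (hf : Fam (C ↘ Spec (CommRingCat.of k)))
include hf

/-- A constant family has the degree of its member at every point. -/
theorem deg_const {M : C.Modules} (hM : PicF.IsInvertible M) (T : Over (Spec (CommRingCat.of k))) (t : T.left) :
    deg (C ↘ Spec (CommRingCat.of k)) T
      ((Scheme.Modules.pullback (pullback.fst (C ↘ Spec (CommRingCat.of k)) T.hom)).obj M) t =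
      Curv2.deg k C M 1 := by
  let T₀ : Over (Spec (CommRingCat.of k)) := 𝟙_ _
  let f := C ↘ Spec (CommRingCat.of k)
  let N0 := (Scheme.Modules.pullback (pullback.fst f T₀.hom)).obj M
  have hN0 : PicF.IsInvertible N0 := AmpleDevLib.isInvertible_pb _ hM
  have e1 : cl ((Scheme.Modules.pullback (pullback.fst f T.hom)).obj M) =
      cl ((Scheme.Modules.pullback (PicF.XTmap f (toUnit T))).obj N0) := by
    rw [← pull_cl, ← pull_cl, ← pull_cl, pull_comp]
    exact congrArg (fun m => pull m (cl M)) (DescAppLib.XTmap_fst f (toUnit T)).symm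
  rw [PicCurveLib.deg_congr f hf.dim_le T e1 t, deg_map f hf.dim_le _ hN0 t,
    show (toUnit T).left t = (𝟙 (Spec (CommRingCat.of k)) : _ ⟶ _) (IsLocalRing.closedPoint k) from
      Subsingleton.elim (α := PrimeSpectrum k) _ _]
  have h := PicCurveLib.deg_point f hf.dim_le T₀ hN0 (K := k) (Z := C) (g' := toXT₀) (v := 𝟙 _)
    (isPullback_toXT₀ (k := k) (C := C)) (IsLocalRing.closedPoint k)
  rw [chi_eq_euler hf, chi_eq_euler hf, CurvLib.euler_congr (k := k)
    (cl_eq_iff.1 (show cl ((Scheme.Modules.pullback (toXT₀ (k := k) (C := C))).obj N0) = cl M by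
      rw [← pull_cl, ← pull_cl, pull_comp, toXT₀_fst, DescAppLib.pull_id])).some] at h
  exact h.symm.trans (by rw [Curv2.deg, Nat.cast_one, one_mul])

variable {σ : Spec (CommRingCat.of k) ⟶ C} {hσ : σ ≫ (C ↘ Spec (CommRingCat.of k)) = 𝟙 _}
  {J : Over (Spec (CommRingCat.of k))} [GrpObj J] {c : IsoCls (PicF.XT (C ↘ Spec (CommRingCat.of k)) J)}
  (hc : IsRigJac σ hσ J c)
include hc

/-- **The degree `d` problem has a universal family on the Jacobian.** -/
theorem exists_univ_deg' (hdim : topologicalKrullDim ↥C = 1) {d : ℕ} :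
    ∃ ξ : (PicF.XT (C ↘ Spec (CommRingCat.of k)) J).Modules,
      ModFun.IsUnivFamily ⊤ (ModFun.PicDeg (C ↘ Spec (CommRingCat.of k)) (d : ℤ)) J ξ ∧
      cl ξ * pull (pullback.fst (C ↘ Spec (CommRingCat.of k)) J.hom) (idCls σ.ker ^ d) = c := by
  let f := C ↘ Spec (CommRingCat.of k)
  obtain ⟨L, hL, eL, dL⟩ := hc.rigZero.rep
  obtain ⟨P, hP, eP⟩ := invC_sigma_pow hdim hσ d
  obtain ⟨Q, hQ, eQ⟩ := EllLawLib.exists_inv_rep hP
  have dQ : Curv2.deg k C Q 1 = (d : ℤ) := by
    have h : ∀ (r : ℕ) (Q : C.Modules), PicF.IsInvertible Q → cl Q * idCls σ.ker ^ r = 1 → Curv2.deg k C Q 1 = r := by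
      intro r
      induction r with
      | zero =>
        intro Q hQ e
        rw [pow_zero, _root_.mul_one] at e
        rw [deg_congr' (k := k) (M := Coh.structureModule C) e, Curv2.deg]
        simp
      | succ r ih =>
        intro Q hQ e
        have hI := IntMultLib.isInvertible_idealMod _ (AlgEquivCurveLib.isEffCartier_pt hdim σ hσ)
        have h1 := ih _ (HilbPolyLib.isInvertible_tensor hQ hI) (by
          rw [cl_tensor, _root_.mul_assoc]
          exact (congrArg (cl Q * ·) (pow_succ' _ _).symm).trans e)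
        have h2 := deg_add_point (k := k) hdim σ hσ (L := CohB1.tensorMod Q (ClSub.idealMod σ.ker)) hQ (cl_tensor _ _).symm
        push_cast
        omega
    exact h d Q hQ (by rw [← eP, _root_.mul_comm]; exact eQ)
  let ξ := CohB1.tensorMod L ((Scheme.Modules.pullback (pullback.fst f J.hom)).obj Q)
  have hξi : PicF.IsInvertible ξ := HilbPolyLib.isInvertible_tensor hL (AmpleDevLib.isInvertible_pb _ hQ)
  have hξd : ∀ t, deg f J ξ t = d := fun t => by
    rw [deg_tensor hf J hL (AmpleDevLib.isInvertible_pb _ hQ) t, dL, deg_const hf hQ, dQ, zero_add]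
  have hξ : (ModFun.PicDeg f (d : ℤ)).ok J ξ := (ok_iff hf _ J ξ).2 ⟨hξi, hξd⟩
  refine ⟨ξ, ⟨hξ, fun T x _ hx => ?_⟩, ?_⟩
  rotate_left
  · rw [cl_tensor, ← pull_cl, eL, ← eP, _root_.mul_assoc, ← map_mul, _root_.mul_comm (cl Q), eQ, map_one, _root_.mul_one]
  obtain ⟨hxi, hxd⟩ := (ok_iff hf _ T x).1 hx
  let qP := pull (pullback.fst f T.hom) (cl P)
  let qQ := pull (pullback.fst f T.hom) (cl Q)
  have hPQ : qP * qQ = 1 := by rw [← map_mul, eQ, map_one]
  have hpull : ∀ g : T ⟶ J, cl ((ModFun.PicDeg f (d : ℤ)).pull g ξ) =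
      pull (PicF.XTmap f g) c * qQ := fun g => by
    show cl ((Scheme.Modules.pullback (PicF.XTmap f g)).obj ξ) = _
    rw [← pull_cl, cl_tensor, eL, map_mul, ← pull_cl, pull_comp, DescAppLib.XTmap_fst]
  -- the degree zero family
  let x₀ := CohB1.tensorMod x ((Scheme.Modules.pullback (pullback.fst f T.hom)).obj P)
  have hx₀ : (ModFun.PicDeg f 0).ok T x₀ := (ok_iff hf 0 T x₀).2
    ⟨HilbPolyLib.isInvertible_tensor hxi (AmpleDevLib.isInvertible_pb _ hP), fun t => by
      have h1 := deg_of_cl_mul hf T (AmpleDevLib.isInvertible_pb (pullback.fst f T.hom) hP)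
        (AmpleDevLib.isInvertible_pb (pullback.fst f T.hom) hQ) (N := Coh.structureModule _)
        (by rw [← pull_cl, ← pull_cl]; exact hPQ.symm) t
      rw [deg_structure, deg_const hf hQ, dQ] at h1
      rw [deg_tensor hf T hxi (AmpleDevLib.isInvertible_pb _ hP) t, hxd]
      omega⟩
  have ex₀ : cl x₀ = cl x * qP := by rw [cl_tensor, ← pull_cl]
  obtain ⟨L', -, hz, D, hD, e⟩ := exists_norm hf (σ := σ) (hσ := hσ) T x₀ hx₀
  obtain ⟨g, hg, hgu⟩ := hc.bij T _ hz
  obtain ⟨D', hD', eD'⟩ := EllLawLib.exists_inv_rep hD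
  refine ⟨g, ⟨D', hD', cl_eq_iff.1 ?_⟩, fun g' hg' => hgu g' ?_⟩
  · rw [cl_tensor, hpull, hg, e, ex₀, ← pull_cl]
    calc cl x = cl x * (qP * qQ) * (pull (PicF.XTproj f T) (cl D * cl D')) := by
          rw [hPQ, eD', map_one, _root_.mul_one, _root_.mul_one]
      _ = _ := by rw [map_mul]; ac_rfl
  · obtain ⟨E, hE, ⟨i⟩⟩ := hg'
    have h := cl_eq_iff.2 ⟨i⟩
    rw [cl_tensor, hpull, ← pull_cl] at h
    refine eq_of_twist hf (rigZero_pull hf σ hσ g' hc.rigZero) hz (n := cl E * cl D) ?_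
    rw [e, ex₀, h]
    calc _ = pull (PicF.XTmap f g') c * (qP * qQ) * (pull (PicF.XTproj f T) (cl E) * pull (PicF.XTproj f T) (cl D)) := by ac_rfl
      _ = _ := by rw [hPQ, _root_.mul_one, map_mul]

/-- The degree `d` problem has a universal family on the Jacobian. -/
theorem exists_univ_deg (hdim : topologicalKrullDim ↥C = 1) {d : ℕ} :
    ∃ ξ : (PicF.XT (C ↘ Spec (CommRingCat.of k)) J).Modules,
      ModFun.IsUnivFamily ⊤ (ModFun.PicDeg (C ↘ Spec (CommRingCat.of k)) (d : ℤ)) J ξ := by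
  obtain ⟨ξ, h, -⟩ := exists_univ_deg' hf hc hdim (d := d)
  exact ⟨ξ, h⟩

omit hc in
/-- The pull-back of families is functorial up to identification. -/
theorem pull_pull {d : ℤ} {T T' T'' : Over (Spec (CommRingCat.of k))} (g : T' ⟶ T) (h : T'' ⟶ T')
    (x : (PicF.XT (C ↘ Spec (CommRingCat.of k)) T).Modules) :
    (ModFun.PicDeg (C ↘ Spec (CommRingCat.of k)) d).r T''
      ((ModFun.PicDeg (C ↘ Spec (CommRingCat.of k)) d).pull h ((ModFun.PicDeg (C ↘ Spec (CommRingCat.of k)) d).pull g x))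
      ((ModFun.PicDeg (C ↘ Spec (CommRingCat.of k)) d).pull (h ≫ g) x) := by
  refine ⟨Coh.structureModule _, CurvLib.isInvertible_structureModule, cl_eq_iff.1 ?_⟩
  show cl ((Scheme.Modules.pullback _).obj x) = cl (CohB1.tensorMod ((Scheme.Modules.pullback _).obj _) _)
  rw [cl_tensor, ← pull_cl, ← pull_cl, ← pull_cl]
  show _ = pull _ (cl ((Scheme.Modules.pullback (PicF.XTmap _ g)).obj x)) * _
  rw [← pull_cl, pull_comp, DescAppLib.XTmap_comp,
    show cl (Coh.structureModule T''.left) = 1 from rfl, map_one, _root_.mul_one]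

omit hc in
theorem r_iff {d : ℤ} (T : Over (Spec (CommRingCat.of k))) (x y : (PicF.XT (C ↘ Spec (CommRingCat.of k)) T).Modules) :
    (ModFun.PicDeg (C ↘ Spec (CommRingCat.of k)) d).r T x y ↔
      ∃ n : IsoCls T.left, InvC n ∧ cl y = cl x * pull (PicF.XTproj (C ↘ Spec (CommRingCat.of k)) T) n := by
  constructor
  · rintro ⟨D, hD, ⟨i⟩⟩
    refine ⟨cl D, ⟨D, hD, rfl⟩, ?_⟩
    rw [cl_eq_iff.2 ⟨i⟩, cl_tensor, ← pull_cl]
  · rintro ⟨n, ⟨D, hD, rfl⟩, e⟩
    exact ⟨D, hD, cl_eq_iff.1 (e.trans (by rw [cl_tensor, ← pull_cl]))⟩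

omit hc in
theorem r_trans {d : ℤ} (T : Over (Spec (CommRingCat.of k))) {x y z : (PicF.XT (C ↘ Spec (CommRingCat.of k)) T).Modules}
    (h : (ModFun.PicDeg (C ↘ Spec (CommRingCat.of k)) d).r T x y)
    (h' : (ModFun.PicDeg (C ↘ Spec (CommRingCat.of k)) d).r T y z) :
    (ModFun.PicDeg (C ↘ Spec (CommRingCat.of k)) d).r T x z := by
  rw [r_iff hf] at *
  obtain ⟨n, hn, e⟩ := h
  obtain ⟨n', hn', e'⟩ := h'
  exact ⟨n * n', hn.mul hn', by rw [e', e, map_mul, _root_.mul_assoc]⟩

omit hc in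
theorem r_symm {d : ℤ} (T : Over (Spec (CommRingCat.of k))) {x y : (PicF.XT (C ↘ Spec (CommRingCat.of k)) T).Modules}
    (h : (ModFun.PicDeg (C ↘ Spec (CommRingCat.of k)) d).r T x y) :
    (ModFun.PicDeg (C ↘ Spec (CommRingCat.of k)) d).r T y x := by
  rw [r_iff hf] at *
  obtain ⟨n, hn, e⟩ := h
  obtain ⟨m, hm, hnm⟩ := hn.exists_inv
  exact ⟨m, hm, by rw [e, _root_.mul_assoc, ← map_mul, hnm, map_one, _root_.mul_one]⟩

omit hc in
theorem r_pull {d : ℤ} {T T' : Over (Spec (CommRingCat.of k))} (g : T' ⟶ T)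
    {x y : (PicF.XT (C ↘ Spec (CommRingCat.of k)) T).Modules}
    (h : (ModFun.PicDeg (C ↘ Spec (CommRingCat.of k)) d).r T x y) :
    (ModFun.PicDeg (C ↘ Spec (CommRingCat.of k)) d).r T'
      ((ModFun.PicDeg (C ↘ Spec (CommRingCat.of k)) d).pull g x)
      ((ModFun.PicDeg (C ↘ Spec (CommRingCat.of k)) d).pull g y) := by
  rw [r_iff hf] at *
  obtain ⟨n, hn, e⟩ := h
  refine ⟨pull g.left n, hn.pull _, ?_⟩
  show cl ((Scheme.Modules.pullback (PicF.XTmap _ g)).obj y) = cl ((Scheme.Modules.pullback (PicF.XTmap _ g)).obj x) * _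
  rw [← pull_cl, ← pull_cl, e, map_mul, pull_comp (PicF.XTmap _ g), DescAppLib.XTmap_proj, ← pull_comp]

omit hc in
theorem ok_pull {d : ℤ} {T T' : Over (Spec (CommRingCat.of k))} (g : T' ⟶ T)
    (x : (PicF.XT (C ↘ Spec (CommRingCat.of k)) T).Modules)
    (hx : (ModFun.PicDeg (C ↘ Spec (CommRingCat.of k)) d).ok T x) :
    (ModFun.PicDeg (C ↘ Spec (CommRingCat.of k)) d).ok T' ((ModFun.PicDeg (C ↘ Spec (CommRingCat.of k)) d).pull g x) :=
  (ok_iff hf _ T' _).2 ⟨AmpleDevLib.isInvertible_pb _ ((ok_iff hf _ T x).1 hx).1,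
    fun t => (deg_map _ hf.dim_le g ((ok_iff hf _ T x).1 hx).1 t).trans (((ok_iff hf _ T x).1 hx).2 _)⟩

omit hc in
/-- A universal family gives a coarse moduli scheme on affine test schemes. -/
theorem exists_coarse_affine [IsSeparated J.hom] {d : ℤ} {ξ : (PicF.XT (C ↘ Spec (CommRingCat.of k)) J).Modules}
    (h : ModFun.IsUnivFamily ⊤ (ModFun.PicDeg (C ↘ Spec (CommRingCat.of k)) d) J ξ) :
    ∃ φ : (ModFun.PicDeg (C ↘ Spec (CommRingCat.of k)) d).Hom (fun T => IsAffine T.left) J,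
      ModFun.IsCoarseModuli (fun T => IsAffine T.left) (ModFun.PicDeg (C ↘ Spec (CommRingCat.of k)) d) J φ := by
  let F := ModFun.PicDeg (C ↘ Spec (CommRingCat.of k)) d
  let G : ∀ (T : Over (Spec (CommRingCat.of k))) (x : F.Fam T), F.ok T x → (T ⟶ J) := fun T x hx =>
    (h.2 T x trivial hx).choose
  have hG : ∀ T x hx, F.r T (F.pull (G T x hx) ξ) x := fun T x hx => (h.2 T x trivial hx).choose_spec.1
  have hGu : ∀ T x hx g, F.r T (F.pull g ξ) x → g = G T x hx := fun T x hx g hg =>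
    (h.2 T x trivial hx).choose_spec.2 g hg
  let φ : F.Hom (fun T => IsAffine T.left) J :=
    { app := fun T x _ hx => G T x hx
      natural := fun {T T'} g x _ _ hx hx' => (hGu T' _ hx' _
        (r_trans hf T' (r_symm hf T' (pull_pull hf _ g ξ)) (r_pull hf g (hG T x hx)))).symm
      resp := fun {T} x y _ hx hy hr => hGu T y hy _ (r_trans hf T (hG T x hx) hr) }
  have huniq : ∀ (T : Over (Spec (CommRingCat.of k))) (g : T ⟶ J) (hT : IsAffine T.left) (hk : F.ok T (F.pull g ξ)),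
      φ.app T (F.pull g ξ) hT hk = g := fun T g _ hk =>
    (hGu T _ hk g ((r_iff hf T _ _).2 ⟨1, ⟨_, CurvLib.isInvertible_structureModule, rfl⟩,
      by rw [map_one, _root_.mul_one]⟩)).symm
  refine ⟨φ, fun Ω _ _ t => inferInstanceAs (IsAffine (Spec (CommRingCat.of Ω))),
    isBestApprox_of_univ φ (fun g x hx => ok_pull hf g x hx) (fun g h x _ => pull_pull hf g h x) h.1
      (fun T x _ hx => hG T x hx) huniq, fun Ω _ _ t hP => ⟨fun g => ⟨_, ok_pull hf g ξ h.1, huniq _ g hP _⟩,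
      fun x y hx hy e => ?_⟩⟩
  have e' : G _ x hx = G _ y hy := e
  exact r_trans hf _ (r_symm hf _ (hG _ x hx)) (e' ▸ hG _ y hy)

end JacAlbLib

end
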