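import Groth.Agent.JacAlbLib.Coarse
import Groth.Agent.PicCurveLib.PointDiv
import Groth.Agent.SurfNumLib.IdealMul
import Groth.Agent.AlgSpRegLib.CartierMul
import Groth.Agent.RelDualLib.Bundle

/-!
# Abel maps
-/

set_option autoImplicit false
set_option linter.style.haveILetI false
set_option linter.unusedSectionVars false
set_option backward.isDefEq.respectTransparency false
set_option backward.isDefEq.respectTransparency.types false
set_option maxRecDepth 8000
set_option maxHeartbeats 1000000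

universe u

open CategoryTheory CategoryTheory.Limits AlgebraicGeometry MonoidalCategory CartesianMonoidalCategory
open CubeConsLib (pull pull_comp pull_cl cl cl_eq_iff cl_tensor IsoCls)
open EllLawLib (idCls)
open PicCurveLib
open scoped MonObj

noncomputable section

namespace JacAlbLib

variable {C S : Scheme.{u}} {f : C ⟶ S}

/-- The base point. -/
def base (σ : S ⟶ C) (hσ : σ ≫ f = 𝟙 S) (T : Over S) : T ⟶ Over.mk f :=
  Over.homMk (T.hom ≫ σ) (by
    show (T.hom ≫ σ) ≫ f = T.hom
    rw [Category.assoc, hσ, Category.comp_id])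

variable {σ : S ⟶ C} {hσ : σ ≫ f = 𝟙 S}

@[simp]
theorem comp_base {T T' : Over S} (g : T' ⟶ T) : g ≫ base σ hσ T = base σ hσ T' :=
  Over.OverMorphism.ext (by
    show g.left ≫ T.hom ≫ σ = T'.hom ≫ σ
    rw [← Category.assoc, Over.w g])

/-- The ideal of a sum of effective Cartier divisors. -/
theorem idCls_prod {Y : Scheme.{u}} {α : Type*} (t : Finset α) (I : α → Y.IdealSheafData)
    (hI : ∀ i, BlowUp.IsEffCartierIdeal (I i)) (ht : t.Nonempty) :
    BlowUp.IsEffCartierIdeal (∏ i ∈ t, I i) ∧ idCls (∏ i ∈ t, I i) = ∏ i ∈ t, idCls (I i) := by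
  induction ht using Finset.Nonempty.cons_induction with
  | singleton a => exact ⟨by rw [Finset.prod_singleton]; exact hI a, by rw [Finset.prod_singleton, Finset.prod_singleton]⟩
  | cons a t ha ht ih =>
    rw [Finset.prod_cons, Finset.prod_cons]
    exact ⟨AlgSpRegLib.isEffCartier_mul (hI a) ih.1,
      ((cl_eq_iff.2 (SurfNumLib.nonempty_idealMod_mul (hI a) ih.1)).symm.trans (cl_tensor _ _)).trans
        (congrArg _ ih.2)⟩

/-- Multiplying by a sum of points subtracts its cardinality from the degree. -/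
theorem deg_prod [IsProper f] [Flat f] [LocallyOfFinitePresentation f] (hf : Fam f) {T : Over S} {α : Type*}
    (s : Finset α) (x : α → (T ⟶ Over.mk f)) :
    ∀ {L M : (PicF.XT f T).Modules}, PicF.IsInvertible L → cl L * ∏ i ∈ s, pc (x i) = cl M →
      ∀ t, deg f T L t = deg f T M t + s.card := by
  induction s using Finset.cons_induction with
  | empty =>
    intro L M _ e t
    rw [Finset.prod_empty, mul_one] at e
    rw [Finset.card_empty, Nat.cast_zero, add_zero]
    exact deg_congr f hf.dim_le T e t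
  | cons a s ha ih =>
    intro L M hL e t
    obtain ⟨I, hI, eI⟩ := invC_pc hf (x a)
    rw [Finset.prod_cons, ← mul_assoc, ← eI, ← cl_tensor] at e
    have h := ih (HilbPolyLib.isInvertible_tensor hL hI) e t
    rw [deg_tensor hf T hL hI t, deg_pc hf (x a) hI eI t] at h
    rw [Finset.card_cons]
    push_cast
    linarith

variable {J : Over S} [GrpObj J]

/-- An Abel map: the pullback of the universal class along a point is `O(x - σ)` up to a twist from the base. -/
structure IsAbel (σ : S ⟶ C) (hσ : σ ≫ f = 𝟙 S) (c : IsoCls (PicF.XT f J)) (j : Over.mk f ⟶ J) : Prop where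
  rel : ∀ (T : Over S) (x : T ⟶ Over.mk f), ∃ n : IsoCls T.left, InvC n ∧
    pull (PicF.XTmap f (x ≫ j)) c * pc x = pc (base σ hσ T) * pull (PicF.XTproj f T) n

variable [IsProper f] [Flat f] [LocallyOfFinitePresentation f] [Smooth f] [GeometricallyConnected f] (hf : Fam f)
  {c : IsoCls (PicF.XT f J)} (hc : IsRigJac σ hσ J c)
include hf

omit [Smooth f] [GeometricallyConnected f] in
theorem invC_prod_pc {T : Over S} {α : Type*} (s : Finset α) (x : α → (T ⟶ Over.mk f)) :
    InvC (∏ i ∈ s, pc (x i)) := by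
  induction s using Finset.cons_induction with
  | empty => rw [Finset.prod_empty]; exact ⟨_, CurvLib.isInvertible_structureModule, rfl⟩
  | cons a s ha ih => rw [Finset.prod_cons]; exact (invC_pc hf (x a)).mul ih

/-- Two rigidified classes with the same product with a given class, up to twists, are equal. -/
theorem eq_of_rel {T : Over S} {A A' U : IsoCls (PicF.XT f T)} (hA : RigZero σ hσ T A) (hA' : RigZero σ hσ T A')
    {n n' : IsoCls T.left} (hn : InvC n) (e : A * U = pull (PicF.XTproj f T) n)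
    (e' : A' * U = pull (PicF.XTproj f T) n') : A = A' := by
  obtain ⟨d, -, hnd⟩ := hn.exists_inv
  refine eq_of_twist hf hA hA' (n := d * n') (Eq.symm ?_)
  calc A * pull (PicF.XTproj f T) (d * n') = A' * (A * U) * pull (PicF.XTproj f T) d := by
        rw [map_mul, ← e']; ac_rfl
    _ = A' := by rw [e, mul_assoc, ← map_mul, hnd, map_one, mul_one]

include hc

theorem hom_ext {T : Over S} {a b : T ⟶ J} (e : pull (PicF.XTmap f a) c = pull (PicF.XTmap f b) c) : a = b :=
  (hc.bij T _ (rigZero_pull hf σ hσ a hc.rigZero)).unique rfl e.symm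

theorem pull_one (T : Over S) : pull (PicF.XTmap f (1 : T ⟶ J)) c = 1 := by
  obtain ⟨L, hL, eL, -⟩ := (rigZero_pull hf σ hσ (1 : T ⟶ J) hc.rigZero).rep
  have h := hc.mul T 1 1
  rw [mul_one, ← eL] at h
  have h1 : cl L = 1 := ((EllLawLib.isUnit_cl hL).mul_right_injective (h.symm.trans (mul_one _).symm))
  rw [← eL, h1]

theorem pull_prod [IsCommMonObj J] (T : Over S) {α : Type*} (s : Finset α) (g : α → (T ⟶ J)) :
    pull (PicF.XTmap f (∏ i ∈ s, g i)) c = ∏ i ∈ s, pull (PicF.XTmap f (g i)) c := by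
  induction s using Finset.cons_induction with
  | empty => rw [Finset.prod_empty, Finset.prod_empty]; exact pull_one hf hc T
  | cons a s ha ih => rw [Finset.prod_cons, Finset.prod_cons, hc.mul, ih]

/-- An Abel map sends the base point to the origin. -/
theorem base_comp {j : Over.mk f ⟶ J} (hj : IsAbel σ hσ c j) (T : Over S) : base σ hσ T ≫ j = 1 := by
  obtain ⟨n, hn, e⟩ := hj.rel T (base σ hσ T)
  refine hom_ext hf hc ?_
  refine eq_of_rel hf (rigZero_pull hf σ hσ _ hc.rigZero) (rigZero_pull hf σ hσ _ hc.rigZero) (U := 1)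
    (n := n) (n' := 1) hn ?_ (by rw [pull_one hf hc, one_mul, map_one])
  rw [mul_one]
  exact (invC_pc hf (base σ hσ T)).isUnit.mul_left_injective (e.trans (mul_comm _ _))

/-- An Abel map from the universal property. -/
theorem exists_abel : ∃ j : Over.mk f ⟶ J, IsAbel σ hσ c j := by
  obtain ⟨d, hd, hpd⟩ := (invC_pc hf (𝟙 (Over.mk f))).exists_inv
  obtain ⟨c', n, hc', hn, hr, ec'⟩ :=
    exists_rigid (f := f) (σ := σ) (hσ := hσ) (g := (Over.mk f).hom) ((invC_pc hf (base σ hσ (Over.mk f))).mul hd)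
  obtain ⟨L, hL, eL⟩ := hc'
  have hz : RigZero σ hσ (Over.mk f) c' := by
    refine ⟨⟨L, hL, eL, fun t => ?_⟩, hr⟩
    obtain ⟨D, hD, rfl⟩ := hn
    obtain ⟨P, hP, eP⟩ := invC_pc hf (base σ hσ (Over.mk f))
    have h : cl L * ∏ i ∈ ({()} : Finset Unit), pc ((fun _ => 𝟙 (Over.mk f)) i) =
        cl (CohB1.tensorMod P ((Scheme.Modules.pullback (PicF.XTproj f (Over.mk f))).obj D)) := by
      rw [Finset.prod_singleton, cl_tensor, eL, eP, ec']
      calc pc (base σ hσ (Over.mk f)) * d * pull (pullback.snd f (Over.mk f).hom) (cl D) * pc (𝟙 (Over.mk f))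
          = pc (base σ hσ (Over.mk f)) * pull (pullback.snd f (Over.mk f).hom) (cl D) * (pc (𝟙 (Over.mk f)) * d) := by
            ac_rfl
        _ = _ := by rw [hpd, mul_one]; rfl
    rw [deg_prod hf _ _ hL h t, deg_twist hf (Over.mk f) hD (cl_tensor _ _) t, deg_pc hf _ hP eP t]
    simp
  obtain ⟨j, hj, -⟩ := hc.bij _ _ hz
  refine ⟨j, ⟨fun T x => ⟨pull x.left n, hn.pull _, ?_⟩⟩⟩
  have hdx : pull (PicF.XTmap f x) d * pc x = 1 := by
    conv_lhs => rw [show pc x = pull (PicF.XTmap f x) (pc (𝟙 (Over.mk f))) by rw [pull_pc hf, Category.comp_id]]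
    rw [← map_mul, mul_comm, hpd, map_one]
  rw [← DescAppLib.XTmap_comp, ← pull_comp, hj, ec']
  erw [map_mul, map_mul, pull_pc hf x, comp_base]
  calc pc (base σ hσ T) * pull (PicF.XTmap f x) d * pull (PicF.XTmap f x) (pull (pullback.snd f (Over.mk f).hom) n) * pc x
      = pc (base σ hσ T) * pull (PicF.XTmap f x) (pull (PicF.XTproj f (Over.mk f)) n) * (pull (PicF.XTmap f x) d * pc x) := by
        ac_rfl
    _ = _ := by rw [hdx, mul_one, pull_comp, DescAppLib.XTmap_proj, ← pull_comp]

/-- The Abel map attached to a classifying map is an Abel map. -/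
theorem isAbel_of_isAbelJacobiAt {ψ : (ModFun.PicDeg f 0).Hom ⊤ J}
    (hψ : ∀ (T : Over S) (L : (PicF.XT f T).Modules) (hL : (ModFun.PicDeg f 0).ok T L),
      ∃ n : IsoCls T.left, InvC n ∧ pull (PicF.XTmap f (ψ.app T L trivial hL)) c = cl L * pull (PicF.XTproj f T) n)
    {j : Over.mk f ⟶ J} (hj : Jac.IsAbelJacobiAt f σ ψ j) : IsAbel σ hσ c j := by
  obtain ⟨hP, L, hL, ⟨-, hLM⟩, rfl⟩ := hj
  obtain ⟨n, hn, e⟩ := hψ _ L hL
  have hdiag : idCls (pullback.diagonal f).ker = (pc (𝟙 (Over.mk f)) : IsoCls (PicF.XT f (Over.mk f))) := by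
    have h : (pullback.diagonal f) = HilbPts.SC.secF f (𝟙 (Over.mk f) : Over.mk f ⟶ Over.mk f).left
        (Over.w (𝟙 (Over.mk f) : Over.mk f ⟶ Over.mk f)) := by
      apply pullback.hom_ext <;> simp [HilbPts.SC.secF]
    exact congrArg (fun z : (Over.mk f).left ⟶ PicF.XT f (Over.mk f) => idCls z.ker) h
  haveI : IsClosedImmersion σ := by
    haveI : IsClosedImmersion (σ ≫ f) := by rw [hσ]; infer_instance
    exact IsClosedImmersion.of_comp σ f
  have hbase : pull (pullback.fst f f) (idCls σ.ker) =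
      (pc (base σ hσ (Over.mk f)) : IsoCls (PicF.XT f (Over.mk f))) := by
    let s : C ⟶ pullback f f := HilbPts.SC.secF f (base σ hσ (Over.mk f)).left (Over.w (base σ hσ (Over.mk f)))
    have H : IsPullback f s σ (pullback.fst f f) := by
      refine IsPullback.of_bot ?_ (pullback.lift_fst _ _ _).symm (IsPullback.of_hasPullback f f)
      rw [show s ≫ pullback.snd f f = 𝟙 C from pullback.lift_snd _ _ _, hσ]
      exact IsPullback.of_vert_isIso ⟨by simp⟩
    have hcomap : σ.ker.comap (pullback.fst f f) = s.ker := SecDivLib.comap_ker_of_isPullback H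
    rw [EllLawLib.pull_idCls _ (RelDualLib.isEffCartier_section f hf.dim σ hσ)
      (by rw [hcomap]; exact effCartier_sec hf (base σ hσ (Over.mk f))), hcomap]
    rfl
  have h2 : cl L * pc (𝟙 (Over.mk f)) = pc (base σ hσ (Over.mk f)) := by
    rw [← hdiag, ← hbase, idCls, ← cl_tensor]
    exact cl_eq_iff.2 hLM
  refine ⟨fun T x => ⟨pull x.left n, hn.pull _, ?_⟩⟩
  have h3 : pull (PicF.XTmap f x) (cl L) * pc x = pc (base σ hσ T) := by
    have := congrArg (pull (PicF.XTmap f x)) h2
    rwa [map_mul, pull_pc hf, pull_pc hf, Category.comp_id, comp_base] at this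
  rw [← DescAppLib.XTmap_comp, ← pull_comp, e, map_mul, pull_comp (PicF.XTmap f x) (PicF.XTproj f _),
    DescAppLib.XTmap_proj, ← pull_comp, mul_right_comm, h3]

end JacAlbLib

end
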