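import Groth.Agent.PicCurveLib.JacBC
import Groth.Agent.JacAlbLib.Setup
import Groth.Agent.JacAlbLib.Corr

/-!
# Base change of the presentation of a Jacobian
-/

set_option autoImplicit false
set_option linter.style.haveILetI false
set_option linter.unusedSectionVars false
set_option backward.isDefEq.respectTransparency false
set_option backward.isDefEq.respectTransparency.types false
set_option maxRecDepth 8000
set_option maxHeartbeats 1000000

universe u

open CategoryTheory CategoryTheory.Limits AlgebraicGeometry MonoidalCategory CartesianMonoidalCategory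
open CubeConsLib (pull pull_comp pull_cl cl cl_eq_iff cl_tensor IsoCls)
open AVIndexLib (dn dnMap toDn toDn_injective toDn_comp toDn_mul diagBc toDn_diag_map inv_bcXTIso_natural)
open EllLawLib (idCls)
open PicCurveLib
open scoped MonObj

noncomputable section

namespace JacAlbLib

variable {C S S' : Scheme.{u}} {f : C ⟶ S} (t : S' ⟶ S)

/-- Naturality of the identification of the total spaces. -/
theorem hom_bcXTIso_natural {U V : Over S'} (g : U ⟶ V) :
    (AgPol.bcXTIso t (Over.mk f) U).hom ≫ PicF.XTmap f (dnMap t g) =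
      PicF.XTmap (pullback.snd f t) g ≫ (AgPol.bcXTIso t (Over.mk f) V).hom := by
  rw [← cancel_mono (AgPol.bcXTIso t (Over.mk f) V).inv, Category.assoc, Category.assoc, Iso.hom_inv_id,
    Category.comp_id]
  erw [← inv_bcXTIso_natural (A := Over.mk f) t g]
  rw [Iso.hom_inv_id_assoc]
  rfl

/-- The universal class of the base change. -/
def bcCls {J : Over S} (c : IsoCls (PicF.XT f J)) : IsoCls (PicF.XT (pullback.snd f t) (Red.bc t J)) :=
  pull (AgPol.bcXTIso t (Over.mk f) (Red.bc t J)).hom (pull (PicF.XTmap f (toDn t (𝟙 (Red.bc t J)))) c)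

theorem pull_bcCls {J : Over S} (c : IsoCls (PicF.XT f J)) {T : Over S'} (g : T ⟶ Red.bc t J) :
    pull (PicF.XTmap (pullback.snd f t) g) (bcCls t c) =
      pull (AgPol.bcXTIso t (Over.mk f) T).hom (pull (PicF.XTmap f (toDn t g)) c) := by
  have e : toDn t g = dnMap t g ≫ toDn t (𝟙 (Red.bc t J)) := by rw [← toDn_comp, Category.comp_id]
  rw [e, ← DescAppLib.XTmap_comp]
  refine Eq.trans ?_ (congrArg (pull _) (pull_comp (PicF.XTmap f (dnMap t g)) (PicF.XTmap f (toDn t (𝟙 (Red.bc t J)))) c))
  refine (pull_comp _ _ _).trans ((pull_comp _ _ _).trans ?_)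
  refine Eq.trans ?_ ((pull_comp _ _ _).trans (pull_comp _ _ _)).symm
  exact congrArg (fun m => pull m c) (congrArg (· ≫ _) (hom_bcXTIso_natural t g).symm)

/-- The base change of a point of the curve. -/
theorem pull_hom_pc [IsProper f] [Flat f] [LocallyOfFinitePresentation f] (hf : Fam f) {T : Over S'}
    (x : T ⟶ Over.mk (pullback.snd f t)) [IsProper (pullback.snd f t)] [Flat (pullback.snd f t)]
    [LocallyOfFinitePresentation (pullback.snd f t)] :
    pull (AgPol.bcXTIso t (Over.mk f) T).hom (pc (toDn (X := Over.mk f) t x)) = pc x := by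
  let θ := (AgPol.bcXTIso t (Over.mk f) T).hom
  let s := HilbPts.SC.secF f (toDn (X := Over.mk f) t x).left (Over.w (toDn (X := Over.mk f) t x))
  let s' := HilbPts.SC.secF (pullback.snd f t) x.left (Over.w x)
  have hs : s' ≫ θ = s := by
    apply pullback.hom_ext
    · rw [Category.assoc]
      erw [pullbackLeftPullbackSndIso_hom_fst f t T.hom]
      rw [← Category.assoc]
      erw [HilbPts.SC.secF_fst, HilbPts.SC.secF_fst]
      rfl
    · rw [Category.assoc]
      erw [pullbackLeftPullbackSndIso_hom_snd f t T.hom]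
      erw [HilbPts.SC.secF_snd, HilbPts.SC.secF_snd]
  haveI : IsIso θ := inferInstanceAs (IsIso (AgPol.bcXTIso t (Over.mk f) T).hom)
  have H : IsPullback (𝟙 _) s' s θ := IsPullback.of_horiz_isIso ⟨(Category.id_comp s).trans hs.symm⟩
  have hker : s.ker.comap θ = s'.ker := by
    haveI : IsClosedImmersion s := by
      haveI : IsClosedImmersion (s ≫ pullback.snd f (dn t T).hom) := by
        rw [show s ≫ pullback.snd f (dn t T).hom = 𝟙 _ from HilbPts.SC.secF_snd _ _ _]; infer_instance
      exact IsClosedImmersion.of_comp s (pullback.snd f (dn t T).hom)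
    exact SecDivLib.comap_ker_of_isPullback H
  show pull θ (idCls s.ker) = idCls s'.ker
  rw [EllLawLib.pull_idCls θ (effCartier_sec hf (toDn (X := Over.mk f) t x))
    (by rw [hker]; exact effCartier_sec (fam_snd hf t) x), hker]

theorem toDn_base [IsProper f] [Flat f] [LocallyOfFinitePresentation f] [Smooth f] [GeometricallyConnected f]
    {σ : S ⟶ C} {hσ : σ ≫ f = 𝟙 S} (T : Over S') :
    toDn (X := Over.mk f) t (base (bcSec t σ hσ) (bcSec_snd t) T) = base σ hσ (dn t T) :=
  Over.OverMorphism.ext (by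
    show (T.hom ≫ bcSec t σ hσ) ≫ pullback.fst f t = (T.hom ≫ t) ≫ σ
    rw [Category.assoc, Category.assoc]
    exact congrArg (T.hom ≫ ·) (pullback.lift_fst _ _ _))

variable [IsProper f] [Flat f] [LocallyOfFinitePresentation f] [Smooth f] [GeometricallyConnected f] (hf : Fam f)
  {σ : S ⟶ C} {hσ : σ ≫ f = 𝟙 S} {J : Over S} [GrpObj J] {c : IsoCls (PicF.XT f J)}
  [IsProper (pullback.snd f t)] [Flat (pullback.snd f t)] [LocallyOfFinitePresentation (pullback.snd f t)]
include hf

/-- **The base change of a fine Jacobian is one.** -/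
theorem isRigJac_bc (hc : IsRigJac σ hσ J c) :
    IsRigJac (bcSec t σ hσ) (bcSec_snd t) (Red.bc t J) (bcCls t c) := by
  refine ⟨rigZero_bc_hom hf t (rigZero_pull hf σ hσ _ hc.rigZero), fun T d hd => ?_, fun T g h => ?_⟩
  · obtain ⟨a, ha, hau⟩ := hc.bij (dn t T) _ (rigZero_bc_inv hf t hd)
    refine ⟨diagBc t T ≫ (Over.pullback t).map a, ?_, fun g hg => ?_⟩
    · show pull _ (bcCls t c) = d
      rw [pull_bcCls, toDn_diag_map, ha, pull_comp, Iso.hom_inv_id]
      exact DescAppLib.pull_id d
    · have hg' : pull (PicF.XTmap (pullback.snd f t) g) (bcCls t c) = d := hg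
      refine toDn_injective t ((hau _ ?_).trans (toDn_diag_map t a).symm)
      show pull (PicF.XTmap f (toDn t g)) c = _
      rw [← hg', pull_bcCls, pull_comp, Iso.inv_hom_id]
      exact (DescAppLib.pull_id _).symm
  · rw [pull_bcCls, pull_bcCls, pull_bcCls, toDn_mul, hc.mul, map_mul]

/-- The base change of an Abel map is one. -/
theorem isAbel_bc {j : Over.mk f ⟶ J} (hj : IsAbel σ hσ c j) :
    IsAbel (bcSec t σ hσ) (bcSec_snd t) (bcCls t c) ((Over.pullback t).map j) := by
  refine ⟨fun T x => ?_⟩
  obtain ⟨n, hn, e⟩ := hj.rel (dn t T) (toDn (X := Over.mk f) t x)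
  refine ⟨n, hn, ?_⟩
  have ex : toDn t (x ≫ (Over.pullback t).map j) = toDn (X := Over.mk f) t x ≫ j := Over.OverMorphism.ext (by
    show (x.left ≫ ((Over.pullback t).map j).left) ≫ pullback.fst J.hom t = (x.left ≫ pullback.fst f t) ≫ j.left
    rw [Category.assoc, Category.assoc]
    exact congrArg (x.left ≫ ·) (pullback.lift_fst _ _ _))
  rw [pull_bcCls, ex, ← pull_hom_pc t hf x, ← pull_hom_pc t hf (base (bcSec t σ hσ) (bcSec_snd t) T),
    toDn_base t T]
  refine ((map_mul _ _ _).symm.trans ((congrArg _ e).trans (map_mul _ _ _))).trans ?_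
  refine congrArg (_ * ·) ((pull_comp _ _ _).trans ?_)
  exact congrArg (fun m => pull m n) (pullbackLeftPullbackSndIso_hom_snd f t T.hom)

end JacAlbLib

end
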