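import Groth.Agent.PicCurveLib.GrpLaw
import Groth.Prelude.Def_Jac
import Groth.Agent.CohCmpLib.LineBundle

/-!
# From a coarse Jacobian to a universal rigidified class
-/

set_option autoImplicit false
set_option linter.style.haveILetI false
set_option linter.unusedSectionVars false
set_option backward.isDefEq.respectTransparency false
set_option backward.isDefEq.respectTransparency.types false
set_option maxRecDepth 8000
set_option maxHeartbeats 1000000

universe u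

open CategoryTheory CategoryTheory.Limits AlgebraicGeometry MonoidalCategory CartesianMonoidalCategory
open CubeConsLib (pull pull_comp pull_cl cl cl_eq_iff cl_tensor IsoCls)
open PicCurveLib
open scoped MonObj

noncomputable section

namespace JacAlbLib

variable {C S : Scheme.{u}} {f : C ⟶ S}

section Ok

variable [IsProper f] [Flat f] [LocallyOfFinitePresentation f] (hf : Fam f)
include hf

/-- Admissibility for `PicDeg` is invertibility of fibre degree `d`. -/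
theorem ok_iff (d : ℤ) (T : Over S) (L : (PicF.XT f T).Modules) :
    (ModFun.PicDeg f d).ok T L ↔ PicF.IsInvertible L ∧ ∀ t, deg f T L t = d := by
  have key : ∀ (_ : PicF.IsInvertible L) (Ω : Type u) [Field Ω] [IsAlgClosed Ω]
      (z : Spec (CommRingCat.of Ω) ⟶ T.left),
      letI : (PicF.XT f (Over.mk (z ≫ T.hom))).Over (Spec (CommRingCat.of Ω)) := ⟨PicF.XTproj f (Over.mk (z ≫ T.hom))⟩
      Curv2.deg Ω (PicF.XT f (Over.mk (z ≫ T.hom)))
        ((Scheme.Modules.pullback (PicF.XTmap f (Over.homMk z rfl : Over.mk (z ≫ T.hom) ⟶ T))).obj L) 1 =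
        deg f T L (z (IsLocalRing.closedPoint Ω)) := by
    intro hL Ω _ _ z
    letI : (PicF.XT f (Over.mk (z ≫ T.hom))).Over (Spec (CommRingCat.of Ω)) := ⟨PicF.XTproj f (Over.mk (z ≫ T.hom))⟩
    have hZ : Fam ((PicF.XT f (Over.mk (z ≫ T.hom))) ↘ Spec (CommRingCat.of Ω)) := fam_snd hf (z ≫ T.hom)
    have h := deg_point f hf.dim_le T hL (K := Ω) (Z := PicF.XT f (Over.mk (z ≫ T.hom)))
      (g' := PicF.XTmap f (Over.homMk z rfl : Over.mk (z ≫ T.hom) ⟶ T)) (v := z)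
      (DescAppLib.isPullback_XTmap f (Over.homMk z rfl : Over.mk (z ≫ T.hom) ⟶ T)) (IsLocalRing.closedPoint Ω)
    rw [chi_eq_euler hZ, chi_eq_euler hZ] at h
    rw [Curv2.deg, Nat.cast_one, one_mul]
    exact h
  constructor
  · rintro ⟨⟨-, hr⟩, hd⟩
    have hL : PicF.IsInvertible L := (CohCmpLib.invertible_iff_rank_one L).2 hr
    refine ⟨hL, fun t => ?_⟩
    obtain ⟨Ω, _, _, ⟨w⟩⟩ := AlgEquivLib.exists_geom T.left t
    rw [← show (w ≫ T.left.fromSpecResidueField t) (IsLocalRing.closedPoint Ω) = t from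
      Scheme.fromSpecResidueField_apply t _, ← key hL Ω (w ≫ T.left.fromSpecResidueField t)]
    exact hd Ω (w ≫ T.left.fromSpecResidueField t)
  · rintro ⟨hL, hd⟩
    refine ⟨⟨trivial, (CohCmpLib.invertible_iff_rank_one L).1 hL⟩, ?_⟩
    intro Ω _ _ z
    exact (key hL Ω z).trans (hd _)

end Ok

/-- A group scheme with a universal, multiplicative, rigidified class of degree zero. -/
structure IsRigJac (σ : S ⟶ C) (hσ : σ ≫ f = 𝟙 S) (J : Over S) [GrpObj J] (c : IsoCls (PicF.XT f J)) : Prop where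
  rigZero : RigZero σ hσ J c
  bij : ∀ (T : Over S) (d : IsoCls (PicF.XT f T)), RigZero σ hσ T d →
    ∃! g : T ⟶ J, pull (PicF.XTmap f g) c = d
  mul : ∀ (T : Over S) (g h : T ⟶ J),
    pull (PicF.XTmap f (g * h)) c = pull (PicF.XTmap f g) c * pull (PicF.XTmap f h) c

variable [IsProper f] [Flat f] [LocallyOfFinitePresentation f] [Smooth f] [GeometricallyConnected f] (hf : Fam f)
  {σ : S ⟶ C} {hσ : σ ≫ f = 𝟙 S}
include hf

/-- Normalisation of an admissible family. -/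
theorem exists_norm (T : Over S) (L : (PicF.XT f T).Modules) (hL : (ModFun.PicDeg f 0).ok T L) :
    ∃ (L' : (PicF.XT f T).Modules), (ModFun.PicDeg f 0).ok T L' ∧ RigZero σ hσ T (cl L') ∧
      ∃ D : T.left.Modules, PicF.IsInvertible D ∧ cl L' = cl L * pull (PicF.XTproj f T) (cl D) := by
  obtain ⟨hLi, hd⟩ := (ok_iff hf 0 T L).1 hL
  obtain ⟨c', n, -, ⟨D, hD, rfl⟩, hr, rfl⟩ :=
    exists_rigid (f := f) (σ := σ) (hσ := hσ) (g := T.hom) (c := cl L) ⟨L, hLi, rfl⟩
  let L' := CohB1.tensorMod L ((Scheme.Modules.pullback (PicF.XTproj f T)).obj D)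
  have hc : cl L' = cl L * pull (PicF.XTproj f T) (cl D) := cl_tensor _ _
  have hL'i : PicF.IsInvertible L' := HilbPolyLib.isInvertible_tensor hLi (AmpleDevLib.isInvertible_pb _ hD)
  have h0 : ∀ t, deg f T L' t = 0 := fun t => (deg_twist hf T hD hc t).trans (hd t)
  exact ⟨L', (ok_iff hf 0 T L').2 ⟨hL'i, h0⟩, ⟨⟨L', hL'i, rfl, h0⟩, by rw [hc]; exact hr⟩, D, hD, hc⟩

omit [Smooth f] [GeometricallyConnected f] in
theorem r_of_twist {T : Over S} {L L' : (PicF.XT f T).Modules} {D : T.left.Modules} (hD : PicF.IsInvertible D)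
    (e : cl L' = cl L * pull (PicF.XTproj f T) (cl D)) : (ModFun.PicDeg f 0).r T L L' :=
  ⟨D, hD, cl_eq_iff.1 (e.trans (cl_tensor _ _).symm)⟩

/-- Two rigidified classes differing by a twist from the base are equal. -/
theorem eq_of_twist {T : Over S} {c c' : IsoCls (PicF.XT f T)} (hc : RigZero σ hσ T c) (hc' : RigZero σ hσ T c')
    {n : IsoCls T.left} (e : c' = c * pull (PicF.XTproj f T) n) : c = c' := by
  obtain ⟨L, hL, eL, -⟩ := hc.rep
  refine eq_of_rigid (σ := σ) (hσ := hσ) (g := T.hom) ⟨L, hL, eL⟩ hc.rig hc'.rig (n := n) (n' := 1) ?_ ?_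
  · have h := congrArg (pull (PicF.secT f σ hσ T)) e
    rw [map_mul, hc.rig, hc'.rig, one_mul, pull_comp, DescAppLib.secT_proj, DescAppLib.pull_id] at h
    exact ⟨_, CurvLib.isInvertible_structureModule, h⟩
  · rw [map_one, mul_one]
    exact e.symm

variable {J₀ : Over S} (ξ : PicF.Rig f σ hσ J₀) (hξ : FGA.HasFibreDegreeZeroCl f J₀ ξ.1)
  (huniv : ∀ (T : Over S) (c : PicF.Rig f σ hσ T), FGA.HasFibreDegreeZeroCl f T c.1 →
    ∃! g : T ⟶ J₀, PicF.pullCl (PicF.XTmap f g) ξ.1 = c.1)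
include hξ huniv

omit [Smooth f] [GeometricallyConnected f] in
/-- The class form of a universal rigidified class of degree zero. -/
theorem exists_cls : ∃ N : (PicF.XT f J₀).Modules, RigZero σ hσ J₀ (cl N) ∧
    ∀ (T : Over S) (d : IsoCls (PicF.XT f T)), RigZero σ hσ T d → ∃! g : T ⟶ J₀, pull (PicF.XTmap f g) (cl N) = d := by
  obtain ⟨N, hNc, hN⟩ := ξ.2.1
  rw [← hNc] at hξ
  have hNd : ∀ t, deg f J₀ N t = 0 := (isPicZeroCl_iff hf J₀ hN).1 ((hasFibreDegreeZeroCl_iff hf J₀ hN).1 hξ)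
  have hr : pull (PicF.secT f σ hσ J₀) (cl N) = 1 := by
    have h := ξ.2.2
    rw [← hNc] at h
    exact EllLawLib.toCl_eq.1 h
  refine ⟨N, ⟨⟨N, hN, rfl, hNd⟩, hr⟩, ?_⟩
  rintro T _ ⟨⟨L, hL, rfl, dL⟩, rL⟩
  have key : ∀ g : T ⟶ J₀, PicF.pullCl (PicF.XTmap f g) ξ.1 = PicF.cl L ↔ pull (PicF.XTmap f g) (cl N) = cl L := fun g => by
    rw [← hNc]
    exact EllLawLib.toCl_eq (A := (Scheme.Modules.pullback (PicF.XTmap f g)).obj N) (B := L)
  obtain ⟨g, hg, hgu⟩ := huniv T ⟨PicF.cl L, ⟨L, rfl, hL⟩, EllLawLib.toCl_eq.2 rL⟩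
    ⟨L, rfl, (hasFibreDegreeZero_iff T L).2 fun t => dL t⟩
  exact ⟨g, (key g).1 hg, fun g' hg' => hgu g' ((key g').2 hg')⟩

/-- **A coarse Jacobian carries a universal rigidified class, compatible with the classifying map.** -/
theorem exists_isRigJac {J : Over S} [GrpObj J] (ψ : (ModFun.PicDeg f 0).Hom ⊤ J) (hJ : Jac.IsJacobian f ⊤ J ψ) :
    ∃ c : IsoCls (PicF.XT f J), IsRigJac σ hσ J c ∧
      ∀ (T : Over S) (L : (PicF.XT f T).Modules) (hL : (ModFun.PicDeg f 0).ok T L),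
        ∃ n : IsoCls T.left, InvC n ∧ pull (PicF.XTmap f (ψ.app T L trivial hL)) c = cl L * pull (PicF.XTproj f T) n := by
  obtain ⟨N, hN, hbij⟩ := exists_cls hf ξ hξ huniv
  have exN : ∀ (T : Over S) (L : (PicF.XT f T).Modules), (ModFun.PicDeg f 0).ok T L →
      ∃ (g : T ⟶ J₀), ∃ D : T.left.Modules, PicF.IsInvertible D ∧
        pull (PicF.XTmap f g) (cl N) = cl L * pull (PicF.XTproj f T) (cl D) := fun T L hL => by
    obtain ⟨L', -, hz, D, hD, e⟩ := exists_norm hf (σ := σ) (hσ := hσ) T L hL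
    obtain ⟨g, hg, -⟩ := hbij T _ hz
    exact ⟨g, D, hD, hg.trans e⟩
  have uniq : ∀ (T : Over S) (L : (PicF.XT f T).Modules) (g g' : T ⟶ J₀) (n n' : IsoCls T.left), InvC n →
      pull (PicF.XTmap f g) (cl N) = cl L * pull (PicF.XTproj f T) n →
      pull (PicF.XTmap f g') (cl N) = cl L * pull (PicF.XTproj f T) n' → g = g' := by
    intro T L g g' n n' hn e e'
    obtain ⟨d, -, hnd⟩ := hn.exists_inv
    have hu : pull (PicF.XTproj f T) n * pull (PicF.XTproj f T) d = 1 := by rw [← map_mul, hnd, map_one]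
    have h := eq_of_twist hf (rigZero_pull hf σ hσ g hN) (rigZero_pull hf σ hσ g' hN) (n := d * n') (by
      rw [e, e', map_mul, mul_assoc, ← mul_assoc (pull (PicF.XTproj f T) n), hu, one_mul])
    exact (hbij T _ (rigZero_pull hf σ hσ g hN)).unique rfl h.symm
  let ψ₀ : (ModFun.PicDeg f 0).Hom ⊤ J₀ :=
    { app := fun T L _ hL => (exN T L hL).choose
      natural := fun {T T'} g L _ _ hL hL' => by
        obtain ⟨D, hD, e⟩ := (exN T L hL).choose_spec
        obtain ⟨D', hD', e'⟩ := (exN T' _ hL').choose_spec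
        refine uniq T' _ _ _ (cl D') (pull g.left (cl D)) ⟨D', hD', rfl⟩ e' ?_
        rw [← DescAppLib.XTmap_comp, ← pull_comp, e, map_mul, pull_comp (PicF.XTmap f g), DescAppLib.XTmap_proj,
          ← pull_comp]
        rfl
      resp := fun {T} L L' _ hL hL' ⟨D, hD, ⟨i⟩⟩ => by
        obtain ⟨D₁, hD₁, e₁⟩ := (exN T L hL).choose_spec
        obtain ⟨D₂, hD₂, e₂⟩ := (exN T L' hL').choose_spec
        refine uniq T L _ _ (cl D₁) (cl D * cl D₂) ⟨D₁, hD₁, rfl⟩ e₁ (e₂.trans ?_)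
        rw [map_mul, ← mul_assoc, cl_eq_iff.2 ⟨i⟩, cl_tensor]
        rfl }
  have hψ₀ : ∀ (T : Over S) (L : (PicF.XT f T).Modules) (hL : (ModFun.PicDeg f 0).ok T L),
      ∃ D : T.left.Modules, PicF.IsInvertible D ∧
        pull (PicF.XTmap f (ψ₀.app T L trivial hL)) (cl N) = cl L * pull (PicF.XTproj f T) (cl D) :=
    fun T L hL => (exN T L hL).choose_spec
  obtain ⟨-, hba, -⟩ := hJ.coarse
  obtain ⟨u, hu, -⟩ := hba J₀ ψ₀
  have hNok : (ModFun.PicDeg f 0).ok J₀ N := by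
    obtain ⟨L, hL, eL, dL⟩ := hN.rep
    exact (ok_iff hf 0 J₀ N).2 ⟨HilbPolyLib.isInvertible_of_iso (cl_eq_iff.1 eL).some hL,
      fun t => (deg_congr f hf.dim_le J₀ eL.symm t).trans (dL t)⟩
  let v : J₀ ⟶ J := ψ.app J₀ N trivial hNok
  have hvu : v ≫ u = 𝟙 J₀ := by
    obtain ⟨D, hD, e⟩ := hψ₀ J₀ N hNok
    rw [← hu J₀ N trivial hNok]
    refine uniq J₀ N _ _ (cl D) 1 ⟨D, hD, rfl⟩ e ?_
    rw [map_one, mul_one, show PicF.XTmap f (𝟙 J₀) = 𝟙 _ by apply pullback.hom_ext <;> simp [PicF.XTmap],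
      DescAppLib.pull_id]
  have hψv : ∀ (T : Over S) (L : (PicF.XT f T).Modules) (hL : (ModFun.PicDeg f 0).ok T L),
      ψ₀.app T L trivial hL ≫ v = ψ.app T L trivial hL := fun T L hL => by
    obtain ⟨D, hD, e⟩ := hψ₀ T L hL
    have hok : (ModFun.PicDeg f 0).ok T ((Scheme.Modules.pullback (PicF.XTmap f (ψ₀.app T L trivial hL))).obj N) :=
      (ok_iff hf 0 T _).2 ⟨AmpleDevLib.isInvertible_pb _ ((ok_iff hf 0 J₀ N).1 hNok).1,
        fun t => (deg_map f hf.dim_le _ ((ok_iff hf 0 J₀ N).1 hNok).1 t).trans (((ok_iff hf 0 J₀ N).1 hNok).2 _)⟩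
    exact (ψ.natural (ψ₀.app T L trivial hL) N trivial trivial hNok hok).symm.trans
      (ψ.resp _ _ trivial hL hok (r_of_twist hf hD e)).symm
  have huv : u ≫ v = 𝟙 J := by
    obtain ⟨w, -, hw⟩ := hba J ψ
    refine (hw _ fun T L hT hL => ?_).trans (hw _ fun T L hT hL => (Category.comp_id _).symm).symm
    rw [← Category.assoc, ← hu T L hT hL]
    exact (hψv T L hL).symm
  have ex' : ∀ (T : Over S) (L : (PicF.XT f T).Modules) (hL : (ModFun.PicDeg f 0).ok T L),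
      ∃ n : IsoCls T.left, InvC n ∧ pull (PicF.XTmap f (ψ.app T L trivial hL)) (pull (PicF.XTmap f u) (cl N)) =
        cl L * pull (PicF.XTproj f T) n := fun T L hL => by
    obtain ⟨D, hD, e⟩ := hψ₀ T L hL
    exact ⟨cl D, ⟨D, hD, rfl⟩, by rw [pull_comp, DescAppLib.XTmap_comp, ← hu T L trivial hL, e]⟩
  refine ⟨pull (PicF.XTmap f u) (cl N), ⟨rigZero_pull hf σ hσ u hN, fun T d hd => ?_, fun T g h => ?_⟩, ex'⟩
  · obtain ⟨g, hg, hgu⟩ := hbij T d hd
    refine ⟨g ≫ v, ?_, fun g' hg' => ?_⟩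
    · show pull (PicF.XTmap f (g ≫ v)) (pull (PicF.XTmap f u) (cl N)) = d
      rw [pull_comp, DescAppLib.XTmap_comp, Category.assoc, hvu, Category.comp_id, hg]
    · rw [← hgu (g' ≫ u) (by dsimp only; rw [← DescAppLib.XTmap_comp, ← pull_comp, hg']), Category.assoc, huv,
        Category.comp_id]
  · obtain ⟨L, hL, eL, dL⟩ := (rigZero_pull hf σ hσ g (rigZero_pull hf σ hσ u hN)).rep
    obtain ⟨M, hM, eM, dM⟩ := (rigZero_pull hf σ hσ h (rigZero_pull hf σ hσ u hN)).rep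
    have hLok : (ModFun.PicDeg f 0).ok T L := (ok_iff hf 0 T L).2 ⟨hL, dL⟩
    have hMok : (ModFun.PicDeg f 0).ok T M := (ok_iff hf 0 T M).2 ⟨hM, dM⟩
    have hLMok : (ModFun.PicDeg f 0).ok T (CohB1.tensorMod L M) := (ok_iff hf 0 T _).2
      ⟨HilbPolyLib.isInvertible_tensor hL hM, fun t => by rw [deg_tensor hf T hL hM t, dL, dM, add_zero]⟩
    have hrec : ∀ (g : T ⟶ J) (L : (PicF.XT f T).Modules) (hL : (ModFun.PicDeg f 0).ok T L),
        cl L = pull (PicF.XTmap f g) (pull (PicF.XTmap f u) (cl N)) → ψ.app T L trivial hL = g := by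
      intro g L hL e
      obtain ⟨D, hD, e'⟩ := hψ₀ T L hL
      have h1 : ψ₀.app T L trivial hL = g ≫ u := uniq T L _ _ (cl D) 1 ⟨D, hD, rfl⟩ e' (by
        rw [map_one, mul_one, e, pull_comp, DescAppLib.XTmap_comp])
      rw [← hψv T L hL, h1, Category.assoc, huv, Category.comp_id]
    have e3 := hJ.mul T trivial L M (CohB1.tensorMod L M) hLok hMok hLMok ⟨Iso.refl _⟩
    rw [hrec g L hLok eL, hrec h M hMok eM] at e3
    obtain ⟨n, -, hn⟩ := ex' T _ hLMok
    rw [e3] at hn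
    rw [← eL, ← eM, ← cl_tensor]
    exact (eq_of_twist hf ⟨⟨_, HilbPolyLib.isInvertible_tensor hL hM, rfl, ((ok_iff hf 0 T _).1 hLMok).2⟩,
      by rw [cl_tensor, map_mul, eL, eM, (rigZero_pull hf σ hσ g (rigZero_pull hf σ hσ u hN)).rig,
        (rigZero_pull hf σ hσ h (rigZero_pull hf σ hσ u hN)).rig, one_mul]⟩
      (rigZero_pull hf σ hσ (g * h) (rigZero_pull hf σ hσ u hN)) hn).symm

end JacAlbLib

end
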