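import Groth.Agent.HilbPtsLib.SymHilb
import Groth.Agent.HilbPtsLib.Split
import Groth.Agent.AlgSpRegLib.CutByApps
import Mathlib.AlgebraicGeometry.Morphisms.Etale

/-!
# The sum map is étale where the points are distinct
-/

set_option autoImplicit false
set_option linter.style.haveILetI false
set_option linter.unusedSectionVars false
set_option backward.isDefEq.respectTransparency false
set_option backward.isDefEq.respectTransparency.types false
set_option maxRecDepth 8000
set_option maxHeartbeats 1000000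

universe u

open CategoryTheory CategoryTheory.Limits AlgebraicGeometry TopologicalSpace SymProd HilbPts HilbPts.SC

noncomputable section

namespace JacAlbLib

variable {X S : Scheme.{u}} (f : X ⟶ S) [IsSeparated f]

/-- Sections are equal when one lies on the other. -/
theorem secF_eq_of_comap {T : Scheme.{u}} {g : T ⟶ S} {x y : T ⟶ X} (hx : x ≫ f = g) (hy : y ≫ f = g)
    (h : (secF f y hy).ker.comap (secF f x hx) = ⊥) : x = y := by
  have hle := (comap_eq_bot_iff _ _).1 h
  let l := IsClosedImmersion.lift (secF f y hy) (secF f x hx) hle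
  have hl : l ≫ secF f y hy = secF f x hx := IsClosedImmersion.lift_fac _ _ _
  have h1 := congrArg (· ≫ pullback.snd f g) hl
  simp only [Category.assoc, secF_snd, Category.comp_id] at h1
  have h2 := congrArg (· ≫ pullback.fst f g) hl
  simp only [Category.assoc, secF_fst, h1, Category.id_comp] at h2
  exact h2.symm

variable (n : ℕ)

/-- The locus of distinct points. -/
def distinctOpen : (fibPow f n).Opens where
  carrier := ⋂ (i : Fin n), ⋂ (i' : Fin n), ⋂ (_ : i ≠ i'), ((SC.diag f i i').support : Set (fibPow f n))ᶜ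
  is_open' := isOpen_iInter_of_finite fun i => isOpen_iInter_of_finite fun i' =>
    isOpen_iInter_of_finite fun _ => (SC.diag f i i').support.isClosed.isOpen_compl

theorem mem_distinctOpen_iff (p : fibPow f n) :
    p ∈ distinctOpen f n ↔ ∀ i i' : Fin n, i ≠ i' → p ∉ (SC.diag f i i').support := by
  show p ∈ ⋂ (i : Fin n), ⋂ (i' : Fin n), ⋂ (_ : i ≠ i'), ((SC.diag f i i').support : Set (fibPow f n))ᶜ ↔ _
  simp only [Set.mem_iInter, Set.mem_compl_iff, SetLike.mem_coe]

theorem comap_eq_top_of_disjoint {Z Y : Scheme.{u}} (a : Z ⟶ Y) (J : Y.IdealSheafData)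
    (h : ∀ z, a z ∉ J.support) : J.comap a = ⊤ := by
  rw [← Scheme.IdealSheafData.support_eq_bot_iff, Scheme.IdealSheafData.support_comap]
  ext z
  exact ⟨fun hz => (h z hz).elim, fun hz => hz.elim⟩

variable [SmoothOfRelativeDimension 1 f] [IsProper f]

/-- The sum map is formally unramified on distinct tuples. -/
theorem formallyUnramified_distinct {H : Over S} {Z : HilbD.Obj f n H} (ρ : fibPow f n ⟶ H.left)
    (hρ : ρ ≫ H.hom = fb f n) (hI : Z.1.comap (m f ρ hρ) = sumId f n) :
    FormallyUnramified ((distinctOpen f n).ι ≫ ρ) := by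
  let V := distinctOpen f n
  let Δ := pullback.diagonal (V.ι ≫ ρ)
  let T := pullback (V.ι ≫ ρ) (V.ι ≫ ρ)
  let a : T ⟶ fibPow f n := pullback.fst _ _ ≫ V.ι
  let b : T ⟶ fibPow f n := pullback.snd _ _ ≫ V.ι
  have hab : a ≫ ρ = b ≫ ρ := by simp only [a, b, Category.assoc, pullback.condition]
  let g : T ⟶ S := a ≫ fb f n
  have hbg : b ≫ fb f n = g := by
    show _ = a ≫ fb f n
    rw [← hρ, ← Category.assoc, ← hab, Category.assoc]
  let sa : Fin n → (T ⟶ pullback f g) := fun i => secF f (a ≫ fp f i) (by rw [Category.assoc, fp_comp])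
  let sb : Fin n → (T ⟶ pullback f g) := fun i => secF f (b ≫ fp f i) (by rw [Category.assoc, fp_comp, hbg])
  let K : Fin n → Fin n → T.IdealSheafData := fun i i' => (sb i').ker.comap (sa i)
  have hprod : (∏ i, (sa i).ker) = ∏ i, (sb i).ker := by
    have e : Z.1.comap (m f (a ≫ ρ) (by rw [Category.assoc, hρ] : (a ≫ ρ) ≫ H.hom = g)) =
        Z.1.comap (m f (b ≫ ρ) (by rw [Category.assoc, hρ, hbg] : (b ≫ ρ) ≫ H.hom = g)) := by congr 2
    rw [← m_comp f ρ hρ a (rfl : a ≫ fb f n = g), ← m_comp f ρ hρ b hbg] at e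
    rw [Scheme.IdealSheafData.comap_comp, Scheme.IdealSheafData.comap_comp, hI, sumId, comap_prod, comap_prod] at e
    refine Eq.trans (Finset.prod_congr rfl fun i _ => ?_) (e.trans (Finset.prod_congr rfl fun i _ => ?_))
    · exact (comap_gr f i a rfl _ rfl).symm
    · exact comap_gr f i b hbg _ rfl
  -- the open where the tuples do not cross
  let T₀ : T.Opens := ⟨⋂ (i : Fin n), ⋂ (i' : Fin n), ⋂ (_ : i ≠ i'), ((K i i').support : Set T)ᶜ,
    isOpen_iInter_of_finite fun i => isOpen_iInter_of_finite fun i' =>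
      isOpen_iInter_of_finite fun _ => (K i i').support.isClosed.isOpen_compl⟩
  have heq : T₀.ι ≫ a = T₀.ι ≫ b := by
    refine WidePullback.hom_ext _ _ _ (fun i => ?_) ?_
    · let g₀ : T₀.toScheme ⟶ S := T₀.ι ≫ g
      let ta : Fin n → (T₀.toScheme ⟶ pullback f g₀) := fun i => secF f (T₀.ι ≫ a ≫ fp f i)
        (by simp only [g₀, g, Category.assoc, fp_comp])
      let tb : Fin n → (T₀.toScheme ⟶ pullback f g₀) := fun i => secF f (T₀.ι ≫ b ≫ fp f i)
        (by simp only [g₀, Category.assoc, fp_comp, hbg])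
      have hta : ∀ i, ta i ≫ m f T₀.ι rfl = T₀.ι ≫ sa i := fun i =>
        pullback.hom_ext (by simp [ta, sa]) (by simp [ta, sa])
      have hK : ∀ i i', (tb i').ker.comap (ta i) = (K i i').comap T₀.ι := fun i i' => by
        rw [show (tb i').ker = (sb i').ker.comap (m f T₀.ι rfl) from (comap_secF f _ _ T₀.ι rfl).symm,
          ← Scheme.IdealSheafData.comap_comp, hta, Scheme.IdealSheafData.comap_comp]
      have h0 := congrArg (fun I => (I.comap (m f T₀.ι rfl)).comap (ta i)) hprod
      simp only [comap_prod] at h0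
      have e1 : ∀ i, (sa i).ker.comap (m f T₀.ι (rfl : T₀.ι ≫ g = g₀)) = (ta i).ker := fun i => comap_secF f _ _ T₀.ι rfl
      have e2 : ∀ i, (sb i).ker.comap (m f T₀.ι (rfl : T₀.ι ≫ g = g₀)) = (tb i).ker := fun i => comap_secF f _ _ T₀.ι rfl
      simp only [e1, e2] at h0
      rw [← Finset.mul_prod_erase Finset.univ (fun i' => (ta i').ker.comap (ta i)) (Finset.mem_univ i),
        ← Finset.mul_prod_erase Finset.univ (fun i' => (tb i').ker.comap (ta i)) (Finset.mem_univ i),
        (comap_eq_bot_iff _ _).2 le_rfl, Finset.prod_eq_one (f := fun i' => (tb i').ker.comap (ta i)) (fun i' hi' => by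
          rw [hK, Scheme.IdealSheafData.one_eq_top]
          refine comap_eq_top_of_disjoint _ _ fun z hz => ?_
          exact Set.mem_iInter.1 (Set.mem_iInter.1 (Set.mem_iInter.1 z.2 i) i') (Finset.ne_of_mem_erase hi').symm hz),
        _root_.mul_one] at h0
      rw [Category.assoc, Category.assoc]
      refine secF_eq_of_comap f (g := g₀) _ _ (h0.symm.trans ?_)
      exact Scheme.IdealSheafData.bot_mul _
    · exact (Category.assoc _ _ _).trans ((congrArg (T₀.ι ≫ ·) hbg.symm).trans (Category.assoc _ _ _).symm)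
  have hΔa : Δ ≫ a = V.ι := by simp only [Δ, a, pullback.diagonal_fst_assoc]
  have hΔb : Δ ≫ b = V.ι := by simp only [Δ, b, pullback.diagonal_snd_assoc]
  have hΔT₀ : ∀ x : V.toScheme, Δ x ∈ T₀ := fun x => by
    refine Set.mem_iInter.2 fun i₁ => Set.mem_iInter.2 fun i₂ => Set.mem_iInter.2 fun hne hx => ?_
    have h1 : x ∈ ((K i₁ i₂).comap Δ).support := by rw [Scheme.IdealSheafData.support_comap]; exact hx
    have hsa : Δ ≫ sa i₁ = secF f (V.ι ≫ fp f i₁) (g := Δ ≫ g)
        (by simp only [g, reassoc_of% hΔa, Category.assoc, fp_comp]) ≫ m f Δ rfl :=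
      pullback.hom_ext (by simp [sa, reassoc_of% hΔa]) (by simp [sa])
    have hmem : (V.ι ≫ gr f i₁) x ∈ (gr f i₂).ker.support := by
      have h3 : V.ι ≫ gr f i₁ = Δ ≫ sa i₁ ≫ m f b hbg := by
        apply pullback.hom_ext <;> simp [gr, sa, reassoc_of% hΔa, hΔb]
      rw [h3]
      have h4 : Δ x ∈ (((gr f i₂).ker.comap (m f b hbg)).comap (sa i₁)).support := by
        rw [comap_gr f i₂ b hbg _ rfl]; exact hx
      rwa [Scheme.IdealSheafData.support_comap, Scheme.IdealSheafData.support_comap] at h4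
    have h5 : V.ι x ∈ (SC.diag f i₂ i₁).support := by
      rw [SC.diag, Scheme.IdealSheafData.support_comap]; exact hmem
    exact (mem_distinctOpen_iff f n _).1 x.2 _ _ (Ne.symm hne) h5
  -- the diagonal is the open set
  let l : V.toScheme ⟶ T₀.toScheme := IsOpenImmersion.lift T₀.ι Δ (by
    rw [Scheme.Opens.range_ι]; rintro _ ⟨x, rfl⟩; exact hΔT₀ x)
  have hl : l ≫ T₀.ι = Δ := IsOpenImmersion.lift_fac _ _ _
  haveI : IsIso l := by
    refine ⟨T₀.ι ≫ pullback.fst _ _, ?_, ?_⟩
    · rw [← Category.assoc, hl]; exact pullback.diagonal_fst _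
    · rw [← cancel_mono T₀.ι, Category.assoc, hl, Category.id_comp]
      apply pullback.hom_ext
      · simp [Δ]
      · rw [Category.assoc, pullback.diagonal_snd, Category.comp_id, ← cancel_mono V.ι]
        simpa only [Category.assoc] using heq
  haveI : IsOpenImmersion (pullback.diagonal (V.ι ≫ ρ)) := by
    show IsOpenImmersion Δ
    rw [← hl]; infer_instance
  infer_instance

/-- The sum map is étale on distinct tuples. -/
theorem etale_distinct (hrep : ∀ e : ℕ, HilbD.Representable f e) {H : Over S} {Z : HilbD.Obj f n H}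
    (hZ : HilbD.IsUniversal f n H Z) (ρ : fibPow f n ⟶ H.left) (hρ : ρ ≫ H.hom = fb f n)
    (hI : Z.1.comap (m f ρ hρ) = sumId f n) : Etale ((distinctOpen f n).ι ≫ ρ) := by
  obtain ⟨⟨h1, h2, h3⟩, -⟩ := classifier_deg f hrep n H Z hZ ρ hρ hI
  haveI := h1; haveI := h2; haveI := h3
  haveI := formallyUnramified_distinct f n ρ hρ hI
  exact Etale.of_formallyUnramified_of_flat _

end JacAlbLib

end
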