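import Groth.Agent.JacAlbLib.WPoints
import Mathlib.FieldTheory.Galois.Infinite

/-!
# Geometric points: lifting, density and Galois descent
-/

set_option autoImplicit false
set_option linter.style.haveILetI false
set_option linter.unusedSectionVars false
set_option backward.isDefEq.respectTransparency false
set_option backward.isDefEq.respectTransparency.types false
set_option maxRecDepth 8000
set_option maxHeartbeats 1000000

universe u

open CategoryTheory CategoryTheory.Limits AlgebraicGeometry TopologicalSpace MonoidalCategory CartesianMonoidalCategory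
open scoped MonObj

noncomputable section

namespace JacAlbLib

variable {k : Type u} [Field k] {K : Type u} [Field K] (s : Spec (CommRingCat.of K) ⟶ Spec (CommRingCat.of k))

/-- The point of a morphism from a field. -/
abbrev gpt {X : Over (Spec (CommRingCat.of k))} (g : Over.mk s ⟶ X) : X.left :=
  g.left.base (IsLocalRing.closedPoint K)

theorem range_gpt {X : Over (Spec (CommRingCat.of k))} (g : Over.mk s ⟶ X) (p : (Over.mk s).left) :
    g.left.base p = gpt s g :=
  congrArg g.left.base (Subsingleton.elim (α := PrimeSpectrum K) p (IsLocalRing.closedPoint K))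

variable [IsAlgClosed K]

/-- A geometric point lifts along a morphism of finite type hit by it. -/
theorem exists_geom_lift {X Y : Over (Spec (CommRingCat.of k))} (h : X ⟶ Y) [LocallyOfFiniteType h.left]
    (g : Over.mk s ⟶ Y) (hg : gpt s g ∈ Set.range h.left.base) : ∃ q : Over.mk s ⟶ X, q ≫ h = g := by
  obtain ⟨w₀, hw₀⟩ := hg
  obtain ⟨z, -, -⟩ := Scheme.Pullback.exists_preimage_pullback (f := h.left) (g := g.left) w₀
    (IsLocalRing.closedPoint K) hw₀
  let F := pullback h.left g.left
  let π : F ⟶ Spec (CommRingCat.of K) := pullback.snd h.left g.left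
  haveI : LocallyOfFiniteType π := MorphismProperty.pullback_snd (P := @LocallyOfFiniteType) _ _ inferInstance
  haveI : JacobsonSpace F := LocallyOfFiniteType.jacobsonSpace π
  obtain ⟨x, -, hx⟩ := nonempty_inter_closedPoints (Z := (Set.univ : Set F)) ⟨z, trivial⟩ isClosed_univ.isLocallyClosed
  let q₀ := pointOfClosedPoint π x hx
  have e : q₀ ≫ pullback.fst h.left g.left ≫ h.left = g.left := by
    rw [pullback.condition, ← Category.assoc]
    exact (congrArg (· ≫ g.left) (pointOfClosedPoint_comp π x hx)).trans (Category.id_comp _)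
  refine ⟨Over.homMk (q₀ ≫ pullback.fst h.left g.left) ?_, Over.OverMorphism.ext ((Category.assoc _ _ _).trans e)⟩
  show (q₀ ≫ pullback.fst h.left g.left) ≫ X.hom = s
  rw [← Over.w h, ← Category.assoc, Category.assoc q₀, e]
  exact Over.w g

/-- Every closed point carries a geometric point. -/
theorem exists_gpt {X : Over (Spec (CommRingCat.of k))} [LocallyOfFiniteType X.hom] {p : X.left}
    (hp : IsClosed ({p} : Set X.left)) : ∃ u : Over.mk s ⟶ X, gpt s u = p := by
  let F := pullback X.hom s
  let π : F ⟶ Spec (CommRingCat.of K) := pullback.snd X.hom s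
  haveI : LocallyOfFiniteType π := MorphismProperty.pullback_snd (P := @LocallyOfFiniteType) _ _ inferInstance
  haveI : JacobsonSpace F := LocallyOfFiniteType.jacobsonSpace π
  obtain ⟨z, hz, -⟩ := Scheme.Pullback.exists_preimage_pullback (f := X.hom) (g := s) p (IsLocalRing.closedPoint K)
    (Subsingleton.elim (α := PrimeSpectrum k) _ _)
  have hcl : IsClosed ((pullback.fst X.hom s).base ⁻¹' {p}) := hp.preimage (pullback.fst X.hom s).continuous
  obtain ⟨x, hx, hxc⟩ := nonempty_inter_closedPoints (Z := (pullback.fst X.hom s).base ⁻¹' {p}) ⟨z, hz⟩ hcl.isLocallyClosed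
  refine ⟨Over.homMk (pointOfClosedPoint π x hxc ≫ pullback.fst X.hom s) ?_, ?_⟩
  · show (pointOfClosedPoint π x hxc ≫ pullback.fst X.hom s) ≫ X.hom = s
    rw [Category.assoc, pullback.condition, ← Category.assoc]
    exact (congrArg (· ≫ s) (pointOfClosedPoint_comp π x hxc)).trans (Category.id_comp _)
  · show (pointOfClosedPoint π x hxc ≫ pullback.fst X.hom s) (IsLocalRing.closedPoint K) = p
    rw [Scheme.Hom.comp_apply, pointOfClosedPoint_apply]
    exact hx

/-- Closed sets are compared on geometric points. -/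
theorem subset_of_gpt {J : Over (Spec (CommRingCat.of k))} [LocallyOfFiniteType J.hom] {Z Z' : Set J.left}
    (hZ : IsClosed Z) (hZ' : IsClosed Z') (h : ∀ g : Over.mk s ⟶ J, gpt s g ∈ Z → gpt s g ∈ Z') : Z ⊆ Z' := by
  haveI : JacobsonSpace J.left := LocallyOfFiniteType.jacobsonSpace J.hom
  rw [← hZ.closure_eq, ← JacobsonSpace.closure_inter_closedPoints_eq_closure hZ.isLocallyClosed]
  refine hZ'.closure_subset_iff.2 ?_
  rintro p ⟨hp, hpc⟩
  obtain ⟨g, rfl⟩ := exists_gpt s (mem_closedPoints_iff.1 hpc)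
  exact h g hp

section Group

variable {J : Over (Spec (CommRingCat.of k))} [GrpObj J]

omit [IsAlgClosed K] in
theorem comp_transl' {T : Over (Spec (CommRingCat.of k))} (z : T ⟶ J) (a : 𝟙_ (Over (Spec (CommRingCat.of k))) ⟶ J) :
    z ≫ Jac.transl J a = z * (toUnit T ≫ a) := by
  rw [Jac.transl, MonObj.comp_mul, Category.comp_id, ← Category.assoc, toUnit_unique (z ≫ toUnit J) (toUnit T)]

omit [IsAlgClosed K] in
/-- Geometric points of a translate. -/
theorem gpt_mem_transl (a : 𝟙_ (Over (Spec (CommRingCat.of k))) ⟶ J) (z : Over.mk s ⟶ J) (Z : Set J.left) :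
    gpt s z ∈ (Jac.transl J a).left.base '' Z ↔ gpt s (z * (toUnit (Over.mk s) ≫ a)⁻¹) ∈ Z := by
  have e : ∀ p, (Jac.transl J a⁻¹).left ((Jac.transl J a).left p) = p := fun p => by
    rw [← Scheme.Hom.comp_apply, ← Over.comp_left, transl_inv_hom]; rfl
  have e' : ∀ p, (Jac.transl J a).left ((Jac.transl J a⁻¹).left p) = p := fun p => by
    rw [← Scheme.Hom.comp_apply, ← Over.comp_left, transl_inv_hom']; rfl
  have ez : gpt s (z * (toUnit (Over.mk s) ≫ a)⁻¹) = (Jac.transl J a⁻¹).left (gpt s z) := by
    rw [← GrpObj.comp_inv, ← comp_transl' z a⁻¹]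
    rfl
  rw [ez]
  exact ⟨fun ⟨p, hp, hpz⟩ => by rw [← show (Jac.transl J a).left p = gpt s z from hpz, e]; exact hp,
    fun hz => ⟨_, hz, e' _⟩⟩

end Group

section WSet

variable {C : Scheme.{u}} [C.Over (Spec (CommRingCat.of k))] [IsProper (C ↘ Spec (CommRingCat.of k))]
  [Smooth (C ↘ Spec (CommRingCat.of k))] [GeometricallyConnected (C ↘ Spec (CommRingCat.of k))]
  {J : Over (Spec (CommRingCat.of k))} [GrpObj J] [IsCommMonObj J] [IsSeparated J.hom]

/-- Geometric points of the image of a symmetric power are sums of images of points. -/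
theorem gpt_mem_WSet_iff (j : Over.mk (C ↘ Spec (CommRingCat.of k)) ⟶ J) (r : ℕ) (g : Over.mk s ⟶ J) :
    gpt s g ∈ WSet j r ↔ ∃ v : Fin r → (Over.mk s ⟶ Over.mk (C ↘ Spec (CommRingCat.of k))), g = ∏ i, v i ≫ j := by
  let P : Over (Spec (CommRingCat.of k)) := Over.mk (WidePullback.base fun (_ : Fin r) => (C ↘ Spec (CommRingCat.of k)))
  let π : ∀ i : Fin r, P ⟶ Over.mk (C ↘ Spec (CommRingCat.of k)) := fun i =>
    Over.homMk (WidePullback.π (fun (_ : Fin r) => (C ↘ Spec (CommRingCat.of k))) i)
      (WidePullback.π_arrow (fun (_ : Fin r) => (C ↘ Spec (CommRingCat.of k))) i)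
  have hx : ∀ x : Over.mk s ⟶ P, x ≫ Wmap j r = ∏ i, (x ≫ π i) ≫ j := fun x => by
    rw [Wmap, List.prod_ofFn, comp_prod]
    exact Finset.prod_congr rfl fun i _ => (Category.assoc _ _ _).symm
  constructor
  · intro hg
    haveI : IsProper ((Wmap j r).left ≫ J.hom) := by
      rw [Over.w (Wmap j r)]
      exact isProper_wide r
    haveI : IsProper (Wmap j r).left := IsProper.of_comp _ J.hom
    obtain ⟨q, hq⟩ := exists_geom_lift s (Wmap j r) g hg
    exact ⟨fun i => q ≫ π i, hq.symm.trans (hx q)⟩
  · rintro ⟨v, rfl⟩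
    let x : Over.mk s ⟶ P :=
      Over.homMk (WidePullback.lift s (fun i => (v i).left) fun i => Over.w (v i)) (WidePullback.lift_base _ _ _ _)
    have e : x ≫ Wmap j r = ∏ i, v i ≫ j := by
      rw [hx]
      refine Finset.prod_congr rfl fun i _ => congrArg (· ≫ j) (Over.OverMorphism.ext ?_)
      exact WidePullback.lift_π _ _ _ _ _
    exact ⟨gpt s x, by rw [← e]; rfl⟩

end WSet

section Descent

/-- An endomorphism of a point scheme from a field automorphism. -/
def galPt [Algebra k K] (τ : K ≃ₐ[k] K)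
    (hs : s = Spec.map (CommRingCat.ofHom (algebraMap k K))) : Over.mk s ⟶ Over.mk s :=
  Over.homMk (Spec.map (CommRingCat.ofHom (τ : K →+* K))) (by
    show Spec.map _ ≫ s = s
    subst hs
    rw [← Spec.map_comp]
    congr 1
    ext x
    exact τ.commutes x)

omit [IsAlgClosed K] in
/-- A geometric point fixed by the Galois group is rational. -/
theorem exists_descend_gpt [Algebra k K] [IsGalois k K]
    (hs : s = Spec.map (CommRingCat.ofHom (algebraMap k K))) {J : Over (Spec (CommRingCat.of k))}
    (g : Over.mk s ⟶ J) (hg : ∀ τ : K ≃ₐ[k] K, galPt s τ hs ≫ g = g) :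
    ∃ g₀ : 𝟙_ (Over (Spec (CommRingCat.of k))) ⟶ J, toUnit (Over.mk s) ≫ g₀ = g := by
  subst hs
  let D := Scheme.SpecToEquivOfField K J.left g.left
  let φ : J.left.residueField D.1 ⟶ CommRingCat.of K := D.2
  have eg : Spec.map φ ≫ J.left.fromSpecResidueField D.1 = g.left :=
    (Scheme.SpecToEquivOfField K J.left).symm_apply_apply g.left
  have hfix : ∀ (τ : K ≃ₐ[k] K) (x : J.left.residueField D.1), τ (φ.hom x) = φ.hom x := by
    intro τ x
    have h1 : Spec.map (φ ≫ CommRingCat.ofHom (τ : K →+* K)) ≫ J.left.fromSpecResidueField D.1 = g.left := by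
      rw [Spec.map_comp, Category.assoc]
      exact (congrArg (Spec.map (CommRingCat.ofHom (τ : K →+* K)) ≫ ·) eg).trans (congrArg CommaMorphism.left (hg τ))
    have h : (Scheme.SpecToEquivOfField K J.left).symm ⟨D.1, φ ≫ CommRingCat.ofHom (τ : K →+* K)⟩ =
        (Scheme.SpecToEquivOfField K J.left).symm ⟨D.1, φ⟩ := h1.trans eg.symm
    have h2 : φ ≫ CommRingCat.ofHom (τ : K →+* K) = φ :=
      eq_of_heq (Sigma.mk.inj_iff.1 ((Scheme.SpecToEquivOfField K J.left).symm.injective h)).2
    exact congrArg (fun m : J.left.residueField D.1 ⟶ CommRingCat.of K => m.hom x) h2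
  have hmem : ∀ x, φ.hom x ∈ (algebraMap k K).range := fun x =>
    (InfiniteGalois.mem_range_algebraMap_iff_fixed _).2 fun τ => hfix τ x
  let ρ : k ≃+* (algebraMap k K).range := RingEquiv.ofBijective (algebraMap k K).rangeRestrict
    ⟨fun a b e => (algebraMap k K).injective (congrArg Subtype.val e), (algebraMap k K).rangeRestrict_surjective⟩
  let ψ : J.left.residueField D.1 ⟶ CommRingCat.of k :=
    CommRingCat.ofHom (ρ.symm.toRingHom.comp (φ.hom.codRestrict _ hmem))
  have hψ : ψ ≫ CommRingCat.ofHom (algebraMap k K) = φ := by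
    ext x
    exact congrArg Subtype.val (ρ.apply_symm_apply ⟨φ.hom x, hmem x⟩)
  let g₁ : Spec (CommRingCat.of k) ⟶ J.left := Spec.map ψ ≫ J.left.fromSpecResidueField D.1
  have hg₁ : Spec.map (CommRingCat.ofHom (algebraMap k K)) ≫ g₁ = g.left := by
    refine (Category.assoc _ _ _).symm.trans ?_
    rw [← Spec.map_comp, hψ]
    exact eg
  have hw : g₁ ≫ J.hom = 𝟙 _ := by
    have h : Spec.map (CommRingCat.ofHom (algebraMap k K)) ≫ (g₁ ≫ J.hom) = Spec.map (CommRingCat.ofHom (algebraMap k K)) ≫ 𝟙 _ := by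
      rw [← Category.assoc, hg₁, Category.comp_id]
      exact Over.w g
    obtain ⟨η', hη'⟩ : ∃ η' : CommRingCat.of k ⟶ CommRingCat.of k, Spec.map η' = g₁ ≫ J.hom :=
      ⟨Spec.preimage _, Spec.map_preimage _⟩
    rw [← hη', ← Spec.map_comp, ← Spec.map_id, ← Spec.map_comp, Spec.map_inj, Category.id_comp] at h
    rw [← hη', ← Spec.map_id]
    congr 1
    ext x
    exact (algebraMap k K).injective (congrArg (fun m : CommRingCat.of k ⟶ CommRingCat.of K => m.hom x) h)
  exact ⟨Over.homMk g₁ hw, Over.OverMorphism.ext hg₁⟩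

end Descent

end JacAlbLib

end
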