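import Groth.Agent.JacAlbLib.Twist
import Groth.Agent.PicCurveLib.Divisor
import Groth.Agent.HilbPtsLib.Smooth
import Groth.Agent.HilbPtsLib.DivDeg

/-!
# Divisors of `g` points with one section
-/

set_option autoImplicit false
set_option linter.style.haveILetI false
set_option linter.unusedSectionVars false
set_option backward.isDefEq.respectTransparency false
set_option backward.isDefEq.respectTransparency.types false
set_option maxRecDepth 8000
set_option maxHeartbeats 1000000

universe u

open CategoryTheory CategoryTheory.Limits AlgebraicGeometry TopologicalSpace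
open CubeConsLib (pull pull_comp pull_cl cl cl_eq_iff cl_tensor IsoCls)
open EllLawLib (idCls)
open PicCurveLib

noncomputable section

namespace JacAlbLib

theorem mem_support_prod {Y : Scheme.{u}} {α : Type*} (s : Finset α) (I : α → Y.IdealSheafData) (p : Y) :
    p ∈ (∏ i ∈ s, I i).support ↔ ∃ i ∈ s, p ∈ (I i).support := by
  induction s using Finset.cons_induction with
  | empty =>
    rw [Finset.prod_empty, Scheme.IdealSheafData.one_eq_top, Scheme.IdealSheafData.support_top]
    exact ⟨fun h => h.elim, fun ⟨i, hi, _⟩ => absurd hi (Finset.notMem_empty i)⟩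
  | cons a s ha ih =>
    rw [Finset.prod_cons, Scheme.IdealSheafData.support_mul]
    show p ∈ (I a).support ∨ p ∈ (∏ i ∈ s, I i).support ↔ _
    rw [ih]
    simp only [Finset.mem_cons, exists_eq_or_imp]

variable {k : Type u} [Field k] {X : Scheme.{u}} [X.Over (Spec (CommRingCat.of k))]
  [IsProper (X ↘ Spec (CommRingCat.of k))] [Smooth (X ↘ Spec (CommRingCat.of k))]
  [GeometricallyConnected (X ↘ Spec (CommRingCat.of k))] (hdim : topologicalKrullDim ↥X = 1)
include hdim

theorem support_ker_point (x : Spec (CommRingCat.of k) ⟶ X) (hx : x ≫ (X ↘ Spec (CommRingCat.of k)) = 𝟙 _) (p : X) :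
    p ∈ x.ker.support ↔ p = x (IsLocalRing.closedPoint k) := by
  haveI := EllLawLib.isClosedImmersion_sec _ x hx
  show p ∈ (x.ker.support : Set X) ↔ _
  rw [Scheme.Hom.support_ker, x.isClosedEmbedding.isClosed_range.closure_eq]
  exact ⟨fun ⟨q, hq⟩ => hq.symm.trans (congrArg _ (Subsingleton.elim (α := PrimeSpectrum k) _ _)), fun h => ⟨_, h.symm⟩⟩

theorem eq_of_point_eq {x y : Spec (CommRingCat.of k) ⟶ X} (hx : x ≫ (X ↘ Spec (CommRingCat.of k)) = 𝟙 _)
    (hy : y ≫ (X ↘ Spec (CommRingCat.of k)) = 𝟙 _)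
    (h : x (IsLocalRing.closedPoint k) = y (IsLocalRing.closedPoint k)) : x = y := by
  have hk : x.ker = y.ker := by
    rw [SecDivLib.ker_rational x hx, SecDivLib.ker_rational y hy]
    congr 2
    rw [h]
  haveI : IsClosedImmersion y := EllLawLib.isClosedImmersion_sec _ y hy
  let l := IsClosedImmersion.lift y x hk.ge
  have hl : l ≫ y = x := IsClosedImmersion.lift_fac _ _ _
  have h1 : (l ≫ y) ≫ (X ↘ Spec (CommRingCat.of k)) = 𝟙 _ := by rw [hl, hx]
  rw [Category.assoc, hy, Category.comp_id] at h1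
  rw [← hl, h1, Category.id_comp]

theorem prop_pts [SmoothOfRelativeDimension 1 (X ↘ Spec (CommRingCat.of k))] {α : Type*} (s : Finset α)
    (x : α → (Spec (CommRingCat.of k) ⟶ X)) (hx : ∀ i, x i ≫ (X ↘ Spec (CommRingCat.of k)) = 𝟙 _) (hs : s.Nonempty) :
    Mor2.IsFinLocFreeOfDeg s.card ((∏ i ∈ s, (x i).ker).subschemeι ≫ (X ↘ Spec (CommRingCat.of k))) := by
  have h1 : ∀ i, Mor2.IsFinLocFreeOfDeg 1 ((x i).ker.subschemeι ≫ (X ↘ Spec (CommRingCat.of k))) := fun i => by
    haveI := EllLawLib.isClosedImmersion_sec _ (x i) (hx i)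
    refine (HilbPts.prop_ker (x i) (X ↘ Spec (CommRingCat.of k))).2 ?_
    rw [hx i]
    exact ⟨⟨inferInstance, inferInstance, inferInstance⟩, fun y => by rw [Scheme.Hom.finrank_eq_one_of_isIso]; rfl⟩
  induction hs using Finset.Nonempty.cons_induction with
  | singleton a => rw [Finset.prod_singleton, Finset.card_singleton]; exact h1 a
  | cons a t ha ht ih =>
    rw [Finset.prod_cons, Finset.card_cons, Nat.add_comm t.card 1]
    exact HilbPts.SC.isFinLocFreeOfDeg_mul (X ↘ Spec (CommRingCat.of k)) _ _ _ _ (h1 a) ih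

omit hdim in
theorem good_spec (M : X.Modules) (hM : PicF.IsInvertible M) (h0 : Module.finrank k (Coh.HH X M 0) = 1)
    (h1 : Module.finrank k (Coh.HH X M 1) = 0) : Good (X ↘ Spec (CommRingCat.of k)) M := fun s => by
  rw [fiberRank_spec_mod _ hM 1 s, fiberRank_spec_mod _ hM 0 s]
  exact ⟨h1, h0⟩

theorem deg_of_pts {n : ℕ} (x : Fin n → (Spec (CommRingCat.of k) ⟶ X))
    (hx : ∀ i, x i ≫ (X ↘ Spec (CommRingCat.of k)) = 𝟙 _) :
    ∀ {M : X.Modules}, PicF.IsInvertible M → cl M * ∏ i, idCls (x i).ker = 1 → Curv2.deg k X M 1 = n := by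
  induction n with
  | zero =>
    intro M _ e
    rw [Fin.prod_univ_zero, _root_.mul_one] at e
    rw [deg_congr' (k := k) (M := Coh.structureModule X) e, Curv2.deg]
    push_cast
    ring
  | succ n ih =>
    intro M hM e
    have hI := IntMultLib.isInvertible_idealMod _ (AlgEquivCurveLib.isEffCartier_pt hdim (x 0) (hx 0))
    rw [Fin.prod_univ_succ, ← _root_.mul_assoc] at e
    have h1 := ih (fun i => x i.succ) (fun i => hx _) (HilbPolyLib.isInvertible_tensor hM hI) (by rw [cl_tensor]; exact e)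
    have h2 := deg_add_point (k := k) hdim (x 0) (hx 0) (L := CohB1.tensorMod M (ClSub.idealMod (x 0).ker)) hM
      (cl_tensor _ _).symm
    push_cast
    omega

/-- Two divisors of `g` points with the same class and one section are equal. -/
theorem pts_ideal_eq {n : ℕ} (hn : n = Curv2.genus k X) (h0n : 0 < n) {x y : Fin n → (Spec (CommRingCat.of k) ⟶ X)}
    (hx : ∀ i, x i ≫ (X ↘ Spec (CommRingCat.of k)) = 𝟙 _) (hy : ∀ i, y i ≫ (X ↘ Spec (CommRingCat.of k)) = 𝟙 _)
    {M : X.Modules} (hM : PicF.IsInvertible M) (hM1 : Module.finrank k (Coh.HH X M 0) = 1)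
    (ex : cl M * ∏ i, idCls (x i).ker = 1) (ey : cl M * ∏ i, idCls (y i).ker = 1) :
    ∏ i, (x i).ker = ∏ i, (y i).ker := by
  have hf : Fam (X ↘ Spec (CommRingCat.of k)) := ⟨inferInstance, inferInstance, inferInstance,
    fun s => (EllLawLib.dim_fiber_spec (X ↘ Spec (CommRingCat.of k)) s).trans hdim⟩
  haveI := hf.smoothOfRelativeDimension
  haveI : Nonempty (Fin n) := Fin.pos_iff_nonempty.1 h0n
  have hd := deg_of_pts hdim x hx hM ex
  have hr := rr (k := k) hdim M
  have hg := good_spec M hM hM1 (by omega)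
  have key : ∀ z : Fin n → (Spec (CommRingCat.of k) ⟶ X), (∀ i, z i ≫ (X ↘ Spec (CommRingCat.of k)) = 𝟙 _) →
      cl M * ∏ i, idCls (z i).ker = 1 →
      idCls (∏ i, (z i).ker) * cl M = pull (X ↘ Spec (CommRingCat.of k)) (cl (Coh.structureModule _)) := fun z hz e => by
    rw [(idCls_prod Finset.univ (fun i => (z i).ker) (fun i => AlgEquivCurveLib.isEffCartier_pt hdim (z i) (hz i))
      Finset.univ_nonempty).2, mul_comm, e]
    exact (map_one _).symm
  exact divisor_eq' hf hM hg (prop_pts hdim _ x hx Finset.univ_nonempty).1 (prop_pts hdim _ y hy Finset.univ_nonempty).1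
    CurvLib.isInvertible_structureModule CurvLib.isInvertible_structureModule (key x hx ex) (key y hy ey)

/-- Removing a point keeps a section exactly for the points of the divisor. -/
theorem h0_sub_point_iff [IsAlgClosed k] {n : ℕ} (hn : n + 1 = Curv2.genus k X)
    (x : Fin (n + 1) → (Spec (CommRingCat.of k) ⟶ X)) (hx : ∀ i, x i ≫ (X ↘ Spec (CommRingCat.of k)) = 𝟙 _)
    {M M' : X.Modules} (hM : PicF.IsInvertible M) (hM' : PicF.IsInvertible M')
    (hM1 : Module.finrank k (Coh.HH X M 0) = 1) (ex : cl M * ∏ i, idCls (x i).ker = 1)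
    (u : Spec (CommRingCat.of k) ⟶ X) (hu : u ≫ (X ↘ Spec (CommRingCat.of k)) = 𝟙 _)
    (e : cl M' = cl M * idCls u.ker) : 1 ≤ Module.finrank k (Coh.HH X M' 0) ↔ ∃ i, u = x i := by
  constructor
  · intro h
    have hd := deg_of_pts hdim x hx hM ex
    have hd' := deg_add_point (k := k) hdim u hu (L := M') (N := M) hM e.symm
    obtain ⟨y, hy, ey⟩ := exists_points_of_h0 (k := k) hdim n hM' (by push_cast at hd; omega) h
    have h2 := pts_ideal_eq hdim (n := n + 1) hn (by omega) hx (y := Fin.cons u y) (Fin.cases hu hy) hM hM1 ex (by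
      rw [Fin.prod_univ_succ]
      simp only [Fin.cons_zero, Fin.cons_succ]
      rw [← _root_.mul_assoc, ← e, ey])
    have h3 : u (IsLocalRing.closedPoint k) ∈ (∏ i, ((Fin.cons u y : Fin (n + 1) → _) i).ker).support :=
      (mem_support_prod _ _ _).2 ⟨0, Finset.mem_univ _, (support_ker_point hdim u hu _).2 rfl⟩
    rw [← h2, mem_support_prod] at h3
    obtain ⟨i, -, hi⟩ := h3
    exact ⟨i, eq_of_point_eq hdim hu (hx i) ((support_ker_point hdim (x i) (hx i) _).1 hi)⟩
  · rintro ⟨i, rfl⟩
    refine one_le_h0_of_points hdim (fun l => x (i.succAbove l)) (fun l => hx _) hM' ?_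
    rw [e, _root_.mul_assoc]
    rw [Fin.prod_univ_succAbove _ i] at ex
    exact ex

end JacAlbLib

end
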