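import Groth.Agent.JacAlbLib.WPoints

/-!
# Curves in the Jacobian invariant under translation or reflection
-/

set_option autoImplicit false
set_option linter.style.haveILetI false
set_option linter.unusedSectionVars false
set_option backward.isDefEq.respectTransparency false
set_option backward.isDefEq.respectTransparency.types false
set_option maxRecDepth 8000
set_option maxHeartbeats 1000000

universe u

open CategoryTheory CategoryTheory.Limits AlgebraicGeometry TopologicalSpace MonoidalCategory CartesianMonoidalCategory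
open CubeConsLib (pull pull_comp pull_cl cl cl_eq_iff cl_tensor IsoCls)
open EllLawLib (idCls)
open PicCurveLib SymProd
open scoped MonObj

noncomputable section

namespace JacAlbLib

variable {k : Type u} [Field k] [IsAlgClosed k] {C : Scheme.{u}} [C.Over (Spec (CommRingCat.of k))]
  [IsProper (C ↘ Spec (CommRingCat.of k))] [Smooth (C ↘ Spec (CommRingCat.of k))]
  [GeometricallyConnected (C ↘ Spec (CommRingCat.of k))] (hdim : topologicalKrullDim ↥C = 1)
  (hf : Fam (C ↘ Spec (CommRingCat.of k))) {σ : Spec (CommRingCat.of k) ⟶ C}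
  {hσ : σ ≫ (C ↘ Spec (CommRingCat.of k)) = 𝟙 _} {J : Over (Spec (CommRingCat.of k))} [GrpObj J]
  {c : IsoCls (PicF.XT (C ↘ Spec (CommRingCat.of k)) J)} (hc : IsRigJac σ hσ J c)
  [IsProper J.hom] [Smooth J.hom] [GeometricallyIntegral J.hom] [IsCommMonObj J]
  {j : Over.mk (C ↘ Spec (CommRingCat.of k)) ⟶ J} (hj : IsAbel σ hσ c j)
include hdim hf hc hj

/-- The class of an Abel image. -/
theorem tcl_abel (u : 𝟙_ (Over (Spec (CommRingCat.of k))) ⟶ Over.mk (C ↘ Spec (CommRingCat.of k))) :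
    tcl c (u ≫ j) * pid u = idCls σ.ker := by
  have h := class_prod hdim hf hc hj (fun _ : Fin 1 => u)
  simpa only [Fin.prod_univ_one, pow_one] using h

/-- The Abel curve is not invariant under a nontrivial translation. -/
theorem eq_one_of_shift (hg : 2 ≤ Curv2.genus k C) (d : 𝟙_ (Over (Spec (CommRingCat.of k))) ⟶ J)
    (h : ∀ u : 𝟙_ (Over (Spec (CommRingCat.of k))) ⟶ Over.mk (C ↘ Spec (CommRingCat.of k)), ∃ w, w ≫ j = d * (u ≫ j)) :
    d = 1 := by
  obtain ⟨L, hL, dL, eL⟩ := exists_tcl hdim hf hc d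
  have h0 : 1 ≤ Module.finrank k (Coh.HH C L 0) := by
    refine one_le_h0_of_forall hdim 1 hL (by rw [dL]; omega) fun x hx N hN e => ?_
    obtain ⟨w, hw⟩ := h (pt (x 0) (hx 0))
    rw [Fin.prod_univ_one] at e
    refine one_le_h0_of_points hdim (fun _ : Fin 1 => w.left) (fun _ => Over.w w) hN ?_
    rw [Fin.prod_univ_one]
    refine (invC_tcl hdim hf hc (pt (x 0) (hx 0) ≫ j)).isUnit.mul_right_cancel
      ((invC_point hdim (x 0) (hx 0)).isUnit.mul_right_cancel ?_)
    calc cl N * pid w * tcl c (pt (x 0) (hx 0) ≫ j) * idCls (x 0).ker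
        = cl N * idCls (x 0).ker * tcl c (pt (x 0) (hx 0) ≫ j) * pid w := by ac_rfl
      _ = tcl c (w ≫ j) * pid w := by rw [e, eL, hw, tcl_mul hc]
      _ = 1 * tcl c (pt (x 0) (hx 0) ≫ j) * pid (pt (x 0) (hx 0)) := by
        rw [tcl_abel hdim hf hc hj, _root_.one_mul, tcl_abel hdim hf hc hj]
  obtain ⟨x, -, ex⟩ := exists_points_of_h0 hdim 0 hL (by rw [dL]; rfl) h0
  rw [Fin.prod_univ_zero, _root_.mul_one, eL] at ex
  exact tcl_inj hdim hf hc (ex.trans (tcl_one hdim hf hc).symm)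

/-- A reflection of the Abel curve gives a pencil of degree two. -/
theorem exists_pencil (hg : 1 ≤ Curv2.genus k C) (e : 𝟙_ (Over (Spec (CommRingCat.of k))) ⟶ J)
    (h : ∀ u : 𝟙_ (Over (Spec (CommRingCat.of k))) ⟶ Over.mk (C ↘ Spec (CommRingCat.of k)),
      ∃ w, (u ≫ j) * (w ≫ j) = e) :
    ∃ L : C.Modules, PicF.IsInvertible L ∧ Curv2.deg k C L 1 = 2 ∧ Module.finrank k (Coh.HH C L 0) = 2 := by
  obtain ⟨N, hN, eN⟩ := exists_twist hdim hf hc e 2
  have hd := deg_twist hdim hf hc e 2 hN eN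
  have hpts : ∀ u : 𝟙_ (Over (Spec (CommRingCat.of k))) ⟶ Over.mk (C ↘ Spec (CommRingCat.of k)),
      ∃ w, cl N * pid (k := k) (C := C) u * pid (k := k) (C := C) w = 1 := by
    intro u
    obtain ⟨w, hw⟩ := h u
    refine ⟨w, (invC_sigma_pow hdim hσ 2).isUnit.mul_right_cancel ?_⟩
    calc cl N * pid u * pid w * idCls σ.ker ^ 2 = cl N * idCls σ.ker ^ 2 * pid u * pid w := by ac_rfl
      _ = tcl c (u ≫ j) * pid u * (tcl c (w ≫ j) * pid w) := by rw [eN, ← hw, tcl_mul hc]; ac_rfl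
      _ = 1 * idCls σ.ker ^ 2 := by rw [tcl_abel hdim hf hc hj, tcl_abel hdim hf hc hj, _root_.one_mul, sq]
  have hone : ∀ u : 𝟙_ (Over (Spec (CommRingCat.of k))) ⟶ Over.mk (C ↘ Spec (CommRingCat.of k)),
      1 ≤ Module.finrank k (Coh.HH C (CohB1.tensorMod N (ClSub.idealMod u.left.ker)) 0) := by
    intro u
    obtain ⟨w, hw⟩ := hpts u
    refine one_le_h0_of_points hdim (fun _ : Fin 1 => w.left) (fun _ => Over.w w)
      (HilbPolyLib.isInvertible_tensor hN
        (IntMultLib.isInvertible_idealMod _ (AlgEquivCurveLib.isEffCartier_pt hdim u.left (Over.w u)))) ?_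
    rw [Fin.prod_univ_one, cl_tensor]
    exact hw
  have hge : 2 ≤ Module.finrank k (Coh.HH C N 0) := by
    let u₀ : 𝟙_ (Over (Spec (CommRingCat.of k))) ⟶ Over.mk (C ↘ Spec (CommRingCat.of k)) := Over.homMk σ hσ
    have h1 : 1 ≤ Module.finrank k (Coh.HH C N 0) :=
      (hone u₀).trans (h0_point (k := k) hdim u₀.left (Over.w u₀) hN (cl_tensor _ _)).1
    obtain ⟨x, hx, hgen⟩ := exists_point_gen (k := k) hdim hN h1
    have := (h0_point (k := k) hdim x hx hN (cl_tensor N (ClSub.idealMod x.ker))).2 hgen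
    have h2 : 1 ≤ Module.finrank k (Coh.HH C (CohB1.tensorMod N (ClSub.idealMod x.ker)) 0) := hone (pt x hx)
    omega
  have hle := CurveH0Lib.h0_le_deg k hdim hg hN (by omega)
  exact ⟨N, hN, hd, by omega⟩

omit hdim hf hc hj in
/-- Points lift along an isomorphism. -/
theorem exists_lift_of_iso {X Y : Scheme.{u}} {f : X ⟶ Spec (CommRingCat.of k)} {f' : Y ⟶ Spec (CommRingCat.of k)}
    (α : X ≅ Y) (hα : α.hom ≫ f' = f) (v : 𝟙_ (Over (Spec (CommRingCat.of k))) ⟶ Over.mk f') :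
    ∃ u : 𝟙_ (Over (Spec (CommRingCat.of k))) ⟶ Over.mk f, u ≫ (Over.homMk α.hom hα : Over.mk f ⟶ Over.mk f') = v :=
  ⟨Over.homMk (v.left ≫ α.inv) (by
      show (v.left ≫ α.inv) ≫ f = _
      rw [Category.assoc, ← hα, Iso.inv_hom_id_assoc]
      exact Over.w v),
    Over.OverMorphism.ext (by
      show (v.left ≫ α.inv) ≫ α.hom = v.left
      rw [Category.assoc, Iso.inv_hom_id]; exact Category.comp_id _)⟩

end JacAlbLib

end
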