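import Groth.Agent.JacAlbLib.TorelliMain
import Groth.Agent.JacAlbLib.BaseChange
import Groth.Agent.JacAlbLib.GeomPoints
import Groth.Agent.VeryAmpleLib.Bc
import Groth.Agent.CubeConsLib.FieldHom
import Groth.Agent.JacAlbLib.WShift

/-!
# Torelli's theorem over a perfect field
-/

set_option autoImplicit false
set_option linter.style.haveILetI false
set_option linter.unusedSectionVars false
set_option backward.isDefEq.respectTransparency false
set_option backward.isDefEq.respectTransparency.types false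
set_option maxRecDepth 8000
set_option maxHeartbeats 1000000

universe u

open CategoryTheory CategoryTheory.Limits AlgebraicGeometry TopologicalSpace MonoidalCategory CartesianMonoidalCategory
open CubeConsLib (pull pull_comp pull_cl cl cl_eq_iff cl_tensor IsoCls)
open AVIndexLib (dn dnMap toDn toDn_injective toDn_comp toDn_mul toDn_comp_map diagBc toDn_diag_map)
open EllLawLib (idCls)
open PicCurveLib SymProd
open scoped MonObj

noncomputable section

namespace JacAlbLib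

section Hom

variable {S S' : Scheme.{u}} (t : S' ⟶ S) {X : Over S} [GrpObj X]

/-- Points of a base change as a homomorphism. -/
def toDnHom (U : Over S') : (U ⟶ Red.bc t X) →* (dn t U ⟶ X) := MonoidHom.mk' (toDn t) (toDn_mul t)

theorem toDnHom_apply (U : Over S') (g : U ⟶ Red.bc t X) : toDnHom t U g = toDn t g := rfl

theorem exists_toDn_eq {Y : Over S} (U : Over S') (a : dn t U ⟶ Y) :
    ∃ g, toDn t (X := Y) (U := U) g = a :=
  ⟨_, toDn_diag_map t a⟩

variable {Y : Over S} (j : Y ⟶ X) [IsCommMonObj X] [IsCommMonObj (Red.bc t X)]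

/-- Sums of images of points of the base change. -/
theorem exists_prod_bc_iff {r : ℕ} {U : Over S'} (z : U ⟶ Red.bc t X) :
    (∃ v : Fin r → (U ⟶ (Over.pullback t).obj Y), z = ∏ i, v i ≫ ((Over.pullback t).map j : _ ⟶ Red.bc t X)) ↔
      ∃ v : Fin r → (dn t U ⟶ Y), toDn t z = ∏ i, v i ≫ j := by
  constructor
  · rintro ⟨v, rfl⟩
    refine ⟨fun i => toDn t (v i), ?_⟩
    rw [← toDnHom_apply, map_prod]
    exact Finset.prod_congr rfl fun i _ => toDn_comp_map t (v i) j
  · rintro ⟨v, hv⟩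
    choose w hw using fun i => exists_toDn_eq t U (v i)
    refine ⟨w, toDn_injective t (hv.trans ?_)⟩
    rw [← toDnHom_apply, map_prod]
    exact Finset.prod_congr rfl fun i _ => ((toDn_comp_map t (w i) j).trans (by rw [hw])).symm

/-- Images of points of the base change. -/
theorem exists_one_bc_iff {U : Over S'} (z : U ⟶ Red.bc t X) :
    (∃ u : U ⟶ (Over.pullback t).obj Y, z = u ≫ ((Over.pullback t).map j : _ ⟶ Red.bc t X)) ↔
      ∃ u : dn t U ⟶ Y, toDn t z = u ≫ j := by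
  constructor
  · rintro ⟨u, hu⟩
    exact ⟨toDn t u, (congrArg (toDn t) hu).trans (toDn_comp_map t u j)⟩
  · rintro ⟨u, hu⟩
    obtain ⟨v, rfl⟩ := exists_toDn_eq t U u
    exact ⟨v, toDn_injective t (hu.trans (toDn_comp_map t v j).symm)⟩

/-- Multiples of images of points of the base change. -/
theorem exists_zpow_bc_iff (e : ℤ) {U : Over S'} (z w : U ⟶ Red.bc t X) :
    (∃ u : U ⟶ (Over.pullback t).obj Y, z * w⁻¹ = u ≫ (((Over.pullback t).map j : _ ⟶ Red.bc t X) ≫ (𝟙 (Red.bc t X)) ^ e)) ↔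
      ∃ u : dn t U ⟶ Y, toDn t z = (u ≫ j) ^ e * toDn t w := by
  have h : ∀ u : U ⟶ (Over.pullback t).obj Y,
      toDn t ((u ≫ ((Over.pullback t).map j : _ ⟶ Red.bc t X)) ^ e * w) = (toDn t u ≫ j) ^ e * toDn t w := fun u => by
    rw [← toDnHom_apply, map_mul, map_zpow, toDnHom_apply, toDnHom_apply]
    exact congrArg (· ^ e * _) (toDn_comp_map t u j)
  constructor
  · rintro ⟨u, hu⟩
    refine ⟨toDn t u, ?_⟩
    rw [mul_inv_eq_iff_eq_mul, GrpObj.comp_zpow, GrpObj.comp_zpow, Category.comp_id] at hu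
    exact (congrArg (toDn t) hu).trans (h u)
  · rintro ⟨u, hu⟩
    obtain ⟨v, rfl⟩ := exists_toDn_eq t U u
    refine ⟨v, ?_⟩
    rw [mul_inv_eq_iff_eq_mul, GrpObj.comp_zpow, GrpObj.comp_zpow, Category.comp_id]
    exact toDn_injective t (hu.trans (h v).symm)

/-- A shifted image of a point of the base change. -/
theorem exists_shift_bc {U : Over S'} (d : U ⟶ Red.bc t X) (u : U ⟶ (Over.pullback t).obj Y)
    (h : ∃ v : dn t U ⟶ Y, v ≫ j = toDn t d * (toDn t u ≫ j)) :
    ∃ w : U ⟶ (Over.pullback t).obj Y,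
      w ≫ ((Over.pullback t).map j : _ ⟶ Red.bc t X) = d * (u ≫ ((Over.pullback t).map j : _ ⟶ Red.bc t X)) := by
  obtain ⟨v, hv⟩ := h
  obtain ⟨v', rfl⟩ := exists_toDn_eq t U v
  refine ⟨v', toDn_injective t ?_⟩
  rw [toDn_mul]
  exact (toDn_comp_map t v' j).trans (hv.trans (congrArg (_ * ·) (toDn_comp_map t u j).symm))

end Hom

/-- An automorphism of the test scheme moves the translation by a period of the curve. -/
theorem shift_of_cor {S : Scheme.{u}} {T X X' A : Over S} [GrpObj A] [IsCommMonObj A] (j : X ⟶ A) (j' : X' ⟶ A)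
    (e : ℤ) (τ₀ : T ⟶ A) (h : ∀ g : T ⟶ A, (∃ u', g = u' ≫ j') ↔ ∃ u, g = (u ≫ j) ^ e * τ₀)
    (φ φ' : T ⟶ T) (hφ : φ ≫ φ' = 𝟙 T) (u : T ⟶ X') :
    ∃ v, v ≫ j' = (φ ≫ τ₀) * τ₀⁻¹ * (u ≫ j') := by
  obtain ⟨w, hw⟩ := (h (u ≫ j')).1 ⟨_, rfl⟩
  obtain ⟨v, hv⟩ := (h (((φ' ≫ w) ≫ j) ^ e * τ₀)).2 ⟨_, rfl⟩
  refine ⟨φ ≫ v, ?_⟩
  rw [Category.assoc, ← hv, MonObj.comp_mul, GrpObj.comp_zpow, ← Category.assoc, ← Category.assoc, hφ,
    Category.id_comp, hw, _root_.mul_comm ((w ≫ j) ^ e) τ₀, ← _root_.mul_assoc, inv_mul_cancel_right,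
    _root_.mul_comm]

variable {k : Type u} [Field k] {C C' : Scheme.{u}} [C.Over (Spec (CommRingCat.of k))]
  [C'.Over (Spec (CommRingCat.of k))]
  [IsProper (C ↘ Spec (CommRingCat.of k))] [Smooth (C ↘ Spec (CommRingCat.of k))]
  [GeometricallyConnected (C ↘ Spec (CommRingCat.of k))]
  [IsProper (C' ↘ Spec (CommRingCat.of k))] [Smooth (C' ↘ Spec (CommRingCat.of k))]
  [GeometricallyConnected (C' ↘ Spec (CommRingCat.of k))]
  (hdim : topologicalKrullDim ↥C = 1) (hdim' : topologicalKrullDim ↥C' = 1)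
  (hf : Fam (C ↘ Spec (CommRingCat.of k))) (hf' : Fam (C' ↘ Spec (CommRingCat.of k)))
  {σ : Spec (CommRingCat.of k) ⟶ C} {hσ : σ ≫ (C ↘ Spec (CommRingCat.of k)) = 𝟙 _}
  {σ' : Spec (CommRingCat.of k) ⟶ C'} {hσ' : σ' ≫ (C' ↘ Spec (CommRingCat.of k)) = 𝟙 _}
  {J : Over (Spec (CommRingCat.of k))} [GrpObj J]
  {c : IsoCls (PicF.XT (C ↘ Spec (CommRingCat.of k)) J)} (hc : IsRigJac σ hσ J c)
  {c' : IsoCls (PicF.XT (C' ↘ Spec (CommRingCat.of k)) J)} (hc' : IsRigJac σ' hσ' J c')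
  [IsProper J.hom] [Smooth J.hom] [GeometricallyIntegral J.hom] [IsCommMonObj J]
  {j : Over.mk (C ↘ Spec (CommRingCat.of k)) ⟶ J} (hj : IsAbel σ hσ c j)
  {j' : Over.mk (C' ↘ Spec (CommRingCat.of k)) ⟶ J} (hj' : IsAbel σ' hσ' c' j')
include hdim hdim' hf hf' hc hc' hj hj'

/-- Torelli over the algebraic closure, on geometric points, with the rationality of the translation. -/
theorem exists_gpt_transl [PerfectField k] {l : ℕ} (hn : l + 2 = Curv2.genus k C) (hn' : l + 2 = Curv2.genus k C')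
    (c₁ : 𝟙_ (Over (Spec (CommRingCat.of k))) ⟶ J)
    (hW : ∀ {K : Type u} [Field K] [IsAlgClosed K] (s : Spec (CommRingCat.of K) ⟶ Spec (CommRingCat.of k))
      (g : Over.mk s ⟶ J),
      gpt s g ∈ WSet j (l + 1) ↔ gpt s (g * (toUnit (Over.mk s) ≫ c₁)⁻¹) ∈ WSet j' (l + 1)) :
    ∃ (K : Type u) (_ : Field K) (_ : IsAlgClosed K) (s : Spec (CommRingCat.of K) ⟶ Spec (CommRingCat.of k))
      (t₀ : 𝟙_ (Over (Spec (CommRingCat.of k))) ⟶ J) (e : ℤ), (e = 1 ∨ e = -1) ∧
      ∀ g : Over.mk s ⟶ J, (∃ u', g = u' ≫ j') ↔ ∃ u, g = (u ≫ j) ^ e * (toUnit (Over.mk s) ≫ t₀) := by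
  let K := AlgebraicClosure k
  let t : Spec (CommRingCat.of K) ⟶ Spec (CommRingCat.of k) := Spec.map (CommRingCat.ofHom (algebraMap k K))
  let T : Over (Spec (CommRingCat.of K)) := 𝟙_ _
  let f := C ↘ Spec (CommRingCat.of k)
  let f' := C' ↘ Spec (CommRingCat.of k)
  let CK := Curv2.bc k C K
  let CK' := Curv2.bc k C' K
  letI : CK.Over (Spec (CommRingCat.of K)) := ⟨pullback.snd f t⟩
  letI : CK'.Over (Spec (CommRingCat.of K)) := ⟨pullback.snd f' t⟩
  have hfK : Fam (CK ↘ Spec (CommRingCat.of K)) := fam_snd hf t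
  have hfK' : Fam (CK' ↘ Spec (CommRingCat.of K)) := fam_snd hf' t
  haveI := hfK.proper; haveI := hfK.smooth; haveI := hfK.conn
  haveI := hfK'.proper; haveI := hfK'.smooth; haveI := hfK'.conn
  haveI : IsProper (pullback.snd f t) := hfK.proper
  haveI : IsProper (pullback.snd f' t) := hfK'.proper
  haveI : Smooth (pullback.snd f t) := hfK.smooth
  haveI : Smooth (pullback.snd f' t) := hfK'.smooth
  haveI : IsProper (Red.bc t J).hom := MorphismProperty.pullback_snd J.hom t inferInstance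
  haveI : Smooth (Red.bc t J).hom := MorphismProperty.pullback_snd J.hom t inferInstance
  haveI : GeometricallyIntegral (Red.bc t J).hom := MorphismProperty.pullback_snd J.hom t inferInstance
  haveI : IsCommMonObj (Red.bc t J) := CubeConsLib.isCommMonObj_field
  haveI := FibVALib.geometricallyIntegral_of_geometricallyConnected f
  haveI := FibVALib.geometricallyIntegral_of_geometricallyConnected f'
  have hcK := isRigJac_bc t hf hc
  have hcK' := isRigJac_bc t hf' hc'
  have hjK := isAbel_bc t hf hj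
  have hjK' := isAbel_bc t hf' hj'
  have hdK : topologicalKrullDim ↥CK = 1 := dim_total hfK
  have hdK' : topologicalKrullDim ↥CK' = 1 := dim_total hfK'
  have hgK : Curv2.genus K CK = Curv2.genus k C := VeryAmpleLib.genus_bc k C K
  have hgK' : Curv2.genus K CK' = Curv2.genus k C' := VeryAmpleLib.genus_bc k C' K
  let jK : Over.mk (CK ↘ Spec (CommRingCat.of K)) ⟶ Red.bc t J := (Over.pullback t).map j
  let jK' : Over.mk (CK' ↘ Spec (CommRingCat.of K)) ⟶ Red.bc t J := (Over.pullback t).map j'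
  let s := T.hom ≫ t
  have hs : s = Spec.map (CommRingCat.ofHom (algebraMap k K)) := Category.id_comp _
  -- translation of membership
  have hmemW : ∀ (z : T ⟶ Red.bc t J), (pnt z ∈ WSet jK (l + 1) ↔ gpt s (toDn t z) ∈ WSet j (l + 1)) := fun z => by
    rw [mem_WSet_iff, gpt_mem_WSet_iff]
    exact exists_prod_bc_iff t j z
  have hmemW' : ∀ (z : T ⟶ Red.bc t J), (pnt z ∈ WSet jK' (l + 1) ↔ gpt s (toDn t z) ∈ WSet j' (l + 1)) := fun z => by
    rw [mem_WSet_iff, gpt_mem_WSet_iff]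
    exact exists_prod_bc_iff t j' z
  obtain ⟨cK, hcK₁⟩ := exists_toDn_eq t T (toUnit (dn t T) ≫ c₁ : dn t T ⟶ J)
  obtain ⟨tK, e, he, hT⟩ := exists_transl_eq_or hdK hdK' hfK hfK' hcK hcK' hjK hjK' (l := l)
    (hn.trans hgK.symm) (hn'.trans hgK'.symm) cK (fun z => by
      rw [hmemW, hmemW', hW, ← toDnHom_apply t T (z * cK⁻¹), map_mul, map_inv, toDnHom_apply, toDnHom_apply, hcK₁])
  let τ₀ : dn t T ⟶ J := toDn t tK
  have hcor : ∀ g : dn t T ⟶ J, (∃ u', g = u' ≫ j') ↔ ∃ u, g = (u ≫ j) ^ e * τ₀ := by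
    intro g
    obtain ⟨z, rfl⟩ := exists_toDn_eq t T g
    have h := Set.ext_iff.1 hT (pnt z)
    rw [mem_transl, mem_WSet_one, mem_WSet_one] at h
    exact (exists_one_bc_iff t j' z).symm.trans (h.trans (exists_zpow_bc_iff t j e z tK))
  have huniq : ∀ τ : K ≃ₐ[k] K, galPt s τ hs ≫ τ₀ = τ₀ := by
    intro τ
    let φ : dn t T ⟶ dn t T := galPt s τ hs
    let φ' : dn t T ⟶ dn t T := galPt s τ.symm hs
    have hφ : φ ≫ φ' = 𝟙 _ := Over.OverMorphism.ext (by
      show Spec.map _ ≫ Spec.map _ = 𝟙 _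
      rw [← Spec.map_comp, ← Spec.map_id]
      congr 1
      ext x
      exact τ.apply_symm_apply x)
    obtain ⟨d, hd⟩ := exists_toDn_eq t T ((φ ≫ τ₀) * τ₀⁻¹)
    have hd1 : d = 1 := by
      refine eq_one_of_shift hdK' hfK' hcK' hjK' (by omega) d fun u => ?_
      refine exists_shift_bc t j' d u ?_
      rw [hd]
      exact shift_of_cor j j' e τ₀ hcor φ φ' hφ _
    rw [hd1, ← toDnHom_apply, map_one, eq_comm, mul_inv_eq_one] at hd
    exact hd
  obtain ⟨t₀, ht₀⟩ := exists_descend_gpt s hs τ₀ huniq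
  exact ⟨K, inferInstance, inferInstance, s, t₀, e, he, fun g => by rw [ht₀]; exact hcor g⟩

omit hdim hdim' hf hf' hc hc' hj hj' in
/-- Maps out of proper schemes with the same geometric points have nested images. -/
theorem range_subset_of_gpt {K : Type u} [Field K] [IsAlgClosed K]
    (s : Spec (CommRingCat.of K) ⟶ Spec (CommRingCat.of k)) {X Y A : Over (Spec (CommRingCat.of k))}
    [LocallyOfFiniteType X.hom] (a : X ⟶ A) (b : Y ⟶ A) (hb : IsClosed (Set.range b.left.base))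
    (h : ∀ u : Over.mk s ⟶ X, ∃ v, u ≫ a = v ≫ b) : Set.range a.left.base ⊆ Set.range b.left.base := by
  have hu : (Set.univ : Set X.left) ⊆ a.left.base ⁻¹' Set.range b.left.base :=
    subset_of_gpt s isClosed_univ (hb.preimage a.left.continuous) fun g _ => by
      obtain ⟨v, hv⟩ := h g
      exact ⟨gpt s v, (congrArg (gpt s) hv).symm⟩
  rintro _ ⟨p, rfl⟩
  exact hu (Set.mem_univ p)

/-- **Torelli over a perfect field.** -/
theorem exists_iso_of_theta_perfect [PerfectField k] {l : ℕ} (hn : l + 2 = Curv2.genus k C)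
    (hn' : l + 2 = Curv2.genus k C') (c₁ : 𝟙_ (Over (Spec (CommRingCat.of k))) ⟶ J)
    (hW : ∀ {K : Type u} [Field K] [IsAlgClosed K] (s : Spec (CommRingCat.of K) ⟶ Spec (CommRingCat.of k))
      (g : Over.mk s ⟶ J),
      gpt s g ∈ WSet j (l + 1) ↔ gpt s (g * (toUnit (Over.mk s) ≫ c₁)⁻¹) ∈ WSet j' (l + 1)) :
    ∃ α : C ≅ C', α.hom ≫ (C' ↘ Spec (CommRingCat.of k)) = (C ↘ Spec (CommRingCat.of k)) := by
  obtain ⟨K, _, _, s, t₀, e, he, h⟩ := exists_gpt_transl hdim hdim' hf hf' hc hc' hj hj' hn hn' c₁ hW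
  haveI := isClosedImmersion_abel hf' hc' hj' (by omega)
  haveI := isClosedImmersion_abel hf hc hj (by omega)
  let φ : Over.mk (C ↘ Spec (CommRingCat.of k)) ⟶ J := (j ≫ (𝟙 J) ^ e) ≫ Jac.transl J t₀
  have hinv : IsIso ((𝟙 J : J ⟶ J) ^ e).left := by
    rcases he with rfl | rfl
    · rw [zpow_one]; infer_instance
    · refine ⟨((𝟙 J : J ⟶ J) ^ (-1 : ℤ)).left, ?_, ?_⟩ <;>
      · rw [← Over.comp_left, zpow_neg, zpow_one, inv_comp_inv]; rfl
  haveI : IsIso (Jac.transl J t₀).left :=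
    ⟨(Jac.transl J t₀⁻¹).left, by rw [← Over.comp_left, transl_inv_hom]; rfl, by rw [← Over.comp_left, transl_inv_hom']; rfl⟩
  haveI : IsClosedImmersion φ.left := by
    show IsClosedImmersion ((j.left ≫ ((𝟙 J : J ⟶ J) ^ e).left) ≫ (Jac.transl J t₀).left)
    infer_instance
  haveI := FibVALib.geometricallyIntegral_of_geometricallyConnected (C ↘ Spec (CommRingCat.of k))
  haveI := FibVALib.geometricallyIntegral_of_geometricallyConnected (C' ↘ Spec (CommRingCat.of k))
  haveI : IsIntegral C := GeometricallyIntegral.isIntegral_of_subsingleton (C ↘ Spec (CommRingCat.of k))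
  haveI : IsIntegral C' := GeometricallyIntegral.isIntegral_of_subsingleton (C' ↘ Spec (CommRingCat.of k))
  haveI : LocallyOfFiniteType (Over.mk (C ↘ Spec (CommRingCat.of k))).hom :=
    inferInstanceAs (LocallyOfFiniteType (C ↘ Spec (CommRingCat.of k)))
  haveI : LocallyOfFiniteType (Over.mk (C' ↘ Spec (CommRingCat.of k))).hom :=
    inferInstanceAs (LocallyOfFiniteType (C' ↘ Spec (CommRingCat.of k)))
  have hu : ∀ u : Over.mk s ⟶ Over.mk (C ↘ Spec (CommRingCat.of k)), u ≫ φ = (u ≫ j) ^ e * (toUnit (Over.mk s) ≫ t₀) :=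
    fun u => by rw [← Category.assoc, comp_transl', ← Category.assoc, GrpObj.comp_zpow, Category.comp_id]
  have hr : Set.range φ.left.base = Set.range j'.left.base := by
    refine Set.Subset.antisymm (range_subset_of_gpt s φ j' j'.left.isClosedEmbedding.isClosed_range fun u => ?_)
      (range_subset_of_gpt s j' φ φ.left.isClosedEmbedding.isClosed_range fun u' => ?_)
    · obtain ⟨u', hu'⟩ := (h (u ≫ φ)).2 ⟨u, hu u⟩
      exact ⟨u', hu'⟩
    · obtain ⟨u, hu'⟩ := (h (u' ≫ j')).1 ⟨u', rfl⟩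
      exact ⟨u, hu'.trans (hu u).symm⟩
  haveI : IsReduced (Over.mk (C ↘ Spec (CommRingCat.of k))).left := inferInstanceAs (IsReduced C)
  haveI : IsReduced (Over.mk (C' ↘ Spec (CommRingCat.of k))).left := inferInstanceAs (IsReduced C')
  obtain ⟨α, hα⟩ := exists_iso_of_range_eq φ.left j'.left hr
  refine ⟨α, ?_⟩
  rw [← show j'.left ≫ J.hom = (C' ↘ Spec (CommRingCat.of k)) from Over.w j', ← Category.assoc, hα]
  exact Over.w φ

end JacAlbLib

namespace JacAlbLib

variable {k : Type u} [Field k] {J J' : Over (Spec (CommRingCat.of k))} [GrpObj J] [GrpObj J'] [IsCommMonObj J']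

/-- Comparison of translated sets on geometric points. -/
theorem gpt_image_of_theta {K : Type u} [Field K] [IsAlgClosed K]
    (s : Spec (CommRingCat.of K) ⟶ Spec (CommRingCat.of k)) (β : J ⟶ J') [IsMonHom β]
    (c₀ : 𝟙_ (Over (Spec (CommRingCat.of k))) ⟶ J') (a : 𝟙_ (Over (Spec (CommRingCat.of k))) ⟶ J)
    (a' : 𝟙_ (Over (Spec (CommRingCat.of k))) ⟶ J') {W : Set J.left} {V : Set J'.left}
    (h : β.left.base '' ((Jac.transl J a).left.base '' W) =
      (Jac.transl J' c₀).left.base ⁻¹' ((Jac.transl J' a').left.base '' V))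
    (z : Over.mk s ⟶ J') :
    gpt s z ∈ β.left.base '' W ↔ gpt s (z * (toUnit (Over.mk s) ≫ ((a ≫ β) * c₀ * a'⁻¹))) ∈ V := by
  have e : Jac.transl J a ≫ β = β ≫ Jac.transl J' (a ≫ β) := by
    rw [Jac.transl, MonObj.mul_comp, Category.id_comp, Category.assoc, comp_transl']
  have e2 : (Jac.transl J a).left ≫ β.left = β.left ≫ (Jac.transl J' (a ≫ β)).left := congrArg CommaMorphism.left e
  have h1 : β.left.base '' ((Jac.transl J a).left.base '' W) = (Jac.transl J' (a ≫ β)).left.base '' (β.left.base '' W) := by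
    rw [← Set.image_comp, ← Set.image_comp]
    exact Set.image_congr fun p _ => congrArg (fun m : J.left ⟶ J'.left => m.base p) e2
  have h2 : gpt s (z * (toUnit (Over.mk s) ≫ (a ≫ β))) ∈ (Jac.transl J' (a ≫ β)).left.base '' (β.left.base '' W) ↔
      gpt s z ∈ β.left.base '' W := by
    rw [gpt_mem_transl, mul_inv_cancel_right]
  rw [← h2, ← h1, h]
  show gpt s ((z * (toUnit _ ≫ (a ≫ β))) ≫ Jac.transl J' c₀) ∈ (Jac.transl J' a').left.base '' V ↔ _
  rw [comp_transl', gpt_mem_transl, MonObj.comp_mul, MonObj.comp_mul, GrpObj.comp_inv, _root_.mul_assoc z,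
    _root_.mul_assoc z]

end JacAlbLib

end
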