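import Groth.Agent.JacAlbLib.PicDescent
import Groth.Agent.JacAlbLib.TorelliBC

/-!
# The Jacobian of a pointless curve over a cover with a point
-/

set_option autoImplicit false
set_option linter.style.haveILetI false
set_option linter.unusedSectionVars false
set_option backward.isDefEq.respectTransparency false
set_option backward.isDefEq.respectTransparency.types false
set_option maxRecDepth 8000
set_option maxHeartbeats 1000000

universe u

open CategoryTheory CategoryTheory.Limits AlgebraicGeometry MonoidalCategory CartesianMonoidalCategory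
open CubeConsLib (pull pull_comp pull_cl cl cl_eq_iff cl_tensor IsoCls)
open AVIndexLib (dn dnMap toDn toDn_injective toDn_comp toDn_mul diagBc toDn_diag_map inv_bcXTIso_natural)
open EllLawLib (idCls)
open PicCurveLib
open scoped MonObj

noncomputable section

namespace JacAlbLib

section Field

variable {k : Type u} [Field k] {C : Scheme.{u}} [C.Over (Spec (CommRingCat.of k))]
  [IsProper (C ↘ Spec (CommRingCat.of k))] [Smooth (C ↘ Spec (CommRingCat.of k))]
  [GeometricallyConnected (C ↘ Spec (CommRingCat.of k))] (hdim : topologicalKrullDim ↥C = 1)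
  (hf : Fam (C ↘ Spec (CommRingCat.of k)))

include hf in
/-- A universal family of degree zero can be rigidified. -/
theorem exists_univ_rigZero {σ : Spec (CommRingCat.of k) ⟶ C} {hσ : σ ≫ (C ↘ Spec (CommRingCat.of k)) = 𝟙 _}
    {J : Over (Spec (CommRingCat.of k))} {ξ : (PicF.XT (C ↘ Spec (CommRingCat.of k)) J).Modules}
    (hξ : ModFun.IsUnivFamily ⊤ (ModFun.PicDeg (C ↘ Spec (CommRingCat.of k)) 0) J ξ) :
    ∃ ξ' : (PicF.XT (C ↘ Spec (CommRingCat.of k)) J).Modules,
      ModFun.IsUnivFamily ⊤ (ModFun.PicDeg (C ↘ Spec (CommRingCat.of k)) 0) J ξ' ∧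
      RigZero σ hσ J (cl ξ') ∧ (ModFun.PicDeg (C ↘ Spec (CommRingCat.of k)) 0).r J ξ ξ' := by
  obtain ⟨ξ', hok, hz, D, hD, e⟩ := exists_norm hf (σ := σ) (hσ := hσ) J ξ hξ.1
  have hr : (ModFun.PicDeg (C ↘ Spec (CommRingCat.of k)) 0).r J ξ ξ' := r_of_twist hf hD e
  refine ⟨ξ', ⟨hok, fun T x hT hx => ?_⟩, hz, hr⟩
  obtain ⟨g, hg, hgu⟩ := hξ.2 T x hT hx
  exact ⟨g, r_trans hf T (r_symm hf T (r_pull hf g hr)) hg,
    fun g' hg' => hgu g' (r_trans hf T (r_pull hf g' hr) hg')⟩

end Field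

variable {k : Type u} [Field k] {C : Scheme.{u}} [C.Over (Spec (CommRingCat.of k))]
  [IsProper (C ↘ Spec (CommRingCat.of k))] [Smooth (C ↘ Spec (CommRingCat.of k))]
  [GeometricallyConnected (C ↘ Spec (CommRingCat.of k))] (hdim : topologicalKrullDim ↥C = 1)
  (hf : Fam (C ↘ Spec (CommRingCat.of k)))
  {k' : Type u} [Field k'] (t : Spec (CommRingCat.of k') ⟶ Spec (CommRingCat.of k))
include hdim hf

/-- The base change of an admissible family along the identification of the total spaces. -/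
theorem ok_bcXTIso (d : ℤ) {T : Over (Spec (CommRingCat.of k'))}
    {L : (PicF.XT (pullback.snd (C ↘ Spec (CommRingCat.of k)) t) T).Modules}
    (hL : (ModFun.PicDeg (pullback.snd (C ↘ Spec (CommRingCat.of k)) t) d).ok T L) :
    (ModFun.PicDeg (C ↘ Spec (CommRingCat.of k)) d).ok (dn t T)
      ((Scheme.Modules.pullback (AgPol.bcXTIso t (Over.mk (C ↘ Spec (CommRingCat.of k))) T).inv).obj L) := by
  let f := C ↘ Spec (CommRingCat.of k)
  letI : (pullback f t).Over (Spec (CommRingCat.of k')) := ⟨pullback.snd f t⟩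
  have hf' : Fam ((pullback f t) ↘ Spec (CommRingCat.of k')) := fam_snd hf t
  haveI := hf'.proper; haveI := hf'.smooth; haveI := hf'.conn
  obtain ⟨hi, hd⟩ := (ok_iff hf' d T L).1 hL
  let θ := AgPol.bcXTIso t (Over.mk f) T
  have hiA : PicF.IsInvertible ((Scheme.Modules.pullback θ.inv).obj L) := AmpleDevLib.isInvertible_pb θ.inv hi
  refine (ok_iff hf d _ _).2 ⟨hiA, fun z => ?_⟩
  have h := deg_bcXTIso t hf.dim_le T hiA z
  rw [PicCurveLib.deg_congr (pullback.snd f t) hf'.dim_le T (M := L)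
    (by rw [← pull_cl, ← pull_cl, pull_comp, Iso.hom_inv_id]; exact DescAppLib.pull_id _) z] at h
  exact h.symm.trans (hd z)

/-- The classifying map of the base change. -/
theorem exists_app_bc {d : ℤ} {M : Over (Spec (CommRingCat.of k))}
    (φ : (ModFun.PicDeg (C ↘ Spec (CommRingCat.of k)) d).Hom ⊤ M) :
    ∃ φB : (ModFun.PicDeg (pullback.snd (C ↘ Spec (CommRingCat.of k)) t) d).Hom ⊤ (Red.bc t M),
      ∀ (T : Over (Spec (CommRingCat.of k'))) (L : (PicF.XT (pullback.snd (C ↘ Spec (CommRingCat.of k)) t) T).Modules)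
        (hL : (ModFun.PicDeg (pullback.snd (C ↘ Spec (CommRingCat.of k)) t) d).ok T L),
        toDn t (φB.app T L trivial hL) = φ.app (dn t T) _ trivial (ok_bcXTIso hdim hf t d hL) := by
  let f := C ↘ Spec (CommRingCat.of k)
  letI : (pullback f t).Over (Spec (CommRingCat.of k')) := ⟨pullback.snd f t⟩
  have hf' : Fam ((pullback f t) ↘ Spec (CommRingCat.of k')) := fam_snd hf t
  haveI := hf'.proper; haveI := hf'.smooth; haveI := hf'.conn
  let app : ∀ (T : Over (Spec (CommRingCat.of k'))) (L : (PicF.XT (pullback.snd f t) T).Modules),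
      (ModFun.PicDeg (pullback.snd f t) d).ok T L → (T ⟶ Red.bc t M) := fun T L hL =>
    diagBc t T ≫ (Over.pullback t).map (φ.app (dn t T) _ trivial (ok_bcXTIso hdim hf t d hL))
  refine ⟨{ app := fun T L _ hL => app T L hL, natural := ?_, resp := ?_ }, fun T L hL => toDn_diag_map t _⟩
  · intro T T' g L _ _ hL hL'
    refine toDn_injective t ((toDn_diag_map t _).trans
      (Eq.trans ?_ ((toDn_comp t g _).trans (congrArg (dnMap t g ≫ ·) (toDn_diag_map t _))).symm))
    rw [← φ.natural (dnMap t g) _ trivial trivial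
      (ok_bcXTIso hdim hf t d hL) (ok_pull hf _ _ (ok_bcXTIso hdim hf t d hL))]
    refine φ.resp _ _ trivial _ _ ((r_iff hf _ _ _).2 ⟨1, ⟨_, CurvLib.isInvertible_structureModule, rfl⟩, ?_⟩)
    rw [map_one, _root_.mul_one]
    show cl ((Scheme.Modules.pullback (PicF.XTmap f (dnMap t g))).obj ((Scheme.Modules.pullback _).obj L)) =
      cl ((Scheme.Modules.pullback _).obj ((Scheme.Modules.pullback (PicF.XTmap (pullback.snd f t) g)).obj L))
    rw [← pull_cl, ← pull_cl, ← pull_cl, ← pull_cl]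
    refine (pull_comp _ _ _).trans (Eq.trans ?_ (pull_comp _ _ _).symm)
    exact congrArg (fun m => pull m (cl L)) (inv_bcXTIso_natural (A := Over.mk f) t g).symm
  · intro T L L' _ hL hL' hr
    obtain ⟨n, hn, e⟩ := (r_iff hf' T L L').1 hr
    refine toDn_injective t ?_
    rw [toDn_diag_map, toDn_diag_map]
    refine φ.resp _ _ trivial _ _ ((r_iff hf _ _ _).2 ⟨n, hn, ?_⟩)
    rw [← pull_cl, ← pull_cl, e, map_mul]
    refine congrArg (_ * ·) ((pull_comp _ _ _).trans (congrArg (fun m => pull m n) ?_))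
    exact (Iso.inv_comp_eq _).2 (pullbackLeftPullbackSndIso_hom_snd f t T.hom).symm

/-- **The base change of a Jacobian to a cover with a point is a fine Jacobian.** -/
theorem exists_rigJac_bc [Algebra k k'] [Module.Finite k k'] (ht : t = Spec.map (CommRingCat.ofHom (algebraMap k k')))
    {σ : Spec (CommRingCat.of k') ⟶ pullback (C ↘ Spec (CommRingCat.of k)) t}
    {hσ : σ ≫ pullback.snd _ _ = 𝟙 _} {J' : Over (Spec (CommRingCat.of k'))} [GrpObj J'] [IsProper J'.hom]
    [Smooth J'.hom] [GeometricallyConnected J'.hom]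
    {c : IsoCls (PicF.XT (pullback.snd (C ↘ Spec (CommRingCat.of k)) t) J')} (hc : IsRigJac σ hσ J' c)
    {J : Over (Spec (CommRingCat.of k))} [GrpObj J]
    {ψ : (ModFun.PicDeg (C ↘ Spec (CommRingCat.of k)) 0).Hom ⊤ J}
    (hJ : Jac.IsJacobian (C ↘ Spec (CommRingCat.of k)) ⊤ J ψ)
    (ψB : (ModFun.PicDeg (pullback.snd (C ↘ Spec (CommRingCat.of k)) t) 0).Hom ⊤ (Red.bc t J))
    (hψB : ∀ (T : Over (Spec (CommRingCat.of k'))) (L : (PicF.XT (pullback.snd (C ↘ Spec (CommRingCat.of k)) t) T).Modules)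
      (hL : (ModFun.PicDeg (pullback.snd (C ↘ Spec (CommRingCat.of k)) t) 0).ok T L),
      toDn t (ψB.app T L trivial hL) = ψ.app (dn t T) _ trivial (ok_bcXTIso hdim hf t 0 hL)) :
    GeometricallyConnected (Red.bc t J).hom ∧
    ∃ cB : IsoCls (PicF.XT (pullback.snd (C ↘ Spec (CommRingCat.of k)) t) (Red.bc t J)),
      IsRigJac σ hσ (Red.bc t J) cB ∧
      ∀ (T : Over (Spec (CommRingCat.of k'))) (L : (PicF.XT (pullback.snd (C ↘ Spec (CommRingCat.of k)) t) T).Modules)
        (hL : (ModFun.PicDeg (pullback.snd (C ↘ Spec (CommRingCat.of k)) t) 0).ok T L),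
        ∃ n : IsoCls T.left, InvC n ∧
          pull (PicF.XTmap (pullback.snd (C ↘ Spec (CommRingCat.of k)) t) (ψB.app T L trivial hL)) cB =
            cl L * pull (PicF.XTproj (pullback.snd (C ↘ Spec (CommRingCat.of k)) t) T) n := by
  let f := C ↘ Spec (CommRingCat.of k)
  let f' := pullback.snd f t
  letI : (pullback f t).Over (Spec (CommRingCat.of k')) := ⟨f'⟩
  have hf' : Fam ((pullback f t) ↘ Spec (CommRingCat.of k')) := fam_snd hf t
  haveI := hf'.proper; haveI := hf'.smooth; haveI := hf'.conn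
  haveI : IsProper f' := hf'.proper
  haveI : Smooth f' := hf'.smooth
  haveI : GeometricallyConnected f' := hf'.conn
  obtain ⟨ξ₀, q, hξ₀, hpb, hq⟩ := exists_picDeg hdim hf 0 t ht hc (M := J) (φ := ψ) hJ.coarse
  obtain ⟨ξ, hξ, hz, hr⟩ := exists_univ_rigZero (k := k') (C := pullback f t) hf' (σ := σ) (hσ := hσ) (J := J') hξ₀
  -- the comparison with the base change
  let e : J' ⟶ Red.bc t J := ψB.app J' ξ trivial hξ.1
  have hdnq : toDn t e = q := by
    rw [show toDn t e = _ from hψB J' ξ hξ.1, ← hq (ok_bcXTIso hdim hf t 0 hξ₀.1)]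
    refine ψ.resp _ _ trivial _ _ ((r_iff hf _ _ _).2 ?_)
    obtain ⟨n, hn, en⟩ := (r_iff hf' J' ξ ξ₀).1 (r_symm hf' J' hr)
    refine ⟨n, hn, ?_⟩
    rw [← pull_cl, ← pull_cl, en, map_mul]
    refine congrArg (_ * ·) ((pull_comp _ _ _).trans (congrArg (fun m => pull m n) ?_))
    exact (Iso.inv_comp_eq _).2 (pullbackLeftPullbackSndIso_hom_snd f t J'.hom).symm
  haveI : IsIso e.left := by
    have h : e.left = hpb.isoPullback.hom := by
      refine pullback.hom_ext ?_ ((Over.w e).trans hpb.isoPullback_hom_snd.symm)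
      exact (congrArg CommaMorphism.left hdnq).trans hpb.isoPullback_hom_fst.symm
    rw [h]; infer_instance
  haveI : IsIso e := by
    haveI : IsIso ((Over.forget _).map e) := ‹IsIso e.left›
    exact isIso_of_reflects_iso e (Over.forget _)
  have hgc : GeometricallyConnected (Red.bc t J).hom := by
    have h : (Red.bc t J).hom = inv e.left ≫ J'.hom := by rw [IsIso.eq_inv_comp]; exact Over.w e
    rw [h]
    exact (MorphismProperty.cancel_left_of_respectsIso (P := @GeometricallyConnected) (inv e.left) J'.hom).2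
      ‹GeometricallyConnected J'.hom›
  have app_eq : ∀ (T : Over (Spec (CommRingCat.of k'))) (L : (PicF.XT f' T).Modules)
      (hL : (ModFun.PicDeg f' 0).ok T L) (a : T ⟶ J'), (ModFun.PicDeg f' 0).r T ((ModFun.PicDeg f' 0).pull a ξ) L →
      ψB.app T L trivial hL = a ≫ e := by
    intro T L hL a ha
    rw [← ψB.resp _ _ trivial (ok_pull hf' a ξ hξ.1) hL ha]
    exact ψB.natural a ξ trivial trivial hξ.1 (ok_pull hf' a ξ hξ.1)
  have cls : ∀ (T : Over (Spec (CommRingCat.of k'))) (a : T ⟶ J'),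
      pull (PicF.XTmap f' a) (cl ξ) = pull (PicF.XTmap f' (a ≫ e)) (pull (PicF.XTmap f' (inv e)) (cl ξ)) := by
    intro T a
    rw [pull_comp, DescAppLib.XTmap_comp, Category.assoc, IsIso.hom_inv_id, Category.comp_id]
  let cB := pull (PicF.XTmap f' (inv e)) (cl ξ)
  -- the point of a rigidified class
  have pt : ∀ (T : Over (Spec (CommRingCat.of k'))) (L : (PicF.XT f' T).Modules)
      (hL : (ModFun.PicDeg f' 0).ok T L), RigZero σ hσ T (cl L) →
      pull (PicF.XTmap f' (ψB.app T L trivial hL)) cB = cl L := by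
    intro T L hL hzL
    obtain ⟨a, ha, -⟩ := hξ.2 T L trivial hL
    rw [app_eq T L hL a ha, ← cls]
    obtain ⟨n, -, en⟩ := (r_iff hf' T _ _).1 ha
    refine eq_of_twist hf' (rigZero_pull hf' σ hσ a hz) hzL (n := n) (en.trans ?_)
    rw [pull_cl]
    rfl
  have rig : ∀ (T : Over (Spec (CommRingCat.of k'))) (g : T ⟶ Red.bc t J),
      RigZero σ hσ T (pull (PicF.XTmap f' g) cB) := by
    intro T g
    rw [pull_comp, DescAppLib.XTmap_comp]
    exact rigZero_pull hf' σ hσ _ hz
  have inj : ∀ (T : Over (Spec (CommRingCat.of k'))) (g : T ⟶ Red.bc t J) (L : (PicF.XT f' T).Modules)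
      (hL : (ModFun.PicDeg f' 0).ok T L), pull (PicF.XTmap f' g) cB = cl L → g = ψB.app T L trivial hL := by
    intro T g L hL hg
    rw [app_eq T L hL (g ≫ inv e) ((r_iff hf' T _ _).2 ⟨1, ⟨_, CurvLib.isInvertible_structureModule, rfl⟩, ?_⟩),
      Category.assoc, IsIso.inv_hom_id, Category.comp_id]
    rw [map_one, _root_.mul_one]
    show cl L = cl ((Scheme.Modules.pullback (PicF.XTmap f' (g ≫ inv e))).obj ξ)
    rw [← pull_cl, cls, Category.assoc, IsIso.inv_hom_id, Category.comp_id]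
    exact hg.symm
  refine ⟨hgc, cB, ⟨?_, fun T d hd => ?_, fun T g h => ?_⟩, fun T L hL => ?_⟩
  · have h := rig (Red.bc t J) (𝟙 _)
    rwa [XTmap_id, DescAppLib.pull_id] at h
  · obtain ⟨L, hL, rfl, dL⟩ := hd.rep
    have hok : (ModFun.PicDeg f' 0).ok T L := (ok_iff hf' 0 T L).2 ⟨hL, dL⟩
    exact ⟨_, pt T L hok hd, fun g hg => inj T g L hok hg⟩
  · obtain ⟨L, hL, eL, dL⟩ := (rig T g).rep
    obtain ⟨M, hM, eM, dM⟩ := (rig T h).rep
    have hokL : (ModFun.PicDeg f' 0).ok T L := (ok_iff hf' 0 T L).2 ⟨hL, dL⟩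
    have hokM : (ModFun.PicDeg f' 0).ok T M := (ok_iff hf' 0 T M).2 ⟨hM, dM⟩
    let N := CohB1.tensorMod L M
    have hokN : (ModFun.PicDeg f' 0).ok T N :=
      (ok_iff hf' 0 T N).2 ⟨HilbPolyLib.isInvertible_tensor hL hM, fun z =>
        (deg_tensor hf' T hL hM z).trans ((congrArg₂ (· + ·) (dL z) (dM z)).trans (add_zero 0))⟩
    have hzN : RigZero σ hσ T (cl N) := by
      refine ⟨⟨N, ((ok_iff hf' 0 T N).1 hokN).1, rfl, ((ok_iff hf' 0 T N).1 hokN).2⟩, ?_⟩
      rw [cl_tensor, map_mul, eL, eM, (rig T g).rig, (rig T h).rig, _root_.mul_one]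
    have hgh : g * h = ψB.app T N trivial hokN := by
      refine toDn_injective t ?_
      rw [toDn_mul, inj T g L hokL eL.symm, inj T h M hokM eM.symm, hψB, hψB, hψB]
      refine (hJ.mul (dn t T) trivial _ _ _ _ _ _ (cl_eq_iff.1 ?_)).symm
      rw [cl_tensor, ← pull_cl, ← pull_cl, ← pull_cl, cl_tensor, map_mul]
    rw [hgh, pt T N hokN hzN, cl_tensor, eL, eM]
  · obtain ⟨L', hok', hz', D, hD, eD⟩ := exists_norm hf' (σ := σ) (hσ := hσ) T L hL
    refine ⟨cl D, ⟨D, hD, rfl⟩, ?_⟩
    rw [ψB.resp L L' trivial hL hok' (r_of_twist hf' hD eD), pt T L' hok' hz', eD]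
    rfl

end JacAlbLib

end
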