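import Groth.Agent.JacAlbLib.Twist
import Groth.Agent.JacAlbLib.Albanese

/-!
# Surjectivity of the sum map to the degree-`n` Picard scheme
-/

set_option autoImplicit false
set_option linter.style.haveILetI false
set_option linter.unusedSectionVars false
set_option backward.isDefEq.respectTransparency false
set_option backward.isDefEq.respectTransparency.types false
set_option maxRecDepth 8000
set_option maxHeartbeats 1000000

universe u

open CategoryTheory CategoryTheory.Limits AlgebraicGeometry TopologicalSpace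
open CubeConsLib (pull pull_comp pull_cl cl cl_eq_iff cl_tensor IsoCls)
open EllLawLib (idCls)
open PicCurveLib SymProd

noncomputable section

namespace JacAlbLib

variable {k : Type u} [Field k] {X : Scheme.{u}} [X.Over (Spec (CommRingCat.of k))]
  [IsProper (X ↘ Spec (CommRingCat.of k))] [Smooth (X ↘ Spec (CommRingCat.of k))]
  [GeometricallyConnected (X ↘ Spec (CommRingCat.of k))]
  (hf : Fam (X ↘ Spec (CommRingCat.of k)))
include hf

/-- Over a geometric point, a class of large degree comes from a tuple of points. -/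
theorem exists_tuple {n : ℕ} (hgn : Curv2.genus k X ≤ n) {Ω : Type u} [Field Ω] [IsAlgClosed Ω]
    (t : Spec (CommRingCat.of Ω) ⟶ Spec (CommRingCat.of k))
    {L : (PicF.XT (X ↘ Spec (CommRingCat.of k)) (Over.mk t)).Modules}
    (hL : (ModFun.PicDeg (X ↘ Spec (CommRingCat.of k)) (n : ℤ)).ok (Over.mk t) L) :
    ∃ v : Over.mk t ⟶ Over.mk (HilbPts.SC.fb (X ↘ Spec (CommRingCat.of k)) n),
      cl L * ∏ i, pull (PicF.XTmap (X ↘ Spec (CommRingCat.of k)) v) (pc (xi i)) = 1 := by
  let Z := PicF.XT (X ↘ Spec (CommRingCat.of k)) (Over.mk t)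
  letI : Z.Over (Spec (CommRingCat.of Ω)) := ⟨PicF.XTproj (X ↘ Spec (CommRingCat.of k)) (Over.mk t)⟩
  have hZ : Fam (Z ↘ Spec (CommRingCat.of Ω)) := fam_snd hf t
  haveI := hZ.proper; haveI := hZ.smooth; haveI := hZ.conn
  have hdZ : topologicalKrullDim ↥Z = 1 := dim_total hZ
  have hdX : topologicalKrullDim ↥X = 1 := dim_total_field hf
  obtain ⟨hLi, hd⟩ := (ok_iff hf n (Over.mk t) L).1 hL
  have H : IsPullback (𝟙 Z) (Z ↘ Spec (CommRingCat.of Ω)) (PicF.XTproj (X ↘ Spec (CommRingCat.of k)) (Over.mk t)) (𝟙 _) :=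
    IsPullback.of_horiz_isIso ⟨(Category.id_comp _).trans (Category.comp_id _).symm⟩
  have hdeg : Curv2.deg Ω Z L 1 = n := by
    have h := PicCurveLib.deg_point (X ↘ Spec (CommRingCat.of k)) hf.dim_le (Over.mk t) hLi (K := Ω) (Z := Z) (g' := 𝟙 Z)
      (v := 𝟙 _) H (IsLocalRing.closedPoint Ω)
    rw [hd, chi_eq_euler hZ, chi_eq_euler hZ, CurvLib.euler_congr (k := Ω) ((Scheme.Modules.pullbackId Z).app L)] at h
    rw [Curv2.deg, Nat.cast_one, one_mul]
    exact h
  have hgen : Curv2.genus Ω Z = Curv2.genus k X := by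
    have hO := CurvLib.isInvertible_structureModule (X := X)
    have e1 := PicCurveLib.chi_point (X ↘ Spec (CommRingCat.of k)) hf.dim_le hO (K := Ω) (Z := Z)
      (g' := pullback.fst _ _) (v := t) (IsPullback.of_hasPullback _ t) (IsLocalRing.closedPoint Ω)
    have e2 := PicCurveLib.chi_point (X ↘ Spec (CommRingCat.of k)) hf.dim_le hO (K := k) (Z := X)
      (g' := 𝟙 X) (v := 𝟙 _) (IsPullback.of_horiz_isIso ⟨(Category.id_comp _).trans (Category.comp_id _).symm⟩)
      (t (IsLocalRing.closedPoint Ω))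
    have e := e1.trans e2.symm
    rw [chi_eq_euler hZ, chi_eq_euler hf, CurvLib.euler_congr (k := Ω) (KFlatLib.pullUnitIso _),
      CurvLib.euler_congr (k := k) (KFlatLib.pullUnitIso _)] at e
    haveI := FibVALib.geometricallyIntegral_of_geometricallyConnected (Z ↘ Spec (CommRingCat.of Ω))
    haveI := FibVALib.geometricallyIntegral_of_geometricallyConnected (X ↘ Spec (CommRingCat.of k))
    haveI : IsIntegral Z := GeometricallyIntegral.isIntegral_of_subsingleton (Z ↘ Spec (CommRingCat.of Ω))
    haveI : IsIntegral X := GeometricallyIntegral.isIntegral_of_subsingleton (X ↘ Spec (CommRingCat.of k))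
    rw [CurvLib.euler_curve (k := Ω) hdZ, CurvLib.euler_curve (k := k) hdX, h0_structure hZ, h0_structure hf] at e
    rw [Curv2.genus, Curv2.genus]
    omega
  have hr := rr (k := Ω) hdZ L
  obtain ⟨x, hx, ex⟩ := exists_points_of_h0 (k := Ω) hdZ n hLi hdeg (by omega)
  let p := fun i => x i ≫ pullback.fst (X ↘ Spec (CommRingCat.of k)) t
  have hp : ∀ i, p i ≫ (X ↘ Spec (CommRingCat.of k)) = t := fun i => by
    simp only [p, Category.assoc, pullback.condition]
    rw [← Category.assoc]
    erw [hx i, Category.id_comp]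
  let v : Over.mk t ⟶ Over.mk (HilbPts.SC.fb (X ↘ Spec (CommRingCat.of k)) n) :=
    Over.homMk (WidePullback.lift t p hp) (WidePullback.lift_base _ _ _ _)
  refine ⟨v, Eq.trans ?_ ex⟩
  congr 1
  refine Finset.prod_congr rfl fun i _ => ?_
  rw [pull_pc hf]
  have hv : (v ≫ xi i).left = x i ≫ pullback.fst (X ↘ Spec (CommRingCat.of k)) t :=
    WidePullback.lift_π (fun _ : Fin n => (X ↘ Spec (CommRingCat.of k))) t p hp i
  refine congrArg (fun z : Spec (CommRingCat.of Ω) ⟶ Z => idCls z.ker) ?_
  apply pullback.hom_ext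
  · erw [HilbPts.SC.secF_fst]
    exact hv
  · erw [HilbPts.SC.secF_snd]
    exact (hx i).symm

end JacAlbLib

end
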