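import Groth.Agent.JacAlbLib.ThetaUniv
import Groth.Agent.JacAlbLib.Surj
import Groth.Agent.JacAlbLib.GeomPoints

/-!
# The theta locus of a bundle of degree `g - 1` is a translate of `W^(g-1)`
-/

set_option autoImplicit false
set_option linter.style.haveILetI false
set_option linter.unusedSectionVars false
set_option backward.isDefEq.respectTransparency false
set_option backward.isDefEq.respectTransparency.types false
set_option maxRecDepth 8000
set_option maxHeartbeats 1000000

universe u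

open CategoryTheory CategoryTheory.Limits AlgebraicGeometry TopologicalSpace MonoidalCategory CartesianMonoidalCategory
open CubeConsLib (pull pull_comp pull_cl cl cl_eq_iff cl_tensor IsoCls)
open EllLawLib (idCls)
open PicCurveLib SymProd
open scoped MonObj

noncomputable section

namespace JacAlbLib

variable {k : Type u} [Field k] {C : Scheme.{u}} [C.Over (Spec (CommRingCat.of k))]
  [IsProper (C ↘ Spec (CommRingCat.of k))] [Smooth (C ↘ Spec (CommRingCat.of k))]
  [GeometricallyConnected (C ↘ Spec (CommRingCat.of k))] (hdim : topologicalKrullDim ↥C = 1)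
  (hf : Fam (C ↘ Spec (CommRingCat.of k)))
include hdim hf

/-- Over a geometric point, sections of a bundle of degree `n` correspond to tuples of points. -/
theorem hasSection_iff_tuple {n : ℕ} {Ω : Type u} [Field Ω] [IsAlgClosed Ω]
    (s : Spec (CommRingCat.of Ω) ⟶ Spec (CommRingCat.of k))
    {M : (PicF.XT (C ↘ Spec (CommRingCat.of k)) (Over.mk s)).Modules} (hM : PicF.IsInvertible M)
    (hd : ∀ t, deg (C ↘ Spec (CommRingCat.of k)) (Over.mk s) M t = n) :
    (¬ Subsingleton (Coh.HH (PicF.XT (C ↘ Spec (CommRingCat.of k)) (Over.mk s)) M 0)) ↔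
      ∃ v : Fin n → (Over.mk s ⟶ Over.mk (C ↘ Spec (CommRingCat.of k))), cl M * ∏ i, pc (v i) = 1 := by
  let Z := PicF.XT (C ↘ Spec (CommRingCat.of k)) (Over.mk s)
  letI : Z.Over (Spec (CommRingCat.of Ω)) := ⟨PicF.XTproj (C ↘ Spec (CommRingCat.of k)) (Over.mk s)⟩
  have hZ : Fam (Z ↘ Spec (CommRingCat.of Ω)) := fam_snd hf s
  haveI := hZ.proper; haveI := hZ.smooth; haveI := hZ.conn
  have hdZ : topologicalKrullDim ↥Z = 1 := dim_total hZ
  have H : IsPullback (𝟙 Z) (Z ↘ Spec (CommRingCat.of Ω)) (PicF.XTproj (C ↘ Spec (CommRingCat.of k)) (Over.mk s)) (𝟙 _) :=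
    IsPullback.of_horiz_isIso ⟨(Category.id_comp _).trans (Category.comp_id _).symm⟩
  have hdeg : Curv2.deg Ω Z M 1 = n := by
    have h := PicCurveLib.deg_point (C ↘ Spec (CommRingCat.of k)) hf.dim_le (Over.mk s) hM (K := Ω) (Z := Z) (g' := 𝟙 Z)
      (v := 𝟙 _) H (IsLocalRing.closedPoint Ω)
    rw [hd, chi_eq_euler hZ, chi_eq_euler hZ, CurvLib.euler_congr (k := Ω) ((Scheme.Modules.pullbackId Z).app M)] at h
    rw [Curv2.deg, Nat.cast_one, one_mul]
    exact h
  haveI := CurvLib.finite_HH (k := Ω) (CurvLib.isCoh_of_isInvertible hM) 0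
  have hns : (¬ Subsingleton (Coh.HH Z M 0)) ↔ 1 ≤ Module.finrank Ω (Coh.HH Z M 0) := by
    rw [not_subsingleton_iff_nontrivial, Nat.one_le_iff_ne_zero, ← Nat.pos_iff_ne_zero, Module.finrank_pos_iff]
  rw [hns]
  have hsec : ∀ (x : Spec (CommRingCat.of Ω) ⟶ Z) (hx : x ≫ (Z ↘ Spec (CommRingCat.of Ω)) = 𝟙 _)
      (v : Over.mk s ⟶ Over.mk (C ↘ Spec (CommRingCat.of k))),
      v.left = x ≫ pullback.fst (C ↘ Spec (CommRingCat.of k)) s → pc v = idCls x.ker := by
    intro x hx v hv
    refine congrArg (fun z : Spec (CommRingCat.of Ω) ⟶ Z => idCls z.ker) ?_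
    apply pullback.hom_ext
    · erw [HilbPts.SC.secF_fst]
      exact hv
    · erw [HilbPts.SC.secF_snd]
      exact hx.symm
  constructor
  · intro h
    obtain ⟨x, hx, ex⟩ := exists_points_of_h0 (k := Ω) hdZ n hM hdeg h
    refine ⟨fun i => Over.homMk (x i ≫ pullback.fst (C ↘ Spec (CommRingCat.of k)) s) ?_, Eq.trans ?_ ex⟩
    · show (x i ≫ pullback.fst (C ↘ Spec (CommRingCat.of k)) s) ≫ (C ↘ Spec (CommRingCat.of k)) = s
      rw [Category.assoc, pullback.condition, ← Category.assoc]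
      erw [hx i, Category.id_comp]
    · exact congrArg (cl M * ·) (Finset.prod_congr rfl fun i _ => hsec (x i) (hx i) _ rfl)
  · rintro ⟨v, ev⟩
    let x : Fin n → (Spec (CommRingCat.of Ω) ⟶ Z) := fun i =>
      HilbPts.SC.secF (C ↘ Spec (CommRingCat.of k)) (v i).left (Over.w (v i))
    exact one_le_h0_of_points (k := Ω) hdZ x (fun i => HilbPts.SC.secF_snd _ _ _) hM ev

variable {σ : Spec (CommRingCat.of k) ⟶ C} {hσ : σ ≫ (C ↘ Spec (CommRingCat.of k)) = 𝟙 _}
  {J : Over (Spec (CommRingCat.of k))} [GrpObj J]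
  {c : IsoCls (PicF.XT (C ↘ Spec (CommRingCat.of k)) J)} (hc : IsRigJac σ hσ J c)
include hc

/-- Classes of degree zero are classes of points. -/
theorem exists_tcl_eq {M : C.Modules} (hM : PicF.IsInvertible M) (hd : Curv2.deg k C M 1 = 0) :
    ∃ t : 𝟙_ (Over (Spec (CommRingCat.of k))) ⟶ J, tcl c t = cl M := by
  let T₀ : Over (Spec (CommRingCat.of k)) := 𝟙_ _
  let L := (Scheme.Modules.pullback (pullback.fst (C ↘ Spec (CommRingCat.of k)) T₀.hom)).obj M
  have hL : PicF.IsInvertible L := AmpleDevLib.isInvertible_pb _ hM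
  have eL : pull (toXT₀ (k := k) (C := C)) (cl L) = cl M := by
    rw [← pull_cl, pull_comp, toXT₀_fst, DescAppLib.pull_id]
  have dL : ∀ t, deg (C ↘ Spec (CommRingCat.of k)) T₀ L t = 0 := fun t => by
    have h := PicCurveLib.deg_point (C ↘ Spec (CommRingCat.of k)) hf.dim_le T₀ hL (K := k) (Z := C) (g' := toXT₀)
      (v := 𝟙 _) (isPullback_toXT₀ (k := k) (C := C)) (IsLocalRing.closedPoint k)
    rw [chi_eq_euler hf, chi_eq_euler hf, CurvLib.euler_congr (k := k) (cl_eq_iff.1 ((pull_cl _ _).symm.trans eL)).some] at h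
    rw [show t = (𝟙 (Spec (CommRingCat.of k)) : _ ⟶ _) (IsLocalRing.closedPoint k) from
      Subsingleton.elim (α := PrimeSpectrum k) _ _]
    exact h.symm.trans ((one_mul _).symm.trans (by simpa [Curv2.deg] using hd))
  have hz : RigZero σ hσ T₀ (cl L) := ⟨⟨L, hL, rfl, dL⟩, invC_spec (InvC.pull ⟨L, hL, rfl⟩ _)⟩
  obtain ⟨t, ht, -⟩ := hc.bij T₀ _ hz
  exact ⟨t, (congrArg _ ht).trans eL⟩

variable [IsProper J.hom] [Smooth J.hom] [GeometricallyIntegral J.hom] [IsCommMonObj J]
  {j : Over.mk (C ↘ Spec (CommRingCat.of k)) ⟶ J} (hj : IsAbel σ hσ c j)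
  {ψ : (ModFun.PicDeg (C ↘ Spec (CommRingCat.of k)) 0).Hom ⊤ J}
  (hψ : ∀ (T : Over (Spec (CommRingCat.of k))) (L : (PicF.XT (C ↘ Spec (CommRingCat.of k)) T).Modules)
    (hL : (ModFun.PicDeg (C ↘ Spec (CommRingCat.of k)) 0).ok T L),
    ∃ n : IsoCls T.left, InvC n ∧ pull (PicF.XTmap (C ↘ Spec (CommRingCat.of k)) (ψ.app T L trivial hL)) c =
      cl L * pull (PicF.XTproj (C ↘ Spec (CommRingCat.of k)) T) n)
include hc hj hψ

/-- **The theta locus is a translate of `W^(g-1)`.** -/
theorem exists_thetaLocus_eq {n : ℕ} (hn : n + 1 = Curv2.genus k C) {N : C.Modules} (hN : PicF.IsInvertible N)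
    (hNdeg : Curv2.deg k C N 1 = (n : ℤ)) :
    ∃ a : 𝟙_ (Over (Spec (CommRingCat.of k))) ⟶ J,
      Jac.thetaLocus (C ↘ Spec (CommRingCat.of k)) 0 ψ N = (Jac.transl J a).left.base '' WSet j n := by
  let f := C ↘ Spec (CommRingCat.of k)
  let T₀ : Over (Spec (CommRingCat.of k)) := 𝟙_ _
  -- the point of the bundle
  obtain ⟨Q, hQ, eQ⟩ : ∃ Q : C.Modules, PicF.IsInvertible Q ∧ cl Q = cl N * idCls σ.ker ^ n := by
    obtain ⟨Q, hQ, eQ⟩ := InvC.mul ⟨N, hN, rfl⟩ (invC_sigma_pow (k := k) hdim hσ n)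
    exact ⟨Q, hQ, eQ⟩
  have dQ : Curv2.deg k C Q 1 = 0 := by
    have h : ∀ (r : ℕ) (Q : C.Modules), PicF.IsInvertible Q → cl Q = cl N * idCls σ.ker ^ r →
        Curv2.deg k C Q 1 + r = Curv2.deg k C N 1 := by
      intro r
      induction r with
      | zero => intro Q _ e; rw [pow_zero, _root_.mul_one] at e; rw [deg_congr' (k := k) e, Nat.cast_zero, add_zero]
      | succ r ih =>
        intro Q hQ e
        obtain ⟨Q', hQ', eQ'⟩ := exists_div hQ (invC_point hdim σ hσ)
        have h1 := deg_add_point (k := k) hdim σ hσ hQ' eQ'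
        have h2 := ih Q' hQ' ((invC_point hdim σ hσ).isUnit.mul_right_cancel
          (by rw [eQ', e, pow_succ, _root_.mul_assoc]))
        push_cast
        omega
    have := h n Q hQ eQ
    omega
  obtain ⟨ν, hν0⟩ := exists_tcl_eq hdim hf hc hQ dQ
  -- the class of the point over a test scheme
  have hν : ∀ T : Over (Spec (CommRingCat.of k)), ∃ m : IsoCls T.left, InvC m ∧
      pull (PicF.XTmap f (toUnit T ≫ ν)) c =
        pull (pullback.fst f T.hom) (cl N) * pc (base σ hσ T) ^ n * pull (PicF.XTproj f T) m := by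
    intro T
    refine ⟨1, ⟨_, CurvLib.isInvertible_structureModule, rfl⟩, ?_⟩
    haveI : IsIso (toXT₀ (k := k) (C := C)) := (isPullback_toXT₀ (k := k) (C := C)).isIso_fst_of_isIso
    have hfst : inv (toXT₀ (k := k) (C := C)) = pullback.fst f T₀.hom :=
      (IsIso.eq_inv_of_hom_inv_id toXT₀_fst).symm
    have e0 : pull (PicF.XTmap f ν) c = pull (pullback.fst f T₀.hom) (cl Q) := by
      rw [← hν0, tcl, ← hfst, pull_comp, IsIso.inv_hom_id, DescAppLib.pull_id]
    rw [map_one, _root_.mul_one, ← DescAppLib.XTmap_comp, ← pull_comp, e0, pull_comp,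
      DescAppLib.XTmap_fst f (toUnit T), eQ, map_mul, map_pow, pc_base_eq (σ := σ) (hσ := hσ) hdim hf T]
  -- points of the jump locus over geometric points
  have key : ∀ (Ω : Type u) [Field Ω] [IsAlgClosed Ω] (s : Spec (CommRingCat.of Ω) ⟶ Spec (CommRingCat.of k))
      (L : (PicF.XT f (Over.mk s)).Modules) (hL : PicF.IsInvertible L) (_hLd : ∀ t, deg f (Over.mk s) L t = 0)
      (g : Over.mk s ⟶ J) (_hg : pull (PicF.XTmap f g) c = cl L),
      (¬ Subsingleton (Coh.HH (PicF.XT f (Over.mk s))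
        (CohB1.tensorMod L ((Scheme.Modules.pullback (pullback.fst f s)).obj N)) 0)) ↔
        ∃ v : Fin n → (Over.mk s ⟶ Over.mk f), g * (toUnit (Over.mk s) ≫ ν) = ∏ i, v i ≫ j := by
    intro Ω _ _ s L hL hLd g hg
    let NT := (Scheme.Modules.pullback (pullback.fst f s)).obj N
    have hNT : PicF.IsInvertible NT := AmpleDevLib.isInvertible_pb _ hN
    have hNd : ∀ t, deg f (Over.mk s) NT t = n := by
      intro t
      let N0 := (Scheme.Modules.pullback (pullback.fst f T₀.hom)).obj N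
      have hN0 : PicF.IsInvertible N0 := AmpleDevLib.isInvertible_pb _ hN
      have e1 : cl NT = cl ((Scheme.Modules.pullback (PicF.XTmap f (toUnit (Over.mk s)))).obj N0) := by
        rw [← pull_cl, ← pull_cl, ← pull_cl, pull_comp]
        exact congrArg (fun m => pull m (cl N)) (DescAppLib.XTmap_fst f (toUnit (Over.mk s))).symm
      rw [PicCurveLib.deg_congr f hf.dim_le (Over.mk s) e1 t, deg_map f hf.dim_le _ hN0 t,
        show (toUnit (Over.mk s)).left t = (𝟙 (Spec (CommRingCat.of k)) : _ ⟶ _) (IsLocalRing.closedPoint k) from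
          Subsingleton.elim (α := PrimeSpectrum k) _ _]
      have h := PicCurveLib.deg_point f hf.dim_le T₀ hN0 (K := k) (Z := C) (g' := toXT₀) (v := 𝟙 _)
        (isPullback_toXT₀ (k := k) (C := C)) (IsLocalRing.closedPoint k)
      rw [chi_eq_euler hf, chi_eq_euler hf, CurvLib.euler_congr (k := k)
        (cl_eq_iff.1 (show cl ((Scheme.Modules.pullback (toXT₀ (k := k) (C := C))).obj N0) = cl N by
          rw [← pull_cl, ← pull_cl, pull_comp, toXT₀_fst, DescAppLib.pull_id])).some] at h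
      exact h.symm.trans (by rw [← hNdeg, Curv2.deg, Nat.cast_one, one_mul])
    let M := CohB1.tensorMod L NT
    have hMd : ∀ t, deg f (Over.mk s) M t = n := fun t => by
      rw [deg_tensor hf (Over.mk s) hL hNT t, hLd, hNd, zero_add]
    rw [hasSection_iff_tuple hdim hf s (HilbPolyLib.isInvertible_tensor hL hNT) hMd]
    obtain ⟨m, hm, eν⟩ := hν (Over.mk s)
    rw [show m = 1 from invC_spec (k := Ω) hm, map_one, _root_.mul_one] at eν
    have eM : cl M = cl L * pull (pullback.fst f (Over.mk s).hom) (cl N) := cl_tensor _ _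
    have eg : pull (PicF.XTmap f (g * (toUnit (Over.mk s) ≫ ν))) c = cl M * pc (base σ hσ (Over.mk s)) ^ n := by
      rw [hc.mul, hg, eν, eM, _root_.mul_assoc]
    have hv : ∀ v : Fin n → (Over.mk s ⟶ Over.mk f),
        pull (PicF.XTmap f (∏ i, v i ≫ j)) c * ∏ i, pc (v i) = pc (base σ hσ (Over.mk s)) ^ n := fun v => by
      obtain ⟨m, hm, e⟩ := pull_prod_abel hf hc hj (Over.mk s) Finset.univ v
      rw [show m = 1 from invC_spec (k := Ω) hm, map_one, _root_.mul_one, Finset.card_univ, Fintype.card_fin] at e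
      exact e
    have hP0 : IsUnit (pc (base σ hσ (Over.mk s)) ^ n) := (invC_pc hf (base σ hσ (Over.mk s))).isUnit.pow n
    constructor
    · rintro ⟨v, ev⟩
      refine ⟨v, hom_ext hf hc ((invC_prod_pc hf Finset.univ v).isUnit.mul_right_cancel ?_)⟩
      rw [hv, eg, _root_.mul_assoc, _root_.mul_comm (pc _ ^ n), ← _root_.mul_assoc, ev, _root_.one_mul]
    · rintro ⟨v, ev⟩
      refine ⟨v, hP0.mul_right_cancel ?_⟩
      rw [_root_.one_mul]
      conv_rhs => rw [← hv v, ← ev, eg]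
      ac_rfl
  let K := AlgebraicClosure k
  let s₀ : Spec (CommRingCat.of K) ⟶ Spec (CommRingCat.of k) := Spec.map (CommRingCat.ofHom (algebraMap k K))
  refine ⟨ν⁻¹, ?_⟩
  have hcl : IsClosed ((Jac.transl J ν⁻¹).left.base '' WSet j n) := isClosed_transl _ (isClosed_WSet j n)
  refine Set.Subset.antisymm (closure_minimal ?_ hcl) (subset_of_gpt s₀ hcl isClosed_closure fun t ht => subset_closure ?_)
  · rintro p ⟨Ω, _, _, s, hP, L, hLok, hQ, q, rfl⟩
    obtain ⟨hL, hLd⟩ := (ok_iff hf 0 (Over.mk s) L).1 hLok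
    obtain ⟨m, hm, e⟩ := hψ (Over.mk s) L hLok
    rw [show m = 1 from invC_spec (k := Ω) hm, map_one, _root_.mul_one] at e
    obtain ⟨v, ev⟩ := (key Ω s L hL hLd _ e).1 hQ
    let z : Over.mk s ⟶ Over.mk (WidePullback.base fun (_ : Fin n) => f) :=
      Over.homMk (WidePullback.lift s (fun i => (v i).left) fun i => Over.w (v i)) (WidePullback.lift_base _ _ _ _)
    have hz : ψ.app (Over.mk s) L trivial hLok = z ≫ Wmap j n ≫ Jac.transl J ν⁻¹ := by
      rw [eq_mul_inv_of_mul_eq ev, Jac.transl, ← Category.assoc z, MonObj.comp_mul, Category.comp_id, ← Category.assoc,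
        toUnit_unique (_ ≫ toUnit J) (toUnit _), GrpObj.comp_inv]
      congr 1
      rw [Wmap, List.prod_ofFn, comp_prod]
      refine Finset.prod_congr rfl fun i _ => ?_
      rw [← Category.assoc]
      refine congrArg (· ≫ j) (Over.OverMorphism.ext ?_)
      rw [Over.comp_left]
      exact (WidePullback.lift_π (fun (_ : Fin n) => f) s (fun i => (v i).left) (fun i => Over.w (v i)) i).symm
    refine ⟨(Wmap j n).left (z.left q), ⟨_, rfl⟩, ?_⟩
    exact (congrArg (fun w : Over.mk s ⟶ J => w.left q) hz).symm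
  · haveI := hf.proper
    rw [gpt_mem_transl, GrpObj.comp_inv, inv_inv, gpt_mem_WSet_iff] at ht
    obtain ⟨v, ev⟩ := ht
    obtain ⟨L, hL, eL, dL⟩ := (rigZero_pull hf σ hσ t hc.rigZero).rep
    have hLok : (ModFun.PicDeg f 0).ok (Over.mk s₀) L := (ok_iff hf 0 _ L).2 ⟨hL, dL⟩
    refine ⟨K, inferInstance, inferInstance, s₀, trivial, L, hLok, (key K s₀ L hL dL t eL.symm).2 ⟨v, ev⟩,
      IsLocalRing.closedPoint K, ?_⟩
    obtain ⟨m, hm, e⟩ := hψ (Over.mk s₀) L hLok
    rw [show m = 1 from invC_spec (k := K) hm, map_one, _root_.mul_one, eL] at e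
    exact congrArg (gpt s₀) (hom_ext hf hc e)

end JacAlbLib

end
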