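import Groth.Agent.JacAlbLib.ThetaDescent
import Groth.Agent.JacAlbLib.ThetaLocus

/-!
# The Picard scheme of given degree over a cover with a rational point
-/

set_option autoImplicit false
set_option linter.style.haveILetI false
set_option linter.unusedSectionVars false
set_option backward.isDefEq.respectTransparency false
set_option backward.isDefEq.respectTransparency.types false
set_option maxRecDepth 8000
set_option maxHeartbeats 1000000

universe u

open CategoryTheory CategoryTheory.Limits AlgebraicGeometry MonoidalCategory CartesianMonoidalCategory TopologicalSpace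
open CubeConsLib (pull pull_comp pull_cl cl cl_eq_iff cl_tensor IsoCls)
open AVIndexLib (dn dnMap toDn toDn_injective toDn_comp)
open EllLawLib (idCls)
open PicCurveLib
open scoped MonObj

noncomputable section

namespace JacAlbLib

/-- Powers of invertible classes. -/
theorem invC_pow' {Y : Scheme.{u}} {a : IsoCls Y} (h : InvC a) : ∀ n : ℕ, InvC (a ^ n)
  | 0 => by rw [pow_zero]; exact ⟨_, CurvLib.isInvertible_structureModule, rfl⟩
  | n + 1 => by rw [pow_succ]; exact (invC_pow' h n).mul h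

section Pointed

variable {k : Type u} [Field k] {C : Scheme.{u}} [C.Over (Spec (CommRingCat.of k))]
  [IsProper (C ↘ Spec (CommRingCat.of k))] [Smooth (C ↘ Spec (CommRingCat.of k))]
  [GeometricallyConnected (C ↘ Spec (CommRingCat.of k))] (hdim : topologicalKrullDim ↥C = 1)
  (hf : Fam (C ↘ Spec (CommRingCat.of k))) {σ : Spec (CommRingCat.of k) ⟶ C}
  {hσ : σ ≫ (C ↘ Spec (CommRingCat.of k)) = 𝟙 _} {J : Over (Spec (CommRingCat.of k))} [GrpObj J]
  {c : IsoCls (PicF.XT (C ↘ Spec (CommRingCat.of k)) J)} (hc : IsRigJac σ hσ J c)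
  [IsProper J.hom] [Smooth J.hom] [GeometricallyIntegral J.hom] [IsCommMonObj J]
  {j : Over.mk (C ↘ Spec (CommRingCat.of k)) ⟶ J} (hj : IsAbel σ hσ c j)
  {n : ℕ} {M : Over (Spec (CommRingCat.of k))} {φ : (ModFun.PicDeg (C ↘ Spec (CommRingCat.of k)) (n : ℤ)).Hom ⊤ M}
  (e : M ≅ J)
  (hφ : ∀ (T : Over (Spec (CommRingCat.of k))) (L : (PicF.XT (C ↘ Spec (CommRingCat.of k)) T).Modules)
    (hL : (ModFun.PicDeg (C ↘ Spec (CommRingCat.of k)) (n : ℤ)).ok T L),
    ∃ m : IsoCls T.left, InvC m ∧ pull (PicF.XTmap (C ↘ Spec (CommRingCat.of k)) (φ.app T L trivial hL ≫ e.hom)) c =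
      cl L * pc (base σ hσ T) ^ n * pull (PicF.XTproj (C ↘ Spec (CommRingCat.of k)) T) m)
include hdim hf hc hj hφ

/-- **The theta locus of effective classes is `W`.** -/
theorem thetaLocus_deg_eq {N : C.Modules} (hN : PicF.IsInvertible N) (hN1 : cl N = 1) :
    e.hom.left.base '' Jac.thetaLocus (C ↘ Spec (CommRingCat.of k)) (n : ℤ) φ N = WSet j n := by
  let f := C ↘ Spec (CommRingCat.of k)
  have key : ∀ (Ω : Type u) [Field Ω] [IsAlgClosed Ω] (s : Spec (CommRingCat.of Ω) ⟶ Spec (CommRingCat.of k))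
      (L : (PicF.XT f (Over.mk s)).Modules) (hL : (ModFun.PicDeg f (n : ℤ)).ok (Over.mk s) L),
      (¬ Subsingleton (Coh.HH (PicF.XT f (Over.mk s))
        (CohB1.tensorMod L ((Scheme.Modules.pullback (pullback.fst f s)).obj N)) 0)) ↔
        gpt s (φ.app (Over.mk s) L trivial hL ≫ e.hom) ∈ WSet j n := by
    intro Ω _ _ s L hL
    obtain ⟨hLi, hLd⟩ := (ok_iff hf _ _ L).1 hL
    obtain ⟨m, hm, eg⟩ := hφ (Over.mk s) L hL
    rw [show m = 1 from invC_spec (k := Ω) hm, map_one, _root_.mul_one] at eg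
    let NT := (Scheme.Modules.pullback (pullback.fst f s)).obj N
    have eM : cl (CohB1.tensorMod L NT) = cl L := by
      rw [cl_tensor, ← pull_cl, hN1, map_one, _root_.mul_one]
    have hMd : ∀ z, deg f (Over.mk s) (CohB1.tensorMod L NT) z = n := fun z =>
      (PicCurveLib.deg_congr f hf.dim_le (Over.mk s) eM z).trans (hLd z)
    rw [hasSection_iff_tuple hdim hf s (HilbPolyLib.isInvertible_tensor hLi (AmpleDevLib.isInvertible_pb _ hN)) hMd,
      gpt_mem_WSet_iff, eM]
    have hv : ∀ v : Fin n → (Over.mk s ⟶ Over.mk f),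
        pull (PicF.XTmap f (∏ i, v i ≫ j)) c * ∏ i, pc (v i) = pc (base σ hσ (Over.mk s)) ^ n := fun v => by
      obtain ⟨m, hm, e⟩ := pull_prod_abel hf hc hj (Over.mk s) Finset.univ v
      rw [show m = 1 from invC_spec (k := Ω) hm, map_one, _root_.mul_one, Finset.card_univ, Fintype.card_fin] at e
      exact e
    refine exists_congr fun v => ⟨fun ev => ?_, fun ev => ?_⟩
    · refine hom_ext hf hc ((invC_prod_pc hf Finset.univ v).isUnit.mul_right_cancel ?_)
      rw [hv, eg, _root_.mul_assoc, _root_.mul_comm (pc _ ^ n), ← _root_.mul_assoc, ev, _root_.one_mul]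
    · refine ((invC_pc hf (base σ hσ (Over.mk s))).isUnit.pow n).mul_right_cancel ?_
      rw [_root_.one_mul]
      conv_rhs => rw [← hv v, ← ev, eg]
      ac_rfl
  have hcl : IsClosed (WSet j n) := isClosed_WSet j n
  let h := (Scheme.homeoOfIso ((Over.forget _).mapIso e))
  let K := AlgebraicClosure k
  let s₀ : Spec (CommRingCat.of K) ⟶ Spec (CommRingCat.of k) := Spec.map (CommRingCat.ofHom (algebraMap k K))
  show h '' closure _ = _
  rw [h.image_closure]
  refine Set.Subset.antisymm (closure_minimal ?_ hcl) (subset_of_gpt s₀ hcl isClosed_closure fun g hg => subset_closure ?_)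
  · rintro _ ⟨p, ⟨Ω, hΩ, hΩc, s, _, L, hL, hQ, q, hq⟩, rfl⟩
    have h1 := (key Ω s L hL).1 hQ
    rw [gpt, show IsLocalRing.closedPoint Ω = q from Subsingleton.elim (α := PrimeSpectrum Ω) _ _] at h1
    rw [← show (φ.app (Over.mk s) L trivial hL).left q = p from hq]
    exact h1
  · obtain ⟨L', hL', eL', dL'⟩ := (rigZero_pull hf σ hσ g hc.rigZero).rep
    obtain ⟨P, hPn, hP⟩ := (InvC.exists_inv
      (show InvC (pc (base σ hσ (Over.mk s₀)) ^ n) from invC_pow' (invC_pc hf _) n))
    obtain ⟨P', hP', rfl⟩ := hPn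
    let L := CohB1.tensorMod L' P'
    have hLd : ∀ z, deg f (Over.mk s₀) L z = n := fun z => by
      have hPd := deg_prod hf (Finset.univ : Finset (Fin n)) (fun _ => base σ hσ (Over.mk s₀)) (L := P')
        (M := Coh.structureModule _) hP'
        (by rw [Finset.prod_const, Finset.card_univ, Fintype.card_fin, _root_.mul_comm]; exact hP) z
      rw [deg_tensor hf (Over.mk s₀) hL' hP' z, dL', hPd, deg_structure, Finset.card_univ, Fintype.card_fin]
      ring
    have hL : (ModFun.PicDeg f (n : ℤ)).ok (Over.mk s₀) L :=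
      (ok_iff hf _ _ L).2 ⟨HilbPolyLib.isInvertible_tensor hL' hP', hLd⟩
    have eg : φ.app (Over.mk s₀) L trivial hL ≫ e.hom = g := by
      obtain ⟨m, hm, eg⟩ := hφ (Over.mk s₀) L hL
      rw [show m = 1 from invC_spec (k := K) hm, map_one, _root_.mul_one, cl_tensor, _root_.mul_assoc,
        _root_.mul_comm (cl P'), hP, _root_.mul_one, eL'] at eg
      exact hom_ext hf hc eg
    refine ⟨gpt s₀ (φ.app (Over.mk s₀) L trivial hL), ⟨K, inferInstance, inferInstance, s₀, trivial, L, hL, ?_,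
      IsLocalRing.closedPoint K, rfl⟩, congrArg (gpt s₀) eg⟩
    exact (key K s₀ L hL).2 (eg ▸ hg)

end Pointed

variable {k : Type u} [Field k] {C : Scheme.{u}} [C.Over (Spec (CommRingCat.of k))]
  [IsProper (C ↘ Spec (CommRingCat.of k))] [Smooth (C ↘ Spec (CommRingCat.of k))]
  [GeometricallyConnected (C ↘ Spec (CommRingCat.of k))] (hdim : topologicalKrullDim ↥C = 1)
  (hf : Fam (C ↘ Spec (CommRingCat.of k)))
  {k' : Type u} [Field k'] (t : Spec (CommRingCat.of k') ⟶ Spec (CommRingCat.of k))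
include hdim hf

/-- **The degree `d` Picard scheme over a cover with a point is the Jacobian.** -/
theorem exists_model [Algebra k k'] [Module.Finite k k'] (ht : t = Spec.map (CommRingCat.ofHom (algebraMap k k')))
    {σ : Spec (CommRingCat.of k') ⟶ pullback (C ↘ Spec (CommRingCat.of k)) t}
    {hσ : σ ≫ pullback.snd _ _ = 𝟙 _} {J' : Over (Spec (CommRingCat.of k'))} [GrpObj J'] [IsProper J'.hom]
    [Smooth J'.hom] [GeometricallyConnected J'.hom]
    {c : IsoCls (PicF.XT (pullback.snd (C ↘ Spec (CommRingCat.of k)) t) J')} (hc : IsRigJac σ hσ J' c) (n : ℕ)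
    {M : Over (Spec (CommRingCat.of k))} {φ : (ModFun.PicDeg (C ↘ Spec (CommRingCat.of k)) (n : ℤ)).Hom ⊤ M}
    (hM : ModFun.IsCoarseModuli ⊤ (ModFun.PicDeg (C ↘ Spec (CommRingCat.of k)) (n : ℤ)) M φ) :
    IsProper M.hom ∧ Smooth M.hom ∧ GeometricallyConnected M.hom ∧
    ∃ (e : Red.bc t M ≅ J') (φB : (ModFun.PicDeg (pullback.snd (C ↘ Spec (CommRingCat.of k)) t) (n : ℤ)).Hom ⊤ (Red.bc t M))
      (ξ : (PicF.XT (pullback.snd (C ↘ Spec (CommRingCat.of k)) t) J').Modules),
      ModFun.IsUnivFamily ⊤ (ModFun.PicDeg (pullback.snd (C ↘ Spec (CommRingCat.of k)) t) (n : ℤ)) J' ξ ∧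
      (∀ (T : Over (Spec (CommRingCat.of k'))) (L : (PicF.XT (pullback.snd (C ↘ Spec (CommRingCat.of k)) t) T).Modules)
        (hL : (ModFun.PicDeg (pullback.snd (C ↘ Spec (CommRingCat.of k)) t) (n : ℤ)).ok T L),
        toDn t (φB.app T L trivial hL) = φ.app (dn t T) _ trivial (ok_bcXTIso hdim hf t (n : ℤ) hL)) ∧
      (∀ (T : Over (Spec (CommRingCat.of k'))) (L : (PicF.XT (pullback.snd (C ↘ Spec (CommRingCat.of k)) t) T).Modules)
        (hL : (ModFun.PicDeg (pullback.snd (C ↘ Spec (CommRingCat.of k)) t) (n : ℤ)).ok T L),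
        (ModFun.PicDeg (pullback.snd (C ↘ Spec (CommRingCat.of k)) t) (n : ℤ)).r T
          ((ModFun.PicDeg (pullback.snd (C ↘ Spec (CommRingCat.of k)) t) (n : ℤ)).pull
            (φB.app T L trivial hL ≫ e.hom) ξ) L) ∧
      ∀ (T : Over (Spec (CommRingCat.of k'))) (L : (PicF.XT (pullback.snd (C ↘ Spec (CommRingCat.of k)) t) T).Modules)
        (hL : (ModFun.PicDeg (pullback.snd (C ↘ Spec (CommRingCat.of k)) t) (n : ℤ)).ok T L),
        ∃ m : IsoCls T.left, InvC m ∧
          pull (PicF.XTmap (pullback.snd (C ↘ Spec (CommRingCat.of k)) t) (φB.app T L trivial hL ≫ e.hom)) c =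
            cl L * pc (base σ hσ T) ^ n * pull (PicF.XTproj (pullback.snd (C ↘ Spec (CommRingCat.of k)) t) T) m := by
  let f := C ↘ Spec (CommRingCat.of k)
  let f' := pullback.snd f t
  haveI : IsFinite t := by
    rw [ht, IsFinite.SpecMap_iff]
    exact RingHom.finite_algebraMap.2 inferInstance
  haveI : Flat t := by
    rw [ht, HasRingHomProperty.Spec_iff (P := @Flat)]
    show RingHom.Flat (algebraMap k k')
    rw [RingHom.flat_algebraMap_iff]
    infer_instance
  haveI : Surjective t := ⟨fun x => ⟨IsLocalRing.closedPoint k', Subsingleton.elim (α := PrimeSpectrum k) _ _⟩⟩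
  letI : (pullback f t).Over (Spec (CommRingCat.of k')) := ⟨f'⟩
  have hf' : Fam ((pullback f t) ↘ Spec (CommRingCat.of k')) := fam_snd hf t
  haveI := hf'.proper; haveI := hf'.smooth; haveI := hf'.conn
  have hdim' : topologicalKrullDim ↥(pullback f t) = 1 := dim_total hf'
  obtain ⟨ξ, hξ, eξ⟩ := exists_univ_deg' (k := k') (C := pullback f t) hf' hc hdim' (d := n)
  obtain ⟨q, hpb, hq⟩ := exists_picDeg_of_univ hdim hf (n : ℤ) t ht hξ hM
  have hp : IsProper M.hom := by
    haveI := MiscFlat6.desc_isProper.{u}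
    exact MorphismProperty.of_isPullback_of_descendsAlong (P := @IsProper)
      (Q := @Surjective ⊓ @Flat ⊓ @QuasiCompact) hpb.flip ⟨⟨‹Surjective t›, ‹Flat t›⟩, inferInstance⟩ ‹IsProper J'.hom›
  have hs : Smooth M.hom := MorphismProperty.of_isPullback_of_descendsAlong (P := @Smooth)
      (Q := @Surjective ⊓ @Flat ⊓ @QuasiCompact) hpb.flip ⟨⟨‹Surjective t›, ‹Flat t›⟩, inferInstance⟩ ‹Smooth J'.hom›
  obtain ⟨φB, hφB⟩ := exists_app_bc hdim hf t φ
  let g : J' ⟶ Red.bc t M := φB.app J' ξ trivial hξ.1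
  have hgq : toDn t g = q := (hφB J' ξ hξ.1).trans (hq _)
  haveI : IsIso g := by
    have h : g.left = hpb.isoPullback.hom := by
      refine pullback.hom_ext ?_ ((Over.w g).trans hpb.isoPullback_hom_snd.symm)
      exact (congrArg CommaMorphism.left hgq).trans hpb.isoPullback_hom_fst.symm
    haveI : IsIso ((Over.forget _).map g) := by
      show IsIso g.left
      rw [h]; infer_instance
    exact isIso_of_reflects_iso g (Over.forget _)
  have hgc : GeometricallyConnected M.hom := by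
    subst ht
    refine geometricallyConnected_of_bc (k' := k') M ?_
    haveI : IsIso g.left := inferInstanceAs (IsIso ((Over.forget _).map g))
    have h : (Red.bc (Spec.map (CommRingCat.ofHom (algebraMap k k'))) M).hom = inv g.left ≫ J'.hom := by
      rw [IsIso.eq_inv_comp]; exact Over.w g
    rw [h]
    exact (MorphismProperty.cancel_left_of_respectsIso (P := @GeometricallyConnected) (inv g.left) J'.hom).2
      ‹GeometricallyConnected J'.hom›
  have cls : ∀ (T : Over (Spec (CommRingCat.of k'))) (L : (PicF.XT f' T).Modules)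
      (hL : (ModFun.PicDeg f' (n : ℤ)).ok T L),
      (ModFun.PicDeg f' (n : ℤ)).r T ((ModFun.PicDeg f' (n : ℤ)).pull (φB.app T L trivial hL ≫ inv g) ξ) L := by
    intro T L hL
    obtain ⟨a, ha, -⟩ := hξ.2 T L trivial hL
    have h1 : φB.app T L trivial hL = a ≫ g :=
      (φB.resp _ _ trivial (ok_pull hf' a ξ hξ.1) hL ha).symm.trans
        (φB.natural a ξ trivial trivial hξ.1 (ok_pull hf' a ξ hξ.1))
    rw [h1, Category.assoc, IsIso.hom_inv_id, Category.comp_id]
    exact ha
  refine ⟨hp, hs, hgc, (asIso g).symm, φB, ξ, hξ, hφB, cls, fun T L hL => ?_⟩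
  obtain ⟨m, hm, em⟩ := (r_iff hf' T _ _).1 (cls T L hL)
  obtain ⟨m', hm', hmm⟩ := hm.exists_inv
  refine ⟨m', hm', ?_⟩
  show pull (PicF.XTmap f' (φB.app T L trivial hL ≫ inv g)) c = _
  rw [← eξ, map_mul, em, pc_base_eq hdim' hf' (σ := σ) (hσ := hσ) T]
  have e2 : pull (PicF.XTmap f' (φB.app T L trivial hL ≫ inv g)) (pull (pullback.fst f' J'.hom) (idCls σ.ker ^ n)) =
      pull (pullback.fst f' T.hom) (idCls σ.ker) ^ n := by
    rw [← map_pow]
    exact (pull_comp _ _ _).trans (congrArg (fun m => pull m _) (DescAppLib.XTmap_fst f' _))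
  have e1 : cl ((ModFun.PicDeg f' (n : ℤ)).pull (φB.app T L trivial hL ≫ inv g) ξ) =
      pull (PicF.XTmap f' (φB.app T L trivial hL ≫ inv g)) (cl ξ) := (pull_cl _ _).symm
  erw [e2, e1]
  have e3 : pull (PicF.XTproj f' T) m * pull (PicF.XTproj f' T) m' = 1 := by rw [← map_mul, hmm, map_one]
  calc _ = pull (PicF.XTmap f' (φB.app T L trivial hL ≫ inv g)) (cl ξ) * pull (pullback.fst f' T.hom) (idCls σ.ker) ^ n *
      (pull (PicF.XTproj f' T) m * pull (PicF.XTproj f' T) m') := by rw [e3, _root_.mul_one]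
    _ = _ := by ac_rfl

end JacAlbLib

end
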