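import Groth.Agent.JacAlbLib.PicDegFine
import Groth.Agent.JacAlbLib.BaseChange
import Groth.Agent.JacAlbLib.GeomPoints
import Groth.Agent.CoarseDescLib.Main
import Groth.Agent.PicCurveLib.JacArb
import Groth.Agent.VeryAmpleLib.Bc
import Groth.Agent.S1550
import Mathlib.RingTheory.Etale.Field

/-!
# The Picard scheme of given degree of a curve without rational points
-/

set_option autoImplicit false
set_option linter.style.haveILetI false
set_option linter.unusedSectionVars false
set_option backward.isDefEq.respectTransparency false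
set_option backward.isDefEq.respectTransparency.types false
set_option maxRecDepth 8000
set_option maxHeartbeats 1000000

universe u

open CategoryTheory CategoryTheory.Limits AlgebraicGeometry MonoidalCategory CartesianMonoidalCategory
open CubeConsLib (pull pull_comp pull_cl cl cl_eq_iff cl_tensor IsoCls)
open AVIndexLib (dn dnMap toDn)
open EllLawLib (idCls)
open PicCurveLib
open scoped MonObj

noncomputable section

namespace JacAlbLib

section Deg

variable {C S S' : Scheme.{u}} {f : C ⟶ S} (t : S' ⟶ S)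

theorem XTmap_id (T : Over S) : PicF.XTmap f (𝟙 T) = 𝟙 _ := by
  apply pullback.hom_ext <;> simp [PicF.XTmap] <;> exact (Category.id_comp _).symm

/-- The fibre degree under the identification of the total spaces. -/
theorem deg_bcXTIso (hdim : ∀ s : S, topologicalKrullDim ↥(f.fiber s) ≤ 1) [IsProper f] [Flat f]
    [LocallyOfFinitePresentation f] (T : Over S') {M : (PicF.XT f (dn t T)).Modules} (hM : PicF.IsInvertible M)
    (z : T.left) :
    deg (pullback.snd f t) T ((Scheme.Modules.pullback (AgPol.bcXTIso t (Over.mk f) T).hom).obj M) z =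
      deg f (dn t T) M z := by
  let θ := (AgPol.bcXTIso t (Over.mk f) T).hom
  haveI : IsIso θ := inferInstanceAs (IsIso (AgPol.bcXTIso t (Over.mk f) T).hom)
  let pr := pullback.fst (PicF.XTproj (pullback.snd f t) T) (T.left.fromSpecResidueField z)
  have H₀ : IsPullback θ (PicF.XTproj (pullback.snd f t) T) (PicF.XTproj f (dn t T)) (𝟙 T.left) :=
    IsPullback.of_horiz_isIso ⟨(pullbackLeftPullbackSndIso_hom_snd f t T.hom).trans (Category.comp_id _).symm⟩
  have H : IsPullback (pr ≫ θ) (pullback.snd _ _) (PicF.XTproj f (dn t T)) (T.left.fromSpecResidueField z) := by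
    have h := (IsPullback.of_hasPullback (PicF.XTproj (pullback.snd f t) T) (T.left.fromSpecResidueField z)).paste_horiz H₀
    rwa [Category.comp_id] at h
  have h := PicCurveLib.deg_point (K := T.left.residueField z) (Z := (FGA.fibreAt (pullback.snd f t) T z).left) f hdim (dn t T) hM
    (g' := pr ≫ θ) (v := T.left.fromSpecResidueField z) H (IsLocalRing.closedPoint _)
  refine Eq.trans ?_ (h.trans (congrArg (deg f (dn t T) M) (Scheme.fromSpecResidueField_apply z _)))
  refine congrArg (· - _) (chi_of_cl (K := T.left.residueField z)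
    (M := FGA.restrFibre (pullback.snd f t) T z ((Scheme.Modules.pullback θ).obj M))
    (N := (Scheme.Modules.pullback (pr ≫ θ)).obj M) ?_)
  show cl ((Scheme.Modules.pullback pr).obj ((Scheme.Modules.pullback θ).obj M)) = _
  rw [← pull_cl, ← pull_cl, ← pull_cl, pull_comp]
  rfl

end Deg

variable {k : Type u} [Field k] {C : Scheme.{u}} [C.Over (Spec (CommRingCat.of k))]
  [IsProper (C ↘ Spec (CommRingCat.of k))] [Smooth (C ↘ Spec (CommRingCat.of k))]
  [GeometricallyConnected (C ↘ Spec (CommRingCat.of k))] (hdim : topologicalKrullDim ↥C = 1)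
  (hf : Fam (C ↘ Spec (CommRingCat.of k)))
include hdim hf

/-- The laws of the degree problem. -/
theorem lawful_picDeg (d : ℤ) : CoarseDescLib.Lawful (ModFun.PicDeg (C ↘ Spec (CommRingCat.of k)) d) where
  okPull g x hx := ok_pull hf g x hx
  rId {T} x := by
    refine (r_iff hf T _ _).2 ⟨1, ⟨_, CurvLib.isInvertible_structureModule, rfl⟩, ?_⟩
    show cl x = cl ((Scheme.Modules.pullback (PicF.XTmap _ (𝟙 T))).obj x) * _
    rw [map_one, _root_.mul_one, ← pull_cl,
      XTmap_id,
      DescAppLib.pull_id]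
  pullPull g h x := pull_pull hf g h x
  rSymm h := r_symm hf _ h
  rTrans h h' := r_trans hf _ h h'
  rPull g _ _ h := r_pull hf g h

/-- The pullback along the cover of a universal family is fine over the cover. -/
theorem fineOver_picDeg {k' : Type u} [Field k'] (t : Spec (CommRingCat.of k') ⟶ Spec (CommRingCat.of k))
    [IsProper (pullback.snd (C ↘ Spec (CommRingCat.of k)) t)] [Flat (pullback.snd (C ↘ Spec (CommRingCat.of k)) t)]
    [LocallyOfFinitePresentation (pullback.snd (C ↘ Spec (CommRingCat.of k)) t)]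
    {d : ℤ} {J' : Over (Spec (CommRingCat.of k'))}
    {ξ' : (PicF.XT (pullback.snd (C ↘ Spec (CommRingCat.of k)) t) J').Modules}
    (hξ : ModFun.IsUnivFamily ⊤ (ModFun.PicDeg (pullback.snd (C ↘ Spec (CommRingCat.of k)) t) d) J' ξ') :
    CoarseDescLib.FineOver (F := ModFun.PicDeg (C ↘ Spec (CommRingCat.of k)) d)
      (Over.homMk J'.hom rfl : dn t J' ⟶ Over.mk t)
      ((Scheme.Modules.pullback (AgPol.bcXTIso t (Over.mk (C ↘ Spec (CommRingCat.of k))) J').inv).obj ξ') := by
  let f := C ↘ Spec (CommRingCat.of k)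
  let f' := pullback.snd f t
  letI : (pullback f t).Over (Spec (CommRingCat.of k')) := ⟨f'⟩
  have hf' : Fam ((pullback f t) ↘ Spec (CommRingCat.of k')) := fam_snd hf t
  haveI := hf'.proper; haveI := hf'.smooth; haveI := hf'.conn
  let θ := fun T : Over (Spec (CommRingCat.of k')) => AgPol.bcXTIso t (Over.mk f) T
  haveI : ∀ T, IsIso (θ T).hom := fun T => inferInstance
  obtain ⟨hi', hd'⟩ := (ok_iff hf' d J' ξ').1 hξ.1
  have hiA : PicF.IsInvertible ((Scheme.Modules.pullback (θ J').inv).obj ξ') := AmpleDevLib.isInvertible_pb (θ J').inv hi'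
  refine ⟨(ok_iff hf d _ _).2 ⟨hiA, fun z => ?_⟩, fun T x L hL => ?_⟩
  · have h := deg_bcXTIso t hf.dim_le J' hiA z
    rw [PicCurveLib.deg_congr f' hf'.dim_le J' (M := ξ')
      (by rw [← pull_cl, ← pull_cl, pull_comp, Iso.hom_inv_id]; exact DescAppLib.pull_id _) z] at h
    exact h.symm.trans (hd' z)
  let T' : Over (Spec (CommRingCat.of k')) := Over.mk x.left
  let e : dn t T' ⟶ T := Over.homMk (𝟙 _) ((Category.id_comp _).trans (Over.w x).symm)
  let e' : T ⟶ dn t T' := Over.homMk (𝟙 _) ((Category.id_comp _).trans (Over.w x))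
  have hee : e' ≫ e = 𝟙 T := Over.OverMorphism.ext (Category.id_comp _)
  have hee' : e ≫ e' = 𝟙 (dn t T') := Over.OverMorphism.ext (Category.id_comp _)
  obtain ⟨hLi, hLd⟩ := (ok_iff hf d T L).1 hL
  let L₁ := (Scheme.Modules.pullback (PicF.XTmap f e)).obj L
  have hL₁ : PicF.IsInvertible L₁ := AmpleDevLib.isInvertible_pb _ hLi
  let L' := (Scheme.Modules.pullback (θ T').hom).obj L₁
  have hL' : (ModFun.PicDeg f' d).ok T' L' := (ok_iff hf' d T' L').2 ⟨AmpleDevLib.isInvertible_pb (θ T').hom hL₁,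
    fun z => (deg_bcXTIso t hf.dim_le T' hL₁ z).trans
      ((PicCurveLib.deg_map f hf.dim_le e hLi z).trans (hLd _))⟩
  let Ψ : PicF.XT f' T' ⟶ PicF.XT f T := (θ T').hom ≫ PicF.XTmap f e
  let Φ : PicF.XT f T ⟶ PicF.XT f' T' := PicF.XTmap f e' ≫ (θ T').inv
  have hΨΦ : Ψ ≫ Φ = 𝟙 _ := by
    show ((θ T').hom ≫ _) ≫ _ = _
    rw [Category.assoc, ← Category.assoc (PicF.XTmap f e), DescAppLib.XTmap_comp, hee', XTmap_id]
    exact (congrArg _ (Category.id_comp _)).trans (Iso.hom_inv_id _)
  have hΦΨ : Φ ≫ Ψ = 𝟙 _ := by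
    show (_ ≫ (θ T').inv) ≫ _ = _
    rw [Category.assoc, Iso.inv_hom_id_assoc, DescAppLib.XTmap_comp, hee, XTmap_id]
  have hΨp : Ψ ≫ PicF.XTproj f T = PicF.XTproj f' T' := by
    show (_ ≫ _) ≫ _ = _
    rw [Category.assoc, DescAppLib.XTmap_proj]
    refine ((Category.assoc _ _ _).symm.trans (congrArg (· ≫ _) (pullbackLeftPullbackSndIso_hom_snd f t T'.hom))).trans ?_
    exact Category.comp_id _
  have hinj : Function.Injective (pull Ψ) := fun a b hab => by
    have h2 := congrArg (pull Φ) hab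
    rwa [pull_comp, pull_comp, hΦΨ, DescAppLib.pull_id, DescAppLib.pull_id] at h2
  -- translation of the identification
  have key : ∀ g : T' ⟶ J', (ModFun.PicDeg f d).r T
      ((ModFun.PicDeg f d).pull (e' ≫ dnMap t g) ((Scheme.Modules.pullback (θ J').inv).obj ξ')) L ↔
      (ModFun.PicDeg f' d).r T' ((ModFun.PicDeg f' d).pull g ξ') L' := by
    intro g
    refine (r_iff hf _ _ _).trans (Iff.trans ?_ (r_iff hf' _ _ _).symm)
    have hm : Ψ ≫ PicF.XTmap f (e' ≫ dnMap t g) ≫ (θ J').inv = PicF.XTmap f' g := by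
      show ((θ T').hom ≫ PicF.XTmap f e) ≫ _ = _
      rw [Category.assoc, ← Category.assoc (PicF.XTmap f e), DescAppLib.XTmap_comp, ← Category.assoc e, hee',
        Category.id_comp]
      refine (congrArg ((θ T').hom ≫ ·) (AVIndexLib.inv_bcXTIso_natural (A := Over.mk f) t g).symm).trans ?_
      rw [Iso.hom_inv_id_assoc]
      rfl
    have e1 : pull Ψ (cl ((ModFun.PicDeg f d).pull (e' ≫ dnMap t g) ((Scheme.Modules.pullback (θ J').inv).obj ξ'))) =
        cl ((ModFun.PicDeg f' d).pull g ξ') := by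
      show pull Ψ (cl ((Scheme.Modules.pullback (PicF.XTmap f _)).obj _)) = cl ((Scheme.Modules.pullback _).obj _)
      rw [← pull_cl, ← pull_cl, ← pull_cl]
      exact ((congrArg _ (pull_comp _ _ _)).trans (pull_comp _ _ _)).trans (congrArg (fun m => pull m (cl ξ')) hm)
    have e2 : pull Ψ (cl L) = cl L' := by
      show _ = cl ((Scheme.Modules.pullback (θ T').hom).obj L₁)
      rw [← pull_cl, ← pull_cl, pull_comp]
      rfl
    have e3 : ∀ n, pull Ψ (pull (PicF.XTproj f T) n) = pull (PicF.XTproj f' T') n := fun n => by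
      rw [pull_comp, hΨp]
      rfl
    constructor
    · rintro ⟨n, hn, en⟩
      refine ⟨n, hn, ?_⟩
      rw [← e1, ← e2, en, map_mul, e3]
      rfl
    · rintro ⟨n, hn, en⟩
      refine ⟨n, hn, hinj ?_⟩
      rw [map_mul, e1, e2, e3]
      exact en
  obtain ⟨g, hg, hgu⟩ := hξ.2 T' L' trivial hL'
  refine ⟨e' ≫ dnMap t g, ⟨Over.OverMorphism.ext ?_, (key g).2 hg⟩, fun a ha => ?_⟩
  · show (𝟙 _ ≫ g.left) ≫ J'.hom = x.left
    rw [Category.id_comp]
    exact Over.w g
  · let g₁ : T' ⟶ J' := Over.homMk a.left (congrArg CommaMorphism.left ha.1)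
    have ea : a = e' ≫ dnMap t g₁ := Over.OverMorphism.ext (Category.id_comp _).symm
    rw [ea]
    refine congrArg (fun g => e' ≫ dnMap t g) (hgu g₁ ((key g₁).1 ?_))
    rw [← ea]
    exact ha.2

/-- A cover for the degree problems: a finite separable extension with a rational point and its fine Jacobian. -/
theorem exists_cover :
    ∃ (k' : Type u) (_ : Field k') (_ : Algebra k k') (_ : Module.Finite k k')
      (_ : Etale (Spec.map (CommRingCat.ofHom (algebraMap k k'))))
      (σ : Spec (CommRingCat.of k') ⟶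
        pullback (C ↘ Spec (CommRingCat.of k)) (Spec.map (CommRingCat.ofHom (algebraMap k k'))))
      (hσ : σ ≫ pullback.snd _ _ = 𝟙 _) (J' : Over (Spec (CommRingCat.of k'))) (_ : GrpObj J') (_ : IsProper J'.hom)
      (_ : Smooth J'.hom) (_ : GeometricallyConnected J'.hom)
      (c : IsoCls (PicF.XT (pullback.snd (C ↘ Spec (CommRingCat.of k))
        (Spec.map (CommRingCat.ofHom (algebraMap k k')))) J')),
      IsRigJac σ hσ J' c := by
  haveI := FibVALib.geometricallyIntegral_of_geometricallyConnected (C ↘ Spec (CommRingCat.of k))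
  haveI : IsIntegral C := GeometricallyIntegral.isIntegral_of_subsingleton (C ↘ Spec (CommRingCat.of k))
  obtain ⟨x, -, hxf, hxs⟩ := (Groth.Agent.S1550.result k C).nonempty
  letI alg : Algebra k (C.residueField x) := Curv2.resAlgebra k C x
  haveI : FiniteDimensional k (C.residueField x) := hxf
  haveI : Algebra.IsSeparable k (C.residueField x) := hxs
  let k' := C.residueField x
  let t := Spec.map (CommRingCat.ofHom (algebraMap k k'))
  haveI : Etale t := by
    haveI : Algebra.FormallyEtale k k' := Algebra.FormallyEtale.of_isSeparable k k'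
    haveI : Algebra.FinitePresentation k k' := Algebra.FinitePresentation.of_finiteType.1 inferInstance
    show Etale (Spec.map _)
    rw [HasRingHomProperty.Spec_iff (P := @Etale)]
    exact RingHom.etale_algebraMap.2 ⟨‹_›, ‹_›⟩
  have hw : C.fromSpecResidueField x ≫ (C ↘ Spec (CommRingCat.of k)) = t := by
    let p := C ↘ Spec (CommRingCat.of k)
    have hr : Spec.map (CommRingCat.ofHom (Curv2.resMap k C x)) = C.fromSpecResidueField x ≫ p := by
      have hc : CommRingCat.ofHom (Curv2.resMap k C x) =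
          (Scheme.ΓSpecIso (CommRingCat.of k)).inv ≫ p.appTop ≫ C.presheaf.germ ⊤ x trivial ≫ C.residue x := rfl
      rw [hc, Spec.map_comp, Spec.map_comp, Spec.map_comp]
      show _ = (Spec.map (C.residue x) ≫ C.fromSpecStalk x) ≫ p
      simp only [Category.assoc]
      congr 1
      rw [← Scheme.fromSpecStalk_toSpecΓ_assoc, ← Scheme.toSpecΓ_naturality_assoc]
      simp [toSpecΓ_SpecMap_ΓSpecIso_inv]
    exact hr.symm
  let σ : Spec (CommRingCat.of k') ⟶ pullback (C ↘ Spec (CommRingCat.of k)) t :=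
    pullback.lift (C.fromSpecResidueField x) (𝟙 _) (by rw [Category.id_comp]; exact hw)
  have hσ : σ ≫ pullback.snd _ _ = 𝟙 _ := pullback.lift_snd _ _ _
  letI : (pullback (C ↘ Spec (CommRingCat.of k)) t).Over (Spec (CommRingCat.of k')) := ⟨pullback.snd _ t⟩
  have hf' : Fam (pullback.snd (C ↘ Spec (CommRingCat.of k)) t) := fam_snd hf t
  haveI := hf'.proper; haveI := hf'.smooth; haveI := hf'.conn
  obtain ⟨J', ξ, hp, hs, hc, hξ, hu⟩ := PicCurveLib.exists_jacobian (X := pullback (C ↘ Spec (CommRingCat.of k)) t)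
    (rfl : pullback (C ↘ Spec (CommRingCat.of k)) t ↘ Spec (CommRingCat.of k') = pullback.snd _ t) hf' σ hσ
  obtain ⟨grp, c, hJ⟩ := exists_grp_rigJac hf' ξ hξ hu
  exact ⟨k', inferInstance, inferInstance, inferInstance, ‹_›, σ, hσ, J', grp, hp, hs, hc, c, hJ⟩

/-- The degree `d` problem of a curve and a universal family on the cover. -/
theorem exists_picDeg_of_univ (d : ℤ) {k' : Type u} [Field k'] [Algebra k k'] [Module.Finite k k']
    (t : Spec (CommRingCat.of k') ⟶ Spec (CommRingCat.of k))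
    (ht : t = Spec.map (CommRingCat.ofHom (algebraMap k k')))
    {J' : Over (Spec (CommRingCat.of k'))} [GrpObj J'] [IsProper J'.hom]
    [Smooth J'.hom] [GeometricallyConnected J'.hom]
    {ξ : (PicF.XT (pullback.snd (C ↘ Spec (CommRingCat.of k)) t) J').Modules}
    (hξ : ModFun.IsUnivFamily ⊤ (ModFun.PicDeg (pullback.snd (C ↘ Spec (CommRingCat.of k)) t) d) J' ξ)
    {M : Over (Spec (CommRingCat.of k))} {φ : (ModFun.PicDeg (C ↘ Spec (CommRingCat.of k)) d).Hom ⊤ M}
    (hM : ModFun.IsCoarseModuli ⊤ (ModFun.PicDeg (C ↘ Spec (CommRingCat.of k)) d) M φ) :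
    ∃ (q : dn t J' ⟶ M),
      IsPullback q.left J'.hom M.hom t ∧
      ∀ (h : (ModFun.PicDeg (C ↘ Spec (CommRingCat.of k)) d).ok (dn t J')
        ((Scheme.Modules.pullback (AgPol.bcXTIso t (Over.mk (C ↘ Spec (CommRingCat.of k))) J').inv).obj ξ)),
        φ.app (dn t J') ((Scheme.Modules.pullback (AgPol.bcXTIso t (Over.mk (C ↘ Spec (CommRingCat.of k))) J').inv).obj ξ)
          trivial h = q := by
  haveI : IsFinite t := by
    rw [ht, IsFinite.SpecMap_iff]
    exact RingHom.finite_algebraMap.2 inferInstance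
  haveI : Flat t := by
    rw [ht, HasRingHomProperty.Spec_iff (P := @Flat)]
    show RingHom.Flat (algebraMap k k')
    rw [RingHom.flat_algebraMap_iff]
    infer_instance
  haveI : LocallyOfFinitePresentation t := inferInstance
  haveI : Surjective t := ⟨fun x => ⟨IsLocalRing.closedPoint k', Subsingleton.elim (α := PrimeSpectrum k) _ _⟩⟩
  haveI : DescLib.Fpqc (Over.mk t).hom := inferInstanceAs (DescLib.Fpqc t)
  letI : (pullback (C ↘ Spec (CommRingCat.of k)) t).Over (Spec (CommRingCat.of k')) := ⟨pullback.snd _ t⟩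
  have hf' : Fam (pullback (C ↘ Spec (CommRingCat.of k)) t ↘ Spec (CommRingCat.of k')) := fam_snd hf t
  haveI := hf'.proper; haveI := hf'.smooth; haveI := hf'.conn
  haveI : GeometricallyIntegral J'.hom := FibVALib.geometricallyIntegral_of_geometricallyConnected J'.hom
  obtain ⟨L, hL, -⟩ := Groth.Agent.S8121.result k' J'
  have hfine := fineOver_picDeg hdim hf t hξ
  obtain ⟨J₁, φ₁, q, hJ₁, hpb, hq⟩ := CoarseDescLib.exists_coarse (lawful_picDeg hdim hf d) hfine
    (fun D hD => by
      refine DescLib.effective_of_finLocFree (p := t) D fun y s _ => ?_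
      have key : ∀ (O : Over (Spec (CommRingCat.of k'))), O = Over.mk J'.hom → ∀ s : Finset O.left,
          ∃ U : O.left.Opens, IsAffineOpen U ∧ ∀ v ∈ s, v ∈ U := by
        rintro O rfl s; exact AmpleThLib.exists_affineOpen_finset hL s
      exact key D.obj hD s)
    (fun Ω _ _ τ => by
      haveI : LocallyOfFiniteType
          (Over.homMk t (Category.comp_id _) : Over.mk t ⟶ Over.mk (𝟙 (Spec (CommRingCat.of k)))).left :=
        inferInstanceAs (LocallyOfFiniteType t)
      obtain ⟨y, hy⟩ := exists_geom_lift (K := Ω) τ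
        (Over.homMk t (Category.comp_id _) : Over.mk t ⟶ Over.mk (𝟙 (Spec (CommRingCat.of k))))
        (Over.homMk τ (Category.comp_id _))
        ⟨IsLocalRing.closedPoint k', Subsingleton.elim (α := PrimeSpectrum k) _ _⟩
      exact ⟨y⟩)
  obtain ⟨e, he⟩ := CoarseDescLib.exists_iso_of_coarse hJ₁.2.1 hM.2.1
  refine ⟨q ≫ e.hom, IsPullback.of_iso hpb (Iso.refl _) ((Over.forget _).mapIso e) (Iso.refl _) (Iso.refl _)
    ?_ ?_ ?_ ?_, fun h => ?_⟩
  · rfl
  · simp
  · simp
  · simp
  · rw [← hq]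
    exact (he _ _ trivial h).symm

/-- **The degree `d` problem of a curve and the cover.** -/
theorem exists_picDeg (d : ℕ) {k' : Type u} [Field k'] [Algebra k k'] [Module.Finite k k']
    (t : Spec (CommRingCat.of k') ⟶ Spec (CommRingCat.of k))
    (ht : t = Spec.map (CommRingCat.ofHom (algebraMap k k')))
    {σ : Spec (CommRingCat.of k') ⟶ pullback (C ↘ Spec (CommRingCat.of k)) t}
    {hσ : σ ≫ pullback.snd _ _ = 𝟙 _} {J' : Over (Spec (CommRingCat.of k'))} [GrpObj J'] [IsProper J'.hom]
    [Smooth J'.hom] [GeometricallyConnected J'.hom]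
    {c : IsoCls (PicF.XT (pullback.snd (C ↘ Spec (CommRingCat.of k)) t) J')} (hc : IsRigJac σ hσ J' c)
    {M : Over (Spec (CommRingCat.of k))} {φ : (ModFun.PicDeg (C ↘ Spec (CommRingCat.of k)) (d : ℤ)).Hom ⊤ M}
    (hM : ModFun.IsCoarseModuli ⊤ (ModFun.PicDeg (C ↘ Spec (CommRingCat.of k)) (d : ℤ)) M φ) :
    ∃ (ξ : (PicF.XT (pullback.snd (C ↘ Spec (CommRingCat.of k)) t) J').Modules) (q : dn t J' ⟶ M),
      ModFun.IsUnivFamily ⊤ (ModFun.PicDeg (pullback.snd (C ↘ Spec (CommRingCat.of k)) t) (d : ℤ)) J' ξ ∧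
      IsPullback q.left J'.hom M.hom t ∧
      ∀ (h : (ModFun.PicDeg (C ↘ Spec (CommRingCat.of k)) (d : ℤ)).ok (dn t J')
        ((Scheme.Modules.pullback (AgPol.bcXTIso t (Over.mk (C ↘ Spec (CommRingCat.of k))) J').inv).obj ξ)),
        φ.app (dn t J') ((Scheme.Modules.pullback (AgPol.bcXTIso t (Over.mk (C ↘ Spec (CommRingCat.of k))) J').inv).obj ξ)
          trivial h = q := by
  letI : (pullback (C ↘ Spec (CommRingCat.of k)) t).Over (Spec (CommRingCat.of k')) := ⟨pullback.snd _ t⟩
  have hf' : Fam (pullback (C ↘ Spec (CommRingCat.of k)) t ↘ Spec (CommRingCat.of k')) := fam_snd hf t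
  haveI := hf'.proper; haveI := hf'.smooth; haveI := hf'.conn
  obtain ⟨ξ, hξ⟩ := exists_univ_deg (k := k') (C := pullback (C ↘ Spec (CommRingCat.of k)) t) hf' hc
    (dim_total_field hf') (d := d)
  obtain ⟨q, hq⟩ := exists_picDeg_of_univ hdim hf (d : ℤ) t ht hξ hM
  exact ⟨ξ, q, hξ, hq⟩

end JacAlbLib

end
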