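import Groth.Agent.JacAlbLib.Distinct
import Groth.Agent.JacAlbLib.Albanese
import Groth.Agent.JacAlbLib.Generic
import Groth.Agent.JacAlbLib.WPoints
import Groth.Agent.HilbPtsLib.ConnHilb

/-!
# The sum map to the Jacobian is étale at good tuples of distinct points
-/

set_option autoImplicit false
set_option linter.style.haveILetI false
set_option linter.unusedSectionVars false
set_option backward.isDefEq.respectTransparency false
set_option backward.isDefEq.respectTransparency.types false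
set_option maxRecDepth 8000
set_option maxHeartbeats 1000000

universe u

open CategoryTheory CategoryTheory.Limits AlgebraicGeometry TopologicalSpace MonoidalCategory CartesianMonoidalCategory
open CubeConsLib (pull pull_comp pull_cl cl cl_eq_iff cl_tensor IsoCls)
open EllLawLib (idCls)
open HilbPts (m m_comp m_fst m_snd isPullback_m)
open PicCurveLib SymProd
open HilbPts.SC (fb fp fp_comp sumId gr secF)
open scoped MonObj

noncomputable section

namespace JacAlbLib

variable {k : Type u} [Field k] {C : Scheme.{u}} [C.Over (Spec (CommRingCat.of k))]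
  [IsProper (C ↘ Spec (CommRingCat.of k))] [Smooth (C ↘ Spec (CommRingCat.of k))]
  [GeometricallyConnected (C ↘ Spec (CommRingCat.of k))] (hdim : topologicalKrullDim ↥C = 1)
  (hf : Fam (C ↘ Spec (CommRingCat.of k)))

omit [GeometricallyConnected (C ↘ Spec (CommRingCat.of k))] in
/-- A rational tuple off every diagonal is distinct. -/
theorem mem_distinctOpen_of_inj {n : ℕ} (z : Spec (CommRingCat.of k) ⟶ fibPow (C ↘ Spec (CommRingCat.of k)) n)
    (hz : z ≫ fb (C ↘ Spec (CommRingCat.of k)) n = 𝟙 _)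
    (hinj : ∀ i i', z ≫ fp (C ↘ Spec (CommRingCat.of k)) i = z ≫ fp (C ↘ Spec (CommRingCat.of k)) i' → i = i') :
    z (IsLocalRing.closedPoint k) ∈ distinctOpen (C ↘ Spec (CommRingCat.of k)) n := by
  rw [mem_distinctOpen_iff]
  intro i i' hne hmem
  haveI : AlgebraicGeometry.IsReduced (Spec (CommRingCat.of k)) := inferInstance
  have h : (HilbPts.SC.diag (C ↘ Spec (CommRingCat.of k)) i i').comap z = ⊥ := by
    refine (HilbPts.comap_eq_bot_iff _ _).2 ?_
    rw [AlgSpRegLib.ker_eq_vanishingIdeal z, ← Scheme.IdealSheafData.le_support_iff_le_vanishingIdeal]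
    refine closure_minimal ?_ (HilbPts.SC.diag (C ↘ Spec (CommRingCat.of k)) i i').support.isClosed
    rintro _ ⟨p, rfl⟩
    rw [show p = IsLocalRing.closedPoint k from Subsingleton.elim (α := PrimeSpectrum k) _ _]
    exact hmem
  have hw : ∀ i, (z ≫ fp (C ↘ Spec (CommRingCat.of k)) i) ≫ (C ↘ Spec (CommRingCat.of k)) = 𝟙 _ := fun i => by
    rw [Category.assoc, fp_comp, hz]
  have e : z ≫ gr (C ↘ Spec (CommRingCat.of k)) i' =
      secF (C ↘ Spec (CommRingCat.of k)) _ (hw i') ≫ m (C ↘ Spec (CommRingCat.of k)) z hz := by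
    apply pullback.hom_ext <;> simp [gr]
  rw [HilbPts.SC.diag, ← Scheme.IdealSheafData.comap_comp, e, Scheme.IdealSheafData.comap_comp,
    HilbPts.SC.comap_gr _ i z hz _ rfl] at h
  exact hne (hinj _ _ (secF_eq_of_comap (C ↘ Spec (CommRingCat.of k)) (hw i') (hw i) h).symm)

variable {σ : Spec (CommRingCat.of k) ⟶ C} {hσ : σ ≫ (C ↘ Spec (CommRingCat.of k)) = 𝟙 _}
  {J : Over (Spec (CommRingCat.of k))} [GrpObj J] [IsProper J.hom] [Smooth J.hom] [GeometricallyIntegral J.hom]
  {c : IsoCls (PicF.XT (C ↘ Spec (CommRingCat.of k)) J)} (hc : IsRigJac σ hσ J c)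
  {j : Over.mk (C ↘ Spec (CommRingCat.of k)) ⟶ J} (hj : IsAbel σ hσ c j)
include hdim hf hc hj

/-- The sum map is étale on an open containing the tuples of distinct points with one section. -/
theorem exists_etale_open [IsCommMonObj J] (hg : 0 < Curv2.genus k C) :
    ∃ U : (fibPow (C ↘ Spec (CommRingCat.of k)) (Curv2.genus k C)).Opens,
      Etale (U.ι ≫ (∏ i, xi (C := C) i ≫ j).left) ∧
      (∀ (z : Spec (CommRingCat.of k) ⟶ fibPow (C ↘ Spec (CommRingCat.of k)) (Curv2.genus k C)),
        z ≫ fb (C ↘ Spec (CommRingCat.of k)) (Curv2.genus k C) = 𝟙 _ →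
        (∀ i i', z ≫ fp (C ↘ Spec (CommRingCat.of k)) i = z ≫ fp (C ↘ Spec (CommRingCat.of k)) i' → i = i') →
        (∀ M : C.Modules, PicF.IsInvertible M → cl M * ∏ i, idCls (z ≫ fp (C ↘ Spec (CommRingCat.of k)) i).ker = 1 →
          Module.finrank k (Coh.HH C M 0) = 1) →
        z (IsLocalRing.closedPoint k) ∈ U) ∧
      ∀ (z : Spec (CommRingCat.of k) ⟶ fibPow (C ↘ Spec (CommRingCat.of k)) (Curv2.genus k C)),
        z ≫ fb (C ↘ Spec (CommRingCat.of k)) (Curv2.genus k C) = 𝟙 _ →
        z (IsLocalRing.closedPoint k) ∈ U →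
        ∀ M : C.Modules, PicF.IsInvertible M → cl M * ∏ i, idCls (z ≫ fp (C ↘ Spec (CommRingCat.of k)) i).ker = 1 →
          Module.finrank k (Coh.HH C M 0) = 1 := by
  classical
  obtain ⟨hsm, hgi, hX⟩ := hilb_hyps hf
  haveI := hsm; haveI := hgi
  haveI : IsSeparated (C ↘ Spec (CommRingCat.of k)) := inferInstance
  set g := Curv2.genus k C with hgdef
  haveI : Nonempty (Fin g) := Fin.pos_iff_nonempty.1 hg
  have hrep : ∀ d : ℕ, HilbD.Representable (C ↘ Spec (CommRingCat.of k)) d := fun d => by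
    obtain ⟨H, Z, hZ, -, -⟩ := Groth.Agent.S1170.result k C (C ↘ Spec (CommRingCat.of k)) hX d
    exact ⟨H, Z, hZ⟩
  obtain ⟨H, Z, hZ⟩ := hrep g
  obtain ⟨a, htw, Y, ξ, IY, jY, wY, hjY, hIY, hdiv, hgood, θ, hθ, hθo, -, hex⟩ := exists_theta' hf hc hj hrep hZ
  haveI := hjY; haveI := hθo
  let f := C ↘ Spec (CommRingCat.of k)
  obtain ⟨ρ, hρ, hI⟩ := HilbPts.SC.exists_hom f hZ (sumId f g) (HilbPts.SC.prop_sumId f g)
  let TP : Over (Spec (CommRingCat.of k)) := Over.mk (fb f g)
  let F : TP ⟶ J := ∏ i, xi (C := C) i ≫ j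
  let cF : IsoCls (pullback f TP.hom) := pull (PicF.XTmap f F) c
  let G₀ : IsoCls (pullback f TP.hom) := cF * tw a TP.hom
  obtain ⟨n, hn, en⟩ := pull_prod_abel hf hc hj TP Finset.univ (fun i => xi (C := C) i)
  have eG : (show IsoCls (pullback f TP.hom) from idCls (sumId f g)) * G₀ = pull (pullback.snd f TP.hom) n := by
    show idCls (sumId f g) * (show IsoCls (pullback f (fb f g)) from G₀) = pull (pullback.snd f (fb f g)) n
    rw [sumId, (idCls_prod Finset.univ (fun i => (gr f i).ker)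
      (fun i => effCartier_sec hf (xi (C := C) i)) Finset.univ_nonempty).2]
    calc (∏ i, pc (xi (C := C) i)) * G₀ = pull (PicF.XTmap f F) c * (∏ i, pc (xi (C := C) i)) * tw a TP.hom := by
          show _ * (pull (PicF.XTmap f F) c * tw a TP.hom) = _
          ac_rfl
      _ = pull (PicF.XTproj f TP) n * (tw a TP.hom * pc (base σ hσ TP) ^ g) := by
          erw [en]; rw [Finset.card_univ, Fintype.card_fin]; ac_rfl
      _ = pull (PicF.XTproj f TP) n := by rw [htw TP, _root_.mul_one]
  have haInv : InvC a := by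
    have hu := (invC_sigma_pow hdim hσ g)
    obtain ⟨a', ha', hua⟩ := hu.exists_inv
    have hb := congrArg (pull (toXT₀ (k := k) (C := C))) (htw (𝟙_ _))
    rw [map_mul, map_pow, map_one, pull_toXT₀_pc hdim hf, tw, pull_comp, toXT₀_fst, DescAppLib.pull_id,
      show (base σ hσ (𝟙_ (Over (Spec (CommRingCat.of k))))).left = σ from Category.id_comp σ] at hb
    rwa [show a = a' by
      calc a = a * (idCls σ.ker ^ g * a') := by rw [hua, _root_.mul_one]
        _ = a' := by rw [← _root_.mul_assoc, hb, _root_.one_mul]]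
  obtain ⟨L₀, hL₀, eL₀, -⟩ := (rigZero_pull hf σ hσ F hc.rigZero).rep
  obtain ⟨N, hN, eN⟩ : InvC G₀ := InvC.mul ⟨L₀, hL₀, eL₀⟩ (haInv.pull _)
  let W := goodOpen (fam_snd hf (fb f g)) hN
  let U : (fibPow f g).Opens := W ⊓ distinctOpen f g
  let TU : Over (Spec (CommRingCat.of k)) := Over.mk (U.ι ≫ fb f g)
  let ιU : TU ⟶ TP := Over.homMk U.ι rfl
  obtain ⟨L₁, hL₁, eL₁, -⟩ := (rigZero_pull hf σ hσ (ιU ≫ F) hc.rigZero).rep
  let P : RPt f σ hσ U.toScheme := ofCl (T := TU) ⟨L₁, hL₁, eL₁⟩ (rigZero_pull hf σ hσ (ιU ≫ F) hc.rigZero).rig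
  have eP : P.c * tw a P.g = pull (m f U.ι rfl) G₀ := by
    have h1 : pull (PicF.XTmap f (ιU ≫ F)) c = pull (PicF.XTmap f ιU) cF := by
      rw [← DescAppLib.XTmap_comp, ← pull_comp]
    show _ = pull (m f U.ι rfl) (cF * tw a TP.hom)
    rw [map_mul, pull_fst_m]
    exact congrArg (· * tw a (U.ι ≫ fb f g)) (h1.trans (by rw [HilbPts.xtMap_eq]; rfl))
  have hgP : GoodC f P.g (P.c * tw a P.g) := by
    rw [eP, ← eN]
    exact ⟨_, AmpleDevLib.isInvertible_pb _ hN, rfl,
      (good_pb_iff (fam_snd hf (fb f g)) hN (isPullback_m f U.ι rfl)).2 fun y => y.2.1⟩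
  have hdP : IsDiv f P.g (P.c * tw a P.g) ((sumId f g).comap (m f U.ι rfl)) := by
    rw [eP]
    exact IsDiv.comap (show IsDiv f (fb f g) G₀ (sumId f g) from ⟨(HilbPts.SC.prop_sumId f g).1, n, hn, eG⟩) U.ι rfl
  obtain ⟨x, hx⟩ := hex _ P _ hgP hdP
    (HilbPts.isFinLocFreeOfDeg_of_isPullback (HilbPts.isPullback_comap_m f U.ι rfl (sumId f g)) (HilbPts.SC.prop_sumId f g))
  obtain ⟨wx, hcx⟩ := (map_eq_iff ξ P x).1 hx
  have hxj : x ≫ jY = U.ι ≫ ρ := by
    have h1 := hdiv.comap x wx
    rw [map_mul, hcx, pull_fst_m] at h1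
    have hII := h1.unique hf hgP hdP
    rw [← hIY, ← hI, ← Scheme.IdealSheafData.comap_comp, ← Scheme.IdealSheafData.comap_comp, m_comp, m_comp] at hII
    exact HilbPts.SC.hom_eq_of_comap_eq f hZ (g := P.g) _ _ (by rw [Category.assoc, wY]; exact wx)
      (by rw [Category.assoc, hρ]; rfl) hII
  haveI : Etale ((distinctOpen f g).ι ≫ ρ) := etale_distinct f g hrep hZ ρ hρ hI
  haveI : Etale (x ≫ jY) := by
    rw [hxj, ← Scheme.homOfLE_ι (X := fibPow f g) (inf_le_right : U ≤ distinctOpen f g), Category.assoc]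
    infer_instance
  haveI : Etale x := Etale.of_comp x jY
  have hF : U.ι ≫ F.left = x ≫ θ.left := by
    let x' : TU ⟶ Over.mk ξ.g := Over.homMk x wx
    have e : x' ≫ θ = ιU ≫ F := hom_ext hf hc (T := TU) (by
      rw [← DescAppLib.XTmap_comp, ← pull_comp, hθ, HilbPts.xtMap_eq]
      exact hcx)
    exact (congrArg CommaMorphism.left e).symm
  have key : ∀ (z : Spec (CommRingCat.of k) ⟶ fibPow f g) (hz : z ≫ fb f g = 𝟙 _),
      ∃ M : C.Modules, PicF.IsInvertible M ∧ cl M * ∏ i, idCls (z ≫ fp f i).ker = 1 ∧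
        (z (IsLocalRing.closedPoint k) ∈ W ↔ Good f M) ∧ Curv2.deg k C M 1 = g := by
    intro z hz
    let g' : C ⟶ pullback f (fb f g) := toXT₀ (k := k) (C := C) ≫ m f z hz
    have H : IsPullback g' f (pullback.snd f (fb f g)) z := by
      have := (isPullback_toXT₀ (k := k) (C := C)).paste_horiz (isPullback_m f z hz)
      rwa [Category.id_comp] at this
    have hM : PicF.IsInvertible (KFlatLib.pb g' N) := AmpleDevLib.isInvertible_pb _ hN
    have eM : cl (KFlatLib.pb g' N) * ∏ i, idCls (z ≫ fp f i).ker = 1 := by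
      have hz0 : pull (g' ≫ pullback.snd f (fb f g)) n = 1 := by
        rw [H.w, ← pull_comp]
        exact (congrArg (pull f) (invC_spec (hn.pull z))).trans (map_one _)
      have eG' : idCls (sumId f g) * (cl N : IsoCls (pullback f (fb f g))) = pull (pullback.snd f (fb f g)) n :=
        (congrArg (fun z : IsoCls (pullback f (fb f g)) => idCls (sumId f g) * z) eN).trans eG
      have h := congrArg (pull g') eG'
      rw [map_mul, pull_cl, pull_comp, hz0,
        sumId, (idCls_prod Finset.univ (fun i => (gr f i).ker) (fun i => effCartier_sec hf (xi (C := C) i))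
        Finset.univ_nonempty).2, map_prod] at h
      rw [mul_comm]
      refine Eq.trans (congrArg (· * _) (Finset.prod_congr rfl fun i _ => ?_)) h
      let zo : 𝟙_ (Over (Spec (CommRingCat.of k))) ⟶ TP := Over.homMk z hz
      have e1 : pull (PicF.XTmap f zo) (pc (xi (C := C) i)) = pc (zo ≫ xi (C := C) i) := pull_pc hf zo _
      have e2 := congrArg (pull (toXT₀ (k := k) (C := C))) e1
      rw [pull_toXT₀_pc hdim hf, pull_comp, HilbPts.xtMap_eq] at e2
      exact e2.symm
    have hd : Curv2.deg k C (KFlatLib.pb g' N) 1 = g := by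
      have hdd := PicCurveLib.deg_point f hf.dim_le TP hN (K := k) (Z := C) (g' := g') (v := z) H (IsLocalRing.closedPoint k)
      rw [chi_eq_euler hf, chi_eq_euler hf] at hdd
      have hdn := deg_prod hf Finset.univ (fun i => xi (C := C) i) (T := TP) (L := N)
        (M := (Scheme.Modules.pullback (PicF.XTproj f TP)).obj hn.choose) hN (by
          rw [eN, mul_comm, ← pull_cl, hn.choose_spec.2]
          have h := eG
          rw [sumId, (idCls_prod Finset.univ (fun i => (gr f i).ker) (fun i => effCartier_sec hf (xi (C := C) i))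
            Finset.univ_nonempty).2] at h
          exact h) (z (IsLocalRing.closedPoint k))
      rw [PicCurveLib.deg_twist hf TP (L' := (Scheme.Modules.pullback (PicF.XTproj f TP)).obj hn.choose)
          (L := Coh.structureModule _) hn.choose_spec.1 ((_root_.one_mul _).symm.trans rfl),
        deg_structure, Finset.card_univ, Fintype.card_fin, zero_add] at hdn
      rw [Curv2.deg, Nat.cast_one, _root_.one_mul, ← hdn]
      exact hdd
    refine ⟨_, hM, eM, ⟨fun hw => (good_pb_iff (fam_snd hf (fb f g)) hN H).2 fun y => ?_,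
      fun hgd => (good_pb_iff (fam_snd hf (fb f g)) hN H).1 hgd (IsLocalRing.closedPoint k)⟩, hd⟩
    rw [show y = IsLocalRing.closedPoint k from Subsingleton.elim (α := PrimeSpectrum k) _ _]
    exact hw
  refine ⟨U, ?_, fun z hz hinj hh => ?_, fun z hz hzU M hM e => ?_⟩
  · show Etale (U.ι ≫ F.left)
    rw [hF]; infer_instance
  · obtain ⟨M, hM, eM, hiff, hd⟩ := key z hz
    refine ⟨hiff.2 fun s => ?_, mem_distinctOpen_of_inj z hz hinj⟩
    have h0 := hh _ hM eM
    rw [fiberRank_spec_mod f hM 1 s, fiberRank_spec_mod f hM 0 s]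
    refine ⟨?_, h0⟩
    have := rr (k := k) hdim M
    show Module.finrank k (Coh.HH C M 1) = 0
    omega
  · obtain ⟨M', hM', eM', hiff, -⟩ := key z hz
    have hu : IsUnit (∏ i, idCls (z ≫ fp f i).ker) := IsUnit.prod_iff.2 fun i _ => (invC_point hdim _
      (by rw [Category.assoc, fp_comp, hz])).isUnit
    refine (h_congr (k := k) (hu.mul_right_cancel (e.trans eM'.symm)) 0).trans ?_
    have h := ((hiff.1 hzU.1) (IsLocalRing.closedPoint k)).2
    rwa [fiberRank_spec_mod f hM' 0] at h

end JacAlbLib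

end
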