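import Groth.Agent.JacAlbLib.PicDegCover
import Groth.Agent.JacAlbLib.GoodPts
import Groth.Agent.JacAlbLib.Twist
import Groth.Agent.HilbPtsLib.SymQuot
import Groth.Agent.HilbPtsLib.DnFlag

/-!
# Divisors of degree at most the genus are determined near a good one
-/

set_option autoImplicit false
set_option linter.style.haveILetI false
set_option linter.unusedSectionVars false
set_option backward.isDefEq.respectTransparency false
set_option backward.isDefEq.respectTransparency.types false
set_option maxRecDepth 8000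
set_option maxHeartbeats 1000000

universe u

open CategoryTheory CategoryTheory.Limits AlgebraicGeometry MonoidalCategory CartesianMonoidalCategory TopologicalSpace
open CubeConsLib (pull pull_comp pull_cl cl cl_eq_iff cl_tensor IsoCls)
open AVIndexLib (dn dnMap toDn toDn_injective toDn_comp)
open EllLawLib (idCls)
open HilbPts (m m_comp)
open HilbPts.SC (secF)
open PicCurveLib

noncomputable section

namespace JacAlbLib

variable {k : Type u} [Field k] {C : Scheme.{u}} [C.Over (Spec (CommRingCat.of k))]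
  [IsProper (C ↘ Spec (CommRingCat.of k))] [Smooth (C ↘ Spec (CommRingCat.of k))]
  [GeometricallyConnected (C ↘ Spec (CommRingCat.of k))] (hdim : topologicalKrullDim ↥C = 1)
  (hf : Fam (C ↘ Spec (CommRingCat.of k)))
include hdim hf

/-- Families over a test scheme of the cover with the same classifying map differ by the base. -/
theorem cls_eq_of_app_eq {k' : Type u} [Field k'] [Algebra k k'] [Module.Finite k k']
    {σ : Spec (CommRingCat.of k') ⟶
      pullback (C ↘ Spec (CommRingCat.of k)) (Spec.map (CommRingCat.ofHom (algebraMap k k')))}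
    {hσ : σ ≫ pullback.snd _ _ = 𝟙 _} {J' : Over (Spec (CommRingCat.of k'))} [GrpObj J'] [IsProper J'.hom]
    [Smooth J'.hom] [GeometricallyConnected J'.hom]
    {c : IsoCls (PicF.XT (pullback.snd (C ↘ Spec (CommRingCat.of k))
      (Spec.map (CommRingCat.ofHom (algebraMap k k')))) J')} (hc : IsRigJac σ hσ J' c) (n : ℕ)
    {M : Over (Spec (CommRingCat.of k))} {φ : (ModFun.PicDeg (C ↘ Spec (CommRingCat.of k)) (n : ℤ)).Hom ⊤ M}
    (hM : ModFun.IsCoarseModuli ⊤ (ModFun.PicDeg (C ↘ Spec (CommRingCat.of k)) (n : ℤ)) M φ)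
    (T : Over (Spec (CommRingCat.of k')))
    {L L' : (PicF.XT (C ↘ Spec (CommRingCat.of k)) (dn (Spec.map (CommRingCat.ofHom (algebraMap k k'))) T)).Modules}
    (hL : (ModFun.PicDeg (C ↘ Spec (CommRingCat.of k)) (n : ℤ)).ok _ L)
    (hL' : (ModFun.PicDeg (C ↘ Spec (CommRingCat.of k)) (n : ℤ)).ok _ L')
    (e : φ.app _ L trivial hL = φ.app _ L' trivial hL') :
    ∃ a : IsoCls T.left, InvC a ∧ cl L' = cl L * pull (PicF.XTproj (C ↘ Spec (CommRingCat.of k))
      (dn (Spec.map (CommRingCat.ofHom (algebraMap k k'))) T)) a := by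
  let t := Spec.map (CommRingCat.ofHom (algebraMap k k'))
  let f := C ↘ Spec (CommRingCat.of k)
  let f' := pullback.snd f t
  obtain ⟨-, -, -, e₀, φB, ξ, hξ, hφB, cls, -⟩ := exists_model hdim hf t rfl hc n hM
  letI : (pullback f t).Over (Spec (CommRingCat.of k')) := ⟨f'⟩
  have hf' : Fam ((pullback f t) ↘ Spec (CommRingCat.of k')) := fam_snd hf t
  haveI := hf'.proper; haveI := hf'.smooth; haveI := hf'.conn
  let θ := AgPol.bcXTIso t (Over.mk f) T
  haveI : IsIso θ.hom := inferInstance
  have hinv : ∀ M : (PicF.XT f (dn t T)).Modules,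
      cl ((Scheme.Modules.pullback θ.inv).obj ((Scheme.Modules.pullback θ.hom).obj M)) = cl M := fun M => by
    rw [← pull_cl, ← pull_cl, pull_comp, Iso.inv_hom_id]
    exact DescAppLib.pull_id _
  have key : ∀ (M : (PicF.XT f (dn t T)).Modules) (hMk : (ModFun.PicDeg f (n : ℤ)).ok _ M),
      ∃ hM' : (ModFun.PicDeg f' (n : ℤ)).ok T ((Scheme.Modules.pullback θ.hom).obj M),
        toDn t (φB.app T _ trivial hM') = φ.app _ M trivial hMk := fun M hMk => by
    obtain ⟨hi, hd⟩ := (ok_iff hf _ _ M).1 hMk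
    have hM' : (ModFun.PicDeg f' (n : ℤ)).ok T ((Scheme.Modules.pullback θ.hom).obj M) :=
      (ok_iff hf' _ T _).2 ⟨AmpleDevLib.isInvertible_pb θ.hom hi,
        fun z => (deg_bcXTIso t hf.dim_le T hi z).trans (hd z)⟩
    refine ⟨hM', (hφB T _ hM').trans (φ.resp _ _ trivial _ hMk ((r_iff hf _ _ _).2 ⟨1, ?_, ?_⟩))⟩
    · exact ⟨_, CurvLib.isInvertible_structureModule, rfl⟩
    · rw [map_one, _root_.mul_one]
      exact (hinv M).symm
  obtain ⟨h1, e1⟩ := key L hL
  obtain ⟨h2, e2⟩ := key L' hL'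
  have eB : φB.app T _ trivial h1 = φB.app T _ trivial h2 := toDn_injective t (e1.trans (e.trans e2.symm))
  have c1 := cls T _ h1
  rw [eB] at c1
  obtain ⟨a, ha, ea⟩ := (r_iff hf' T _ _).1 (r_trans hf' _ (r_symm hf' _ c1) (cls T _ h2))
  refine ⟨a, ha, ?_⟩
  have h := congrArg (pull θ.inv) ea
  rw [map_mul, pull_cl, pull_cl, hinv, hinv] at h
  refine h.trans (congrArg (cl L * ·) ((pull_comp _ _ _).trans (congrArg (fun z => pull z a) ?_)))
  exact (Iso.inv_comp_eq θ).2 (pullbackLeftPullbackSndIso_hom_snd f t T.hom).symm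

/-- Adding the ideals of points to a divisor. -/
theorem mul_points {T : Over (Spec (CommRingCat.of k))} {α : Type*} (s : Finset α)
    (x : α → (T ⟶ Over.mk (C ↘ Spec (CommRingCat.of k)))) :
    ∀ {d : ℕ} {I : (PicF.XT (C ↘ Spec (CommRingCat.of k)) T).IdealSheafData},
      Mor2.IsFinLocFreeOfDeg d (I.subschemeι ≫ PicF.XTproj (C ↘ Spec (CommRingCat.of k)) T) →
      Mor2.IsFinLocFreeOfDeg (d + s.card) ((I * ∏ i ∈ s, (secF (C ↘ Spec (CommRingCat.of k)) (x i).left
          (Over.w (x i))).ker).subschemeι ≫ PicF.XTproj (C ↘ Spec (CommRingCat.of k)) T) ∧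
        idCls (I * ∏ i ∈ s, (secF (C ↘ Spec (CommRingCat.of k)) (x i).left (Over.w (x i))).ker) =
          idCls I * ∏ i ∈ s, pc (x i) ∧
        ∀ {I' : (PicF.XT (C ↘ Spec (CommRingCat.of k)) T).IdealSheafData},
          I * ∏ i ∈ s, (secF (C ↘ Spec (CommRingCat.of k)) (x i).left (Over.w (x i))).ker =
            I' * ∏ i ∈ s, (secF (C ↘ Spec (CommRingCat.of k)) (x i).left (Over.w (x i))).ker → I = I' := by
  classical
  haveI := hf.smoothOfRelativeDimension
  haveI := smooth_snd (f := C ↘ Spec (CommRingCat.of k)) T.hom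
  let D : α → (PicF.XT (C ↘ Spec (CommRingCat.of k)) T).IdealSheafData :=
    fun i => (secF (C ↘ Spec (CommRingCat.of k)) (x i).left (Over.w (x i))).ker
  intro d I hI
  show Mor2.IsFinLocFreeOfDeg (d + s.card) ((I * ∏ i ∈ s, D i).subschemeι ≫ PicF.XTproj (C ↘ Spec (CommRingCat.of k)) T) ∧
        idCls (I * ∏ i ∈ s, D i) = idCls I * ∏ i ∈ s, pc (x i) ∧
        ∀ {I' : (PicF.XT (C ↘ Spec (CommRingCat.of k)) T).IdealSheafData},
          I * ∏ i ∈ s, D i = I' * ∏ i ∈ s, D i → I = I'
  have hD : ∀ i, Mor2.IsFinLocFreeOfDeg 1 ((D i).subschemeι ≫ PicF.XTproj (C ↘ Spec (CommRingCat.of k)) T) :=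
    fun i => HilbPts.SC.prop_secF (C ↘ Spec (CommRingCat.of k)) (x i).left (Over.w (x i))
  induction s using Finset.induction_on with
  | empty =>
    have e0 : ∏ i ∈ (∅ : Finset α), D i = 1 := Finset.prod_empty
    have e1 : ∀ J : (PicF.XT (C ↘ Spec (CommRingCat.of k)) T).IdealSheafData, J * 1 = J := fun J => _root_.mul_one J
    rw [e0, e1, Finset.prod_empty, _root_.mul_one, Finset.card_empty]
    exact ⟨hI, rfl, fun {I'} h => by rwa [e1] at h⟩
  | @insert a s ha ih =>
    obtain ⟨h1, h2, h3⟩ := ih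
    have e0 : ∏ i ∈ insert a s, D i = D a * ∏ i ∈ s, D i := Finset.prod_insert ha
    have hsw : ∀ P : (PicF.XT (C ↘ Spec (CommRingCat.of k)) T).IdealSheafData,
        P * (D a * ∏ i ∈ s, D i) = D a * (P * ∏ i ∈ s, D i) := fun P => mul_left_comm P (D a) _
    rw [e0, Finset.prod_insert ha, Finset.card_insert_of_notMem ha, hsw]
    refine ⟨?_, ?_, fun {I'} h => h3 ?_⟩
    · rw [show d + (s.card + 1) = 1 + (d + s.card) by omega]
      exact HilbPts.SC.isFinLocFreeOfDeg_mul (PicF.XTproj (C ↘ Spec (CommRingCat.of k)) T) _ _ _ _ (hD a) h1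
    · refine ((cl_eq_iff.2 (SurfNumLib.nonempty_idealMod_mul (effCartier_sec hf (x a))
        (effCartier_of_finLocFree (f := C ↘ Spec (CommRingCat.of k)) (g := T.hom) h1.1))).symm.trans
          (cl_tensor _ _)).trans ((congrArg (pc (x a) * ·) h2).trans (mul_left_comm _ _ _))
    · exact HilbPts.SC.cancel_left (PicF.XTproj (C ↘ Spec (CommRingCat.of k)) T) (hD a).1 (h.trans (hsw _))

omit hf in
/-- Over an algebraically closed field some `g` points have one section. -/
theorem exists_good_tuple [IsAlgClosed k] :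
    ∃ (N : C.Modules) (x : Fin (Curv2.genus k C) → (Spec (CommRingCat.of k) ⟶ C)),
      (∀ i, x i ≫ (C ↘ Spec (CommRingCat.of k)) = 𝟙 _) ∧ PicF.IsInvertible N ∧
      cl N * ∏ i, idCls (x i).ker = 1 ∧ Good (C ↘ Spec (CommRingCat.of k)) N := by
  have hf : Fam (C ↘ Spec (CommRingCat.of k)) := ⟨inferInstance, inferInstance, inferInstance,
    fun s => (EllLawLib.dim_fiber_spec (C ↘ Spec (CommRingCat.of k)) s).trans hdim⟩
  have key : ∀ (n : ℕ) (N : C.Modules), PicF.IsInvertible N → Module.finrank k (Coh.HH C N 0) = n + 1 →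
      ∃ N' : C.Modules, PicF.IsInvertible N' ∧ Module.finrank k (Coh.HH C N' 0) = 1 ∧
        Curv2.deg k C N' 1 + n = Curv2.deg k C N 1 := by
    intro n
    induction n with
    | zero => exact fun N hN h0 => ⟨N, hN, h0, by omega⟩
    | succ n ih =>
      intro N hN h0
      obtain ⟨x, hx, hgen⟩ := exists_point_gen (k := k) hdim hN (by omega)
      have hI := IntMultLib.isInvertible_idealMod _ (AlgEquivCurveLib.isEffCartier_pt hdim x hx)
      have h := (h0_point (k := k) hdim x hx hN (cl_tensor N (ClSub.idealMod x.ker))).2 hgen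
      obtain ⟨N', hN', h1, h2⟩ := ih _ (HilbPolyLib.isInvertible_tensor hN hI) (by omega)
      have hd := deg_add_point (k := k) hdim x hx (L := CohB1.tensorMod N (ClSub.idealMod x.ker)) hN
        (cl_tensor _ _).symm
      exact ⟨N', hN', h1, by push_cast; omega⟩
  haveI := FibVALib.geometricallyIntegral_of_geometricallyConnected (C ↘ Spec (CommRingCat.of k))
  haveI : IsIntegral C := GeometricallyIntegral.isIntegral_of_subsingleton (C ↘ Spec (CommRingCat.of k))
  obtain ⟨σ, hσ, -⟩ := exists_point_gen (k := k) hdim (N := Coh.structureModule C) CurvLib.isInvertible_structureModule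
    (by rw [FibVALib.finrank_h0_structure k C hdim])
  set g := Curv2.genus k C
  obtain ⟨_, ⟨L, hL, rfl⟩, eL⟩ := (invC_pow' (invC_point hdim σ hσ) (2 * g + 1)).exists_inv
  have hdL := deg_of_pts (k := k) hdim (fun _ : Fin (2 * g + 1) => σ) (fun _ => hσ) hL
    (by rw [Finset.prod_const, Finset.card_univ, Fintype.card_fin, _root_.mul_comm]; exact eL)
  have h0 := h0_of_deg (k := k) hdim hL (by rw [hdL]; omega)
  obtain ⟨N, hN, hN1, hNd⟩ := key (g + 1) L hL (by push_cast at hdL; omega)
  have hd : Curv2.deg k C N 1 = g := by push_cast at hdL hNd; omega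
  obtain ⟨x, hx, ex⟩ := exists_points_of_h0 (k := k) hdim g hN hd (by omega)
  have hr := rr (k := k) hdim N
  exact ⟨N, x, hx, hN, ex, good_spec N hN hN1 (by omega)⟩

end JacAlbLib

end
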