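import Groth.Agent.JacAlbLib.ThetaUniv
import Groth.Agent.AVDualLib.Fam

/-!
# Translates of the inverse theta divisor define principal classes
-/

set_option autoImplicit false
set_option linter.style.haveILetI false
set_option linter.unusedSectionVars false
set_option backward.isDefEq.respectTransparency false
set_option backward.isDefEq.respectTransparency.types false
set_option maxRecDepth 8000
set_option maxHeartbeats 1000000

universe u

open CategoryTheory CategoryTheory.Limits AlgebraicGeometry TopologicalSpace MonoidalCategory CartesianMonoidalCategory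
open CubeConsLib (pull pull_comp pull_cl cl cl_eq_iff cl_tensor IsoCls PicA clA P pullA_P pullA MumfordZero)
open EllLawLib (idCls)
open PicCurveLib SymProd
open scoped MonObj

noncomputable section

namespace JacAlbLib

variable {k : Type u} [Field k] [IsAlgClosed k] {C : Scheme.{u}} [C.Over (Spec (CommRingCat.of k))]
  [IsProper (C ↘ Spec (CommRingCat.of k))] [Smooth (C ↘ Spec (CommRingCat.of k))]
  [GeometricallyConnected (C ↘ Spec (CommRingCat.of k))] (hdim : topologicalKrullDim ↥C = 1)
  (hf : Fam (C ↘ Spec (CommRingCat.of k))) {σ : Spec (CommRingCat.of k) ⟶ C}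
  {hσ : σ ≫ (C ↘ Spec (CommRingCat.of k)) = 𝟙 _} {J : Over (Spec (CommRingCat.of k))} [GrpObj J]
  {c : IsoCls (PicF.XT (C ↘ Spec (CommRingCat.of k)) J)} (hc : IsRigJac σ hσ J c)
  [IsProper J.hom] [Smooth J.hom] [GeometricallyIntegral J.hom] [IsCommMonObj J]
  {j : Over.mk (C ↘ Spec (CommRingCat.of k)) ⟶ J} (hj : IsAbel σ hσ c j)
include hdim hf hc hj

/-- **A translate of the inverse theta divisor has trivial `K(L)`.** -/
theorem principal_thetaMinus {n : ℕ} (hn : n + 1 = Curv2.genus k C)
    (a : 𝟙_ (Over (Spec (CommRingCat.of k))) ⟶ J) (Z : Closeds J.left)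
    (hZ : (Z : Set J.left) = (Jac.transl J a).left.base '' (((𝟙 J)⁻¹).left.base '' WSet j n))
    {La : J.left.Modules} (hLa : PicF.IsInvertible La)
    (hinv : ClSub.IsInverseOf La (ClSub.idealMod (Scheme.IdealSheafData.vanishingIdeal Z))) :
    AVDualLib.Principal hLa := by
  intro T z hz
  let f := C ↘ Spec (CommRingCat.of k)
  let X : Over (Spec (CommRingCat.of k)) := Over.mk f
  let A : X ⊗ T ⟶ J := fst X T ≫ j
  let B : X ⊗ T ⟶ J := snd X T ≫ z
  let aC : X ⊗ T ⟶ J := toUnit (X ⊗ T) ≫ a
  have h0 : P hLa (A * B) = P hLa A + P hLa B := by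
    have h := congrArg (pullA (lift A (snd X T)).left) hz
    rw [map_add, pullA_P, pullA_P, pullA_P, MonObj.comp_mul, lift_fst, lift_snd_assoc] at h
    exact h
  have h3 : P hLa (A * B * aC) = P hLa (A * aC) + P hLa (B * aC) := by
    have h := CubeConsLib.cube_field hLa A B aC
    rw [h0, CubeConsLib.P_const hLa, add_zero, add_assoc (P hLa (A * B * aC)), add_comm (P hLa (A * B * aC)),
      add_assoc (P hLa A + P hLa B)] at h
    exact add_left_cancel h
  have h4 : pull (Y := PicF.XT f T) (A * B * aC).left (cl La) =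
      pull (Y := PicF.XT f T) (A * aC).left (cl La) * pull (Y := PicF.XT f T) (B * aC).left (cl La) :=
    congrArg (fun x : PicA (X ⊗ T).left => ((Additive.toMul x : (IsoCls (X ⊗ T).left)ˣ) : IsoCls (X ⊗ T).left)) h3
  have eA : (A * aC).left = pullback.fst f T.hom ≫ (j ≫ Jac.transl J a).left := by
    refine congrArg CommaMorphism.left (?_ : A * aC = fst X T ≫ j ≫ Jac.transl J a)
    rw [Jac.transl, ← Category.assoc, MonObj.comp_mul, Category.comp_id, ← Category.assoc,
      toUnit_unique (_ ≫ toUnit J) (toUnit _)]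
  have eB : (B * aC).left = PicF.XTproj f T ≫ (z ≫ Jac.transl J a).left := by
    refine congrArg CommaMorphism.left (?_ : B * aC = snd X T ≫ z ≫ Jac.transl J a)
    rw [Jac.transl, ← Category.assoc, MonObj.comp_mul, Category.comp_id, ← Category.assoc,
      toUnit_unique (_ ≫ toUnit J) (toUnit _)]
  obtain ⟨⟨m, hm, em⟩, key⟩ := exists_univ_twist hdim hf hc hj hn a Z hZ hLa hinv
  have hσg : pull (Y := C) ((j ≫ Jac.transl J a).left) (cl La) * idCls σ.ker ^ (n + 1) = 1 := by
    have h := key 1
    rw [tcl_one hdim hf hc, inv_one, _root_.one_mul] at h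
    exact h.symm
  let mu : X ⊗ J ⟶ J := (fst X J ≫ j) * (snd X J ≫ (𝟙 J)⁻¹) * (toUnit (X ⊗ J) ≫ a)
  have hmu : PicF.XTmap f z⁻¹ ≫ mu.left = (A * B * aC).left := by
    have hs : PicF.XTmap f z⁻¹ = (lift (fst X T) (snd X T ≫ z⁻¹)).left := by
      apply pullback.hom_ext <;> simp [X, f, PicF.XTmap] <;> rfl
    rw [hs]
    refine congrArg CommaMorphism.left (?_ : lift (fst X T) (snd X T ≫ z⁻¹) ≫ mu = A * B * aC)
    rw [MonObj.comp_mul, MonObj.comp_mul, lift_fst_assoc, lift_snd_assoc, ← Category.assoc (lift _ _),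
      toUnit_unique (lift _ _ ≫ toUnit _) (toUnit _), Category.assoc, GrpObj.comp_inv, Category.comp_id, inv_inv]
  have hkey : pull (PicF.XTmap f z⁻¹) c = pull (PicF.XTproj f T)
      (pull (z ≫ Jac.transl J a).left (cl La) * pull (z⁻¹).left m) := by
    rw [em, map_mul, map_mul, pull_comp, pull_comp, DescAppLib.XTmap_proj, ← pull_comp (PicF.XTproj f T)]
    rw [show pull (PicF.XTmap f z⁻¹ ≫ mu.left) (cl La) = _ from congrArg (fun g => pull g (cl La)) hmu, h4, eA, eB,
      ← pull_comp (pullback.fst f T.hom), ← pull_comp (PicF.XTproj f T), map_prod,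
      Finset.prod_congr rfl (fun i _ => (pull_pc hf z⁻¹ (base σ hσ J)).trans (congrArg pc (comp_base z⁻¹))),
      Finset.prod_const, Finset.card_univ, Fintype.card_fin, pc_base_eq hdim hf T, ← map_pow,
      map_mul (pull (PicF.XTproj f T))]
    have h1 : pull (pullback.fst f T.hom) (pull (Y := C) ((j ≫ Jac.transl J a).left) (cl La)) *
        pull (pullback.fst f T.hom) (idCls σ.ker ^ (n + 1)) = 1 :=
      (map_mul (pull (pullback.fst f T.hom)) _ _).symm.trans ((congrArg _ hσg).trans (map_one _))
    calc _ = pull (PicF.XTproj f T) (pull (z ≫ Jac.transl J a).left (cl La)) * pull (PicF.XTproj f T) (pull (z⁻¹).left m) *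
          (pull (pullback.fst f T.hom) (pull (Y := C) ((j ≫ Jac.transl J a).left) (cl La)) *
            pull (pullback.fst f T.hom) (idCls σ.ker ^ (n + 1))) := by ac_rfl
      _ = _ := (congrArg (_ * ·) h1).trans (_root_.mul_one _)
  have hr := congrArg (pull (PicF.secT f σ hσ T)) hkey
  rw [(rigZero_pull hf σ hσ z⁻¹ hc.rigZero).rig, pull_comp, DescAppLib.secT_proj, DescAppLib.pull_id] at hr
  have h1 : z⁻¹ = 1 := hom_ext hf hc (by rw [hkey, ← hr, map_one, pull_one hf hc])
  exact inv_eq_one.1 h1

end JacAlbLib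

end
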