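import Groth.Agent.JacAlbLib.ThetaLocus
import Groth.Agent.JacAlbLib.ThetaPrincipal
import Groth.Agent.SecDivLib.Zero
import Groth.Agent.VBHypLib.Hyp
import Groth.Agent.SurfNumLib.Eff
import Groth.Agent.AVAmpleLib.NonDegen

/-!
# The theta bundle over an algebraically closed field
-/

set_option autoImplicit false
set_option linter.style.haveILetI false
set_option linter.unusedSectionVars false
set_option backward.isDefEq.respectTransparency false
set_option backward.isDefEq.respectTransparency.types false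
set_option maxRecDepth 8000
set_option maxHeartbeats 1000000

universe u

open CategoryTheory CategoryTheory.Limits AlgebraicGeometry TopologicalSpace MonoidalCategory CartesianMonoidalCategory
open CubeConsLib (pull pull_comp pull_cl cl cl_eq_iff cl_tensor IsoCls)
open EllLawLib (idCls)
open PicCurveLib SymProd
open scoped MonObj

noncomputable section

namespace JacAlbLib

variable {k : Type u} [Field k] [IsAlgClosed k] {C : Scheme.{u}} [C.Over (Spec (CommRingCat.of k))]
  [IsProper (C ↘ Spec (CommRingCat.of k))] [Smooth (C ↘ Spec (CommRingCat.of k))]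
  [GeometricallyConnected (C ↘ Spec (CommRingCat.of k))] (hdim : topologicalKrullDim ↥C = 1)
include hdim

/-- A curve over an algebraically closed field has a rational point. -/
theorem exists_sigma : ∃ σ : Spec (CommRingCat.of k) ⟶ C, σ ≫ (C ↘ Spec (CommRingCat.of k)) = 𝟙 _ := by
  haveI : JacobsonSpace C := LocallyOfFiniteType.jacobsonSpace (C ↘ Spec (CommRingCat.of k))
  have hne : Nonempty C := by
    by_contra h
    rw [not_nonempty_iff] at h
    haveI : IsEmpty (IrreducibleCloseds C) := ⟨fun Z => h.false Z.isIrreducible.nonempty.some⟩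
    rw [topologicalKrullDim, Order.krullDim_eq_bot] at hdim
    exact absurd hdim WithBot.bot_ne_one
  obtain ⟨p, -, hp⟩ := nonempty_inter_closedPoints (Z := (Set.univ : Set C)) Set.univ_nonempty isClosed_univ.isLocallyClosed
  exact ⟨pointOfClosedPoint _ p hp, pointOfClosedPoint_comp _ p hp⟩

variable (hf : Fam (C ↘ Spec (CommRingCat.of k))) {σ : Spec (CommRingCat.of k) ⟶ C}
  {hσ : σ ≫ (C ↘ Spec (CommRingCat.of k)) = 𝟙 _} {J : Over (Spec (CommRingCat.of k))} [GrpObj J]
  {c : IsoCls (PicF.XT (C ↘ Spec (CommRingCat.of k)) J)} (hc : IsRigJac σ hσ J c)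
include hf hc

omit [IsAlgClosed k] in
/-- The canonical point. -/
theorem exists_kappa {n : ℕ} (hn : n + 1 = Curv2.genus k C) :
    ∃ κ : 𝟙_ (Over (Spec (CommRingCat.of k))) ⟶ J, tcl c κ = omegaCls k C * idCls σ.ker ^ (n + n) := by
  obtain ⟨N, hN, eN⟩ := exists_twist hdim hf hc 1 n
  obtain ⟨M, hM, eM, hNM⟩ := exists_dual (k := k) hdim hN
  have hMN := h1_eq_h0' (k := k) hdim hM hN (L := M) (M := N) (by rw [_root_.mul_comm]; exact eM)
  have r1 := rr (k := k) hdim N
  have r2 := rr (k := k) hdim M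
  have dN := deg_twist hdim hf hc 1 n hN eN
  rw [tcl_one hdim hf hc] at eN
  have dM : Curv2.deg k C M 1 = (n : ℤ) := by omega
  obtain ⟨t', ht'⟩ : ∃ Q : C.Modules, PicF.IsInvertible Q ∧ cl Q = cl M * idCls σ.ker ^ n := by
    obtain ⟨Q, hQ, eQ⟩ := InvC.mul ⟨M, hM, rfl⟩ (invC_sigma_pow (k := k) hdim hσ n)
    exact ⟨Q, hQ, eQ⟩
  have dQ : Curv2.deg k C t' 1 = 0 := by
    have h : ∀ (r : ℕ) (Q : C.Modules), PicF.IsInvertible Q → cl Q = cl M * idCls σ.ker ^ r →
        Curv2.deg k C Q 1 + r = Curv2.deg k C M 1 := by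
      intro r
      induction r with
      | zero => intro Q _ e; rw [pow_zero, _root_.mul_one] at e; rw [deg_congr' (k := k) e, Nat.cast_zero, add_zero]
      | succ r ih =>
        intro Q hQ e
        obtain ⟨Q', hQ', eQ'⟩ := exists_div hQ (invC_point hdim σ hσ)
        have h1 := deg_add_point (k := k) hdim σ hσ hQ' eQ'
        have h2 := ih Q' hQ' ((invC_point hdim σ hσ).isUnit.mul_right_cancel
          (by rw [eQ', e, pow_succ, _root_.mul_assoc]))
        push_cast
        omega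
    have := h n t' ht'.1 ht'.2
    omega
  obtain ⟨κ, hκ⟩ := exists_tcl_eq hdim hf hc ht'.1 dQ
  refine ⟨κ, ?_⟩
  rw [hκ, ht'.2, ← eM, pow_add]
  calc cl M * idCls σ.ker ^ n = cl M * (cl N * idCls σ.ker ^ n) * idCls σ.ker ^ n := by rw [eN, _root_.mul_one]
    _ = _ := by ac_rfl

variable [IsProper J.hom] [Smooth J.hom] [GeometricallyIntegral J.hom] [IsCommMonObj J]
  {ψ : (ModFun.PicDeg (C ↘ Spec (CommRingCat.of k)) 0).Hom ⊤ J}
  (hψ : ∀ (T : Over (Spec (CommRingCat.of k))) (L : (PicF.XT (C ↘ Spec (CommRingCat.of k)) T).Modules)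
    (hL : (ModFun.PicDeg (C ↘ Spec (CommRingCat.of k)) 0).ok T L),
    ∃ n : IsoCls T.left, InvC n ∧ pull (PicF.XTmap (C ↘ Spec (CommRingCat.of k)) (ψ.app T L trivial hL)) c =
      cl L * pull (PicF.XTproj (C ↘ Spec (CommRingCat.of k)) T) n)
include hψ

/-- **The theta bundle is principal.** -/
theorem principal_theta {n : ℕ} (hn : n + 1 = Curv2.genus k C) {N : C.Modules} (hN : PicF.IsInvertible N)
    (hNdeg : Curv2.deg k C N 1 = (n : ℤ)) {Θ : J.left.Modules}
    (hΘ : Jac.IsThetaLB (C ↘ Spec (CommRingCat.of k)) 0 ψ N Θ) :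
    AVDualLib.Principal hΘ.1 := by
  obtain ⟨j, hj⟩ := exists_abel (σ := σ) (hσ := hσ) hf hc
  obtain ⟨a, ha⟩ := exists_thetaLocus_eq hdim hf hc hj hψ hn hN hNdeg
  obtain ⟨κ, hκ⟩ := exists_kappa hdim hf hc hn
  refine principal_thetaMinus hdim hf hc hj hn (κ * a) ⟨_, isClosed_closure⟩ (ha.trans ?_) hΘ.1 hΘ.2
  refine eq_of_points (isClosed_transl _ (isClosed_WSet j n)) (isClosed_transl _ (isClosed_inv (isClosed_WSet j n)))
    fun z => ?_
  rw [mem_transl, mem_transl, mem_inv, ← mem_kappa hdim hf hc hj κ hn hκ,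
    show (z * (κ * a)⁻¹)⁻¹ = κ * (z * a⁻¹)⁻¹ by simp only [mul_inv_rev, inv_inv]; ac_rfl]

/-- **The theta bundle is ample.** -/
theorem isAmple_theta {n : ℕ} (hn : n + 1 = Curv2.genus k C) {N : C.Modules} (hN : PicF.IsInvertible N)
    (hNdeg : Curv2.deg k C N 1 = (n : ℤ)) {Θ : J.left.Modules}
    (hΘ : Jac.IsThetaLB (C ↘ Spec (CommRingCat.of k)) 0 ψ N Θ) : CohB1.IsAmple Θ := by
  have hp := principal_theta hdim hf hc hψ hn hN hNdeg hΘ
  haveI : IsIntegral J.left := GeometricallyIntegral.isIntegral_of_subsingleton J.hom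
  obtain ⟨L, hL, hinv⟩ : ∃ L, L = Θ ∧ ClSub.IsInverseOf L (ClSub.idealMod
      (Scheme.IdealSheafData.vanishingIdeal ⟨Jac.thetaLocus (C ↘ Spec (CommRingCat.of k)) 0 ψ N, isClosed_closure⟩)) :=
    ⟨Θ, rfl, hΘ.2⟩
  subst hL
  have hI := IntMultLib.isEffCartier_of_isInvertible _ (CohCmpLib.isInvertible_of_inverse' hΘ.1 hinv.some)
  obtain ⟨s, hs⟩ := SecDivLib.exists_secHom hΘ.1 hI hinv
  refine AVAmpleLib.isAmple_of_nonDegenerate hΘ.1 s (fun h0 => ?_) ((Set.finite_singleton 1).subset fun a ha => ?_)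
  · rw [h0, VBHyp.zeroScheme_zero hΘ.1] at hs
    exact SurfNumLib.effCartier_ne_bot hI hs.symm
  · refine hp _ a ?_
    show CubeConsLib.P hΘ.1 (fst J (𝟙_ _) * (snd J (𝟙_ _) ≫ a)) = _
    rw [toUnit_unique (snd J (𝟙_ _)) (toUnit _), CubeConsLib.P_const hΘ.1, add_zero,
      show fst J (𝟙_ _) * (toUnit (J ⊗ 𝟙_ _) ≫ a) = fst J (𝟙_ _) ≫ AVAmpleLib.tR a by
        rw [AVAmpleLib.tR, MonObj.comp_mul, Category.comp_id, ← Category.assoc, toUnit_unique (_ ≫ toUnit J) (toUnit _)],
      ← CubeConsLib.pullA_P, show CubeConsLib.P hΘ.1 (AVAmpleLib.tR a) = CubeConsLib.clA hΘ.1 from ha,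
      ← CubeConsLib.P_id hΘ.1, CubeConsLib.pullA_P, Category.comp_id]

end JacAlbLib

end
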