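import Groth.Agent.JacAlbLib.ThetaTransl
import Groth.Agent.JacAlbLib.BaseChange
import Groth.Agent.JacAlbLib.TorelliBC
import Groth.Agent.AlgSpRegLib.CutByApps

/-!
# Base change of bundles of translates of `W^(g-1)`
-/

set_option autoImplicit false
set_option linter.style.haveILetI false
set_option linter.unusedSectionVars false
set_option backward.isDefEq.respectTransparency false
set_option backward.isDefEq.respectTransparency.types false
set_option maxRecDepth 8000
set_option maxHeartbeats 1000000

universe u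

open CategoryTheory CategoryTheory.Limits AlgebraicGeometry TopologicalSpace MonoidalCategory CartesianMonoidalCategory
open CubeConsLib (pull pull_comp pull_cl cl cl_eq_iff cl_tensor IsoCls)
open AVIndexLib (dn dnMap toDn toDn_injective toDn_comp toDn_mul toDn_comp_map diagBc toDn_diag_map)
open EllLawLib (idCls)
open PicCurveLib SymProd
open scoped MonObj

noncomputable section

namespace JacAlbLib

/-- The vanishing ideal of the image of a quasi-compact morphism base changes, if the source stays reduced. -/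
theorem comap_vanishingIdeal_range {X X' W W' : Scheme.{u}} {g : X' ⟶ X} {g' : W' ⟶ W} {f : W ⟶ X} {f' : W' ⟶ X'}
    (sq : IsPullback g' f' f g) [QuasiCompact f] [Flat g] [IsReduced W] [IsReduced W'] (Z : Closeds X)
    (hZ : (Z : Set X) = Set.range f.base) :
    (Scheme.IdealSheafData.vanishingIdeal Z).comap g =
      Scheme.IdealSheafData.vanishingIdeal ⟨g.base ⁻¹' Z, Z.isClosed.preimage g.continuous⟩ := by
  haveI : QuasiCompact f' := MorphismProperty.of_isPullback (P := @QuasiCompact) sq ‹_›
  have h1 : Scheme.IdealSheafData.vanishingIdeal Z = f.ker := by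
    rw [AlgSpRegLib.ker_eq_vanishingIdeal f]
    congr 1
    exact Closeds.ext (by show (Z : Set X) = closure (Set.range f.base); rw [← hZ, Z.isClosed.closure_eq])
  rw [h1, ← AlgSpRegLib.ker_eq_comap_of_isPullback sq, AlgSpRegLib.ker_eq_vanishingIdeal f']
  congr 1
  refine Closeds.ext ?_
  show closure (Set.range f'.base) = g.base ⁻¹' Z
  have hr : Set.range f'.base = g.base ⁻¹' Set.range f.base := by
    ext p
    constructor
    · rintro ⟨w, rfl⟩
      refine ⟨g'.base w, ?_⟩
      show f (g' w) = g (f' w)
      rw [← Scheme.Hom.comp_apply, ← Scheme.Hom.comp_apply, sq.w]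
    · rintro ⟨w, hw⟩
      obtain ⟨z, -, hz⟩ := Scheme.Pullback.exists_preimage_pullback (f := f) (g := g) w p hw
      refine ⟨sq.isoPullback.inv z, ?_⟩
      show f' (sq.isoPullback.inv z) = p
      rw [← Scheme.Hom.comp_apply, IsPullback.isoPullback_inv_snd]
      exact hz
  rw [hr, ← hZ, (Z.isClosed.preimage g.continuous).closure_eq]

variable {k : Type u} [Field k] {C : Scheme.{u}} [C.Over (Spec (CommRingCat.of k))]
  [IsProper (C ↘ Spec (CommRingCat.of k))] [Smooth (C ↘ Spec (CommRingCat.of k))]
  [GeometricallyConnected (C ↘ Spec (CommRingCat.of k))] (hdim : topologicalKrullDim ↥C = 1)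
  (hf : Fam (C ↘ Spec (CommRingCat.of k))) {σ : Spec (CommRingCat.of k) ⟶ C}
  {hσ : σ ≫ (C ↘ Spec (CommRingCat.of k)) = 𝟙 _} {J : Over (Spec (CommRingCat.of k))} [GrpObj J]
  {c : IsoCls (PicF.XT (C ↘ Spec (CommRingCat.of k)) J)} (hc : IsRigJac σ hσ J c)
  [IsProper J.hom] [Smooth J.hom] [GeometricallyIntegral J.hom] [IsCommMonObj J]
  {j : Over.mk (C ↘ Spec (CommRingCat.of k)) ⟶ J} (hj : IsAbel σ hσ c j)
  {n : ℕ} (hn : n + 1 = Curv2.genus k C) (a : 𝟙_ (Over (Spec (CommRingCat.of k))) ⟶ J) (Z : Closeds J.left)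
  (hZ : (Z : Set J.left) = (Jac.transl J a).left.base '' WSet j n)
  {L : J.left.Modules} (hL : PicF.IsInvertible L)
  (hinv : ClSub.IsInverseOf L (ClSub.idealMod (Scheme.IdealSheafData.vanishingIdeal Z)))
include hdim hf hc hj hn hZ hL hinv

/-- **A translate of `W^(g-1)` and its bundle over an algebraically closed extension.** -/
theorem exists_bc_translate (K : Type u) [Field K] [IsAlgClosed K] [Algebra k K] :
    ∃ (aK : 𝟙_ (Over (Spec (CommRingCat.of K))) ⟶ Red.bc (Spec.map (CommRingCat.ofHom (algebraMap k K))) J) (Z' : Closeds (Red.bc (Spec.map (CommRingCat.ofHom (algebraMap k K))) J).left),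
      toDn (Spec.map (CommRingCat.ofHom (algebraMap k K))) aK = toUnit (dn (Spec.map (CommRingCat.ofHom (algebraMap k K))) (𝟙_ _)) ≫ a ∧
      (Z' : Set (Red.bc (Spec.map (CommRingCat.ofHom (algebraMap k K))) J).left) = (Jac.transl (Red.bc (Spec.map (CommRingCat.ofHom (algebraMap k K))) J) aK).left.base ''
        WSet (C := pullback (C ↘ Spec (CommRingCat.of k)) (Spec.map (CommRingCat.ofHom (algebraMap k K)))) ((Over.pullback (Spec.map (CommRingCat.ofHom (algebraMap k K)))).map j) n ∧
      ClSub.IsInverseOf ((Scheme.Modules.pullback (pullback.fst J.hom (Spec.map (CommRingCat.ofHom (algebraMap k K))))).obj L)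
        (ClSub.idealMod (Scheme.IdealSheafData.vanishingIdeal Z')) := by
  let t : Spec (CommRingCat.of K) ⟶ Spec (CommRingCat.of k) := Spec.map (CommRingCat.ofHom (algebraMap k K))
  let f := C ↘ Spec (CommRingCat.of k)
  let T : Over (Spec (CommRingCat.of K)) := 𝟙_ _
  let CK := Curv2.bc k C K
  letI : CK.Over (Spec (CommRingCat.of K)) := ⟨pullback.snd f t⟩
  have hfK : Fam (CK ↘ Spec (CommRingCat.of K)) := fam_snd hf t
  haveI := hfK.proper; haveI := hfK.smooth; haveI := hfK.conn
  haveI : IsProper (pullback.snd f t) := hfK.proper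
  haveI : Smooth (pullback.snd f t) := hfK.smooth
  let JK := Red.bc t J
  haveI : IsProper JK.hom := MorphismProperty.pullback_snd J.hom t inferInstance
  haveI : Smooth JK.hom := MorphismProperty.pullback_snd J.hom t inferInstance
  haveI : GeometricallyIntegral JK.hom := MorphismProperty.pullback_snd J.hom t inferInstance
  haveI : IsCommMonObj JK := CubeConsLib.isCommMonObj_field
  haveI := FibVALib.geometricallyIntegral_of_geometricallyConnected f
  have hcK := isRigJac_bc t hf hc
  have hjK := isAbel_bc t hf hj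
  have hdK : topologicalKrullDim ↥CK = 1 := dim_total hfK
  have hgK : Curv2.genus K CK = Curv2.genus k C := VeryAmpleLib.genus_bc k C K
  let jK : Over.mk (CK ↘ Spec (CommRingCat.of K)) ⟶ JK := (Over.pullback t).map j
  let s := T.hom ≫ t
  obtain ⟨aK, haK⟩ := exists_toDn_eq t T (toUnit (dn t T) ≫ a : dn t T ⟶ J)
  haveI : Flat t := by
    rw [HasRingHomProperty.Spec_iff (P := @Flat)]
    show RingHom.Flat (algebraMap k K)
    rw [RingHom.flat_algebraMap_iff]
    infer_instance
  let p := pullback.fst J.hom t
  haveI : Flat p := MorphismProperty.pullback_fst J.hom t inferInstance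
  let Z' : Closeds JK.left := ⟨p.base ⁻¹' Z, Z.isClosed.preimage p.continuous⟩
  have hZ' : (Z' : Set JK.left) = (Jac.transl JK aK).left.base '' WSet jK n := by
    refine eq_of_points Z'.isClosed (isClosed_transl _ (isClosed_WSet jK n)) fun z => ?_
    show gpt s (toDn t z) ∈ (Z : Set J.left) ↔ _
    rw [hZ, mem_transl, mem_WSet_iff, gpt_mem_transl, gpt_mem_WSet_iff]
    refine Iff.trans ?_ (exists_prod_bc_iff t j (z * aK⁻¹)).symm
    rw [← toDnHom_apply t T (z * aK⁻¹), map_mul, map_inv, toDnHom_apply, toDnHom_apply, haK]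
  let P : Over (Spec (CommRingCat.of k)) := Over.mk (WidePullback.base fun (_ : Fin n) => f)
  let Φ : P ⟶ J := Wmap j n ≫ Jac.transl J a
  haveI hPs : Smooth P.hom := (fb_props f n).1
  haveI : IsProper P.hom := isProper_wide n
  haveI : IsProper (Φ.left ≫ J.hom) := by rw [Over.w Φ]; infer_instance
  haveI : IsProper Φ.left := IsProper.of_comp _ J.hom
  haveI : IsReduced P.left := AlgSpLib.isReduced_of_smooth P.hom
  haveI : IsReduced (pullback Φ.left p) := by
    let W := pullback Φ.left p
    let q : W ⟶ Spec (CommRingCat.of K) := pullback.snd Φ.left p ≫ pullback.snd J.hom t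
    have sq : IsPullback (pullback.fst Φ.left p) q P.hom t :=
      Over.w Φ ▸ (IsPullback.of_hasPullback Φ.left p).paste_vert (IsPullback.of_hasPullback J.hom t)
    haveI : Smooth q := MorphismProperty.of_isPullback (P := @Smooth) sq hPs
    exact AlgSpLib.isReduced_of_smooth q
  have hZr : (Z : Set J.left) = Set.range Φ.left.base := by
    rw [hZ, Over.comp_left, Scheme.Hom.comp_base, TopCat.coe_comp, Set.range_comp]
  have hcomap := comap_vanishingIdeal_range (IsPullback.of_hasPullback Φ.left p) Z hZr
  let LK : JK.left.Modules := (Scheme.Modules.pullback p).obj L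
  have hLK : PicF.IsInvertible LK := AmpleDevLib.isInvertible_pb p hL
  have hI := IntMultLib.isEffCartier_of_isInvertible _ (CohCmpLib.isInvertible_of_inverse' hL hinv.some)
  have hI' : BlowUp.IsEffCartierIdeal ((Scheme.IdealSheafData.vanishingIdeal Z).comap p) := by
    rw [hcomap]
    exact isEffCartier_transl_WSet hdK hfK hcK hjK (hn.trans hgK.symm) aK Z' hZ'
  have hinvK : ClSub.IsInverseOf LK (ClSub.idealMod (Scheme.IdealSheafData.vanishingIdeal Z')) := by
    refine CubeConsLib.cl_eq_one_iff.1 ((cl_tensor _ _).trans ?_)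
    show cl LK * idCls (Scheme.IdealSheafData.vanishingIdeal Z') = 1
    rw [← show _ = Scheme.IdealSheafData.vanishingIdeal Z' from hcomap,
      ← EllLawLib.pull_idCls p hI hI', ← pull_cl]
    refine (map_mul (pull p) _ _).symm.trans ?_
    exact (congrArg (pull p) (((cl_tensor _ _).symm).trans (cl_eq_iff.2 hinv))).trans (map_one _)
  exact ⟨aK, Z', haK, hZ', hinvK⟩

/-- **The bundle of a translate of `W^(g-1)` over an algebraically closed extension.** -/
theorem theta_bc (K : Type u) [Field K] [IsAlgClosed K] [Algebra k K] :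
    CohB1.IsAmple (show (Red.bc (Spec.map (CommRingCat.ofHom (algebraMap k K))) J).left.Modules from
        (Scheme.Modules.pullback (pullback.fst J.hom (Spec.map (CommRingCat.ofHom (algebraMap k K))))).obj L) ∧
    (∀ hLK : PicF.IsInvertible (show (Red.bc (Spec.map (CommRingCat.ofHom (algebraMap k K))) J).left.Modules from
        (Scheme.Modules.pullback (pullback.fst J.hom (Spec.map (CommRingCat.ofHom (algebraMap k K))))).obj L),
      AVDualLib.Principal hLK) ∧
    ∀ Λ : (PicF.XT (Red.bc (Spec.map (CommRingCat.ofHom (algebraMap k K))) J).hom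
        (Red.bc (Spec.map (CommRingCat.ofHom (algebraMap k K))) J)).Modules,
      AgPol.IsLambdaSheaf (μ[Red.bc (Spec.map (CommRingCat.ofHom (algebraMap k K))) J].left :
          PicF.XT (Red.bc (Spec.map (CommRingCat.ofHom (algebraMap k K))) J).hom _ ⟶ _)
        (fst (Red.bc (Spec.map (CommRingCat.ofHom (algebraMap k K))) J) (Red.bc (Spec.map (CommRingCat.ofHom (algebraMap k K))) J)).left
        (snd (Red.bc (Spec.map (CommRingCat.ofHom (algebraMap k K))) J) (Red.bc (Spec.map (CommRingCat.ofHom (algebraMap k K))) J)).left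
        ((Scheme.Modules.pullback (pullback.fst J.hom (Spec.map (CommRingCat.ofHom (algebraMap k K))))).obj L) Λ →
      pull (PicF.XTmap (pullback.snd (C ↘ Spec (CommRingCat.of k)) (Spec.map (CommRingCat.ofHom (algebraMap k K))))
            ((𝟙 (Red.bc (Spec.map (CommRingCat.ofHom (algebraMap k K))) J))⁻¹) ≫
          AbDual.bcMap ((Over.pullback (Spec.map (CommRingCat.ofHom (algebraMap k K)))).map j)
            (Red.bc (Spec.map (CommRingCat.ofHom (algebraMap k K))) J)) (cl Λ) =
        bcCls (Spec.map (CommRingCat.ofHom (algebraMap k K))) c := by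
  let t : Spec (CommRingCat.of K) ⟶ Spec (CommRingCat.of k) := Spec.map (CommRingCat.ofHom (algebraMap k K))
  let f := C ↘ Spec (CommRingCat.of k)
  let CK := Curv2.bc k C K
  letI : CK.Over (Spec (CommRingCat.of K)) := ⟨pullback.snd f t⟩
  have hfK : Fam (CK ↘ Spec (CommRingCat.of K)) := fam_snd hf t
  haveI := hfK.proper; haveI := hfK.smooth; haveI := hfK.conn
  haveI : IsProper (pullback.snd f t) := hfK.proper
  haveI : Smooth (pullback.snd f t) := hfK.smooth
  let JK := Red.bc t J
  haveI : IsProper JK.hom := MorphismProperty.pullback_snd J.hom t inferInstance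
  haveI : Smooth JK.hom := MorphismProperty.pullback_snd J.hom t inferInstance
  haveI : GeometricallyIntegral JK.hom := MorphismProperty.pullback_snd J.hom t inferInstance
  haveI : IsCommMonObj JK := CubeConsLib.isCommMonObj_field
  have hcK := isRigJac_bc t hf hc
  have hjK := isAbel_bc t hf hj
  have hdK : topologicalKrullDim ↥CK = 1 := dim_total hfK
  have hgK : Curv2.genus K CK = Curv2.genus k C := VeryAmpleLib.genus_bc k C K
  obtain ⟨aK, Z', -, hZ', hinvK⟩ := exists_bc_translate hdim hf hc hj hn a Z hZ hL hinv K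
  have hLK : PicF.IsInvertible ((Scheme.Modules.pullback (pullback.fst J.hom t)).obj L) :=
    AmpleDevLib.isInvertible_pb _ hL
  exact ⟨isAmple_translW hdK hfK hcK hjK (hn.trans hgK.symm) aK Z' hZ' hLK hinvK,
    fun hLK' => principal_translW hdK hfK hcK hjK (hn.trans hgK.symm) aK Z' hZ' hLK' hinvK,
    fun Λ hΛ => pull_lambda_translW hdK hfK hcK hjK (hn.trans hgK.symm) aK Z' hZ' hLK hinvK hΛ⟩

end JacAlbLib

end
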