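import Groth.Agent.JacAlbLib.ThetaCurve
import Groth.Agent.ModPairLib.Product

/-!
# The class of the translated inverse theta divisor on the curve
-/

set_option autoImplicit false
set_option linter.style.haveILetI false
set_option linter.unusedSectionVars false
set_option backward.isDefEq.respectTransparency false
set_option backward.isDefEq.respectTransparency.types false
set_option maxRecDepth 8000
set_option maxHeartbeats 1000000

universe u

open CategoryTheory CategoryTheory.Limits AlgebraicGeometry TopologicalSpace MonoidalCategory CartesianMonoidalCategory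
open CubeConsLib (pull pull_comp pull_cl cl cl_eq_iff cl_tensor IsoCls)
open EllLawLib (idCls)
open PicCurveLib SymProd
open HilbPts.SC (fb fp fp_comp)
open scoped MonObj

noncomputable section

namespace JacAlbLib

section Curve

variable {k : Type u} [Field k] {C : Scheme.{u}} [C.Over (Spec (CommRingCat.of k))]
  [IsProper (C ↘ Spec (CommRingCat.of k))] [Smooth (C ↘ Spec (CommRingCat.of k))]
  [GeometricallyConnected (C ↘ Spec (CommRingCat.of k))] (hdim : topologicalKrullDim ↥C = 1)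
include hdim

omit hdim in
/-- A module inverse to an ideal makes it an effective Cartier ideal. -/
theorem effCartier_of_inverse {X : Scheme.{u}} {L : X.Modules} (hL : PicF.IsInvertible L) {I : X.IdealSheafData}
    (h : ClSub.IsInverseOf L (ClSub.idealMod I)) : BlowUp.IsEffCartierIdeal I ∧ cl L * idCls I = 1 := by
  have e : cl L * idCls I = 1 := (cl_tensor _ _).symm.trans (cl_eq_iff.2 h)
  obtain ⟨b, ⟨N, hN, rfl⟩, hb⟩ := InvC.exists_inv (c := cl L) ⟨L, hL, rfl⟩
  refine ⟨IntMultLib.isEffCartier_of_isInvertible _ (HilbPolyLib.isInvertible_of_iso (cl_eq_iff.1 ?_).some hN), e⟩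
  calc cl N = cl N * (cl L * idCls I) := by rw [e, mul_one]
    _ = cl L * cl N * idCls I := by ac_rfl
    _ = idCls I := by rw [hb, one_mul]

/-- The ideal of a sum of distinct points. -/
theorem iInf_eq_prod_pts {n : ℕ} (D : Fin n → (Spec (CommRingCat.of k) ⟶ C))
    (hD : ∀ i, D i ≫ (C ↘ Spec (CommRingCat.of k)) = 𝟙 _) (hinj : ∀ i i', D i = D i' → i = i') :
    (⨅ i, (D i).ker) = ∏ i, (D i).ker := by
  classical
  have key : ∀ s : Finset (Fin n), (∏ i ∈ s, (D i).ker) = ⨅ i ∈ s, (D i).ker := by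
    intro s
    induction s using Finset.cons_induction with
    | empty => simp [Scheme.IdealSheafData.one_eq_top]
    | cons a s ha ih =>
      rw [Finset.prod_cons, Finset.cons_eq_insert, Finset.iInf_insert, ← ih]
      rcases s.eq_empty_or_nonempty with rfl | hs
      · simp [Scheme.IdealSheafData.one_eq_top]
      · have htop : (D a).ker ⊔ (∏ i ∈ s, (D i).ker) = ⊤ := by
          rw [← Scheme.IdealSheafData.support_eq_bot_iff, eq_bot_iff]
          intro p hp
          obtain ⟨i, hi, hpi⟩ := (mem_support_prod s _ p).1 (Scheme.IdealSheafData.support_antitone le_sup_right hp)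
          have hpa := (support_ker_point hdim (D a) (hD a) p).1 (Scheme.IdealSheafData.support_antitone le_sup_left hp)
          have hpi' := (support_ker_point hdim (D i) (hD i) p).1 hpi
          exact absurd (hinj a i (eq_of_point_eq hdim (hD a) (hD i) (hpa.symm.trans hpi'))) (fun e => ha (e ▸ hi))
        have h := ModPairLib.inf_mul_sup (AlgEquivCurveLib.isEffCartier_pt hdim (D a) (hD a))
          (idCls_prod s _ (fun i => AlgEquivCurveLib.isEffCartier_pt hdim (D i) (hD i)) hs).1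
          (by rw [htop]; exact EffCartLib.isEffCartier_top)
        rw [htop, ← Scheme.IdealSheafData.one_eq_top, mul_one] at h
        exact h.symm
  rw [key Finset.univ]
  simp

/-- The generic point avoids finitely many rational points. -/
theorem genericPoint_ne_rational [IsIntegral C] (x : Spec (CommRingCat.of k) ⟶ C)
    (hx : x ≫ (C ↘ Spec (CommRingCat.of k)) = 𝟙 _) : genericPoint C ≠ x (IsLocalRing.closedPoint k) := by
  intro h
  have hcl : IsClosed ({genericPoint C} : Set C) := h ▸ GenusZeroLib.isClosed_rational x hx _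
  have huniv : ({genericPoint C} : Set C) = Set.univ := by
    rw [← hcl.closure_eq]; exact (genericPoint_spec C).def
  haveI : Subsingleton C := ⟨fun p q => by
    have hp : p ∈ ({genericPoint C} : Set C) := huniv ▸ trivial
    have hq : q ∈ ({genericPoint C} : Set C) := huniv ▸ trivial
    exact hp.trans hq.symm⟩
  haveI : Subsingleton (IrreducibleCloseds C) := ⟨fun a b => IrreducibleCloseds.ext (by
    obtain ⟨p, hp⟩ := a.isIrreducible.nonempty
    obtain ⟨q, hq⟩ := b.isIrreducible.nonempty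
    ext r
    exact ⟨fun _ => Subsingleton.elim q r ▸ hq, fun _ => Subsingleton.elim p r ▸ hp⟩)⟩
  have h0 : Order.krullDim (IrreducibleCloseds C) ≤ 0 := Order.krullDim_nonpos_of_subsingleton
  have h1 : Order.krullDim (IrreducibleCloseds C) = 1 := hdim
  rw [h1] at h0
  exact absurd h0 (by decide)

/-- `m ≤ g` distinct points with one section. -/
theorem exists_good [IsAlgClosed k] : ∀ m : ℕ, m ≤ Curv2.genus k C →
    ∃ (D : Fin m → (Spec (CommRingCat.of k) ⟶ C)), (∀ i, D i ≫ (C ↘ Spec (CommRingCat.of k)) = 𝟙 _) ∧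
      (∀ i i', D i = D i' → i = i') ∧ ∃ M : C.Modules, PicF.IsInvertible M ∧ cl M * ∏ i, idCls (D i).ker = 1 ∧
        Module.finrank k (Coh.HH C M 0) = 1 := by
  haveI := FibVALib.geometricallyIntegral_of_geometricallyConnected (C ↘ Spec (CommRingCat.of k))
  haveI : IsIntegral C := GeometricallyIntegral.isIntegral_of_subsingleton (C ↘ Spec (CommRingCat.of k))
  intro m
  induction m with
  | zero =>
    intro _
    refine ⟨Fin.elim0, fun i => i.elim0, fun i => i.elim0, Coh.structureModule C,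
      CurvLib.isInvertible_structureModule, ?_, FibVALib.finrank_h0_structure k C hdim⟩
    rw [Fin.prod_univ_zero, mul_one]
    rfl
  | succ m ih =>
    intro hm
    obtain ⟨D, hD, hinj, L, hL, eL, hL1⟩ := ih (by omega)
    have hd := deg_of_pts hdim D hD hL eL
    have hr := rr (k := k) hdim L
    obtain ⟨M, hM, eM, hM1⟩ := exists_dual (k := k) hdim hL
    have hnt : Nontrivial (Coh.HH C M 0) := Module.nontrivial_of_finrank_pos (R := k) (by omega)
    obtain ⟨τ, hτ⟩ := CurvLib.exists_hom_ne_zero hnt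
    let U₁ : C.Opens := TwistLib.genSet hM (τ.app ⊤ (1 : Γ(C, ⊤)))
    have hne : (U₁ : Set C).Nonempty := AVAmpleLib.genSet_nonempty hM τ hτ
    let U₂ : C.Opens := ⟨⋂ i, ({D i (IsLocalRing.closedPoint k)} : Set C)ᶜ,
      isOpen_iInter_of_finite fun i => (GenusZeroLib.isClosed_rational (D i) (hD i) _).isOpen_compl⟩
    let W := U₁ ⊓ U₂
    have hW : genericPoint C ∈ W :=
      ⟨((genericPoint_spec C).mem_open_set_iff U₁.isOpen).2 (by simpa using hne),
        Set.mem_iInter.2 fun i => genericPoint_ne_rational hdim (D i) (hD i)⟩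
    haveI : Nonempty W.toScheme := ⟨⟨_, hW⟩⟩
    obtain ⟨w, hw⟩ := GenusZeroLib.exists_rational_point_of_smooth (W.ι ≫ (C ↘ Spec (CommRingCat.of k)))
    let x := w ≫ W.ι
    have hx : x ≫ (C ↘ Spec (CommRingCat.of k)) = 𝟙 _ := by rw [Category.assoc]; exact hw
    have hxW : x (IsLocalRing.closedPoint k) ∈ W := (w (IsLocalRing.closedPoint k)).2
    obtain ⟨N, hN, eN⟩ := exists_div hL (invC_point hdim x hx)
    have h1 := (h1_add_point hdim x hx hL hM hN eM eN).1 ⟨_, hxW.1⟩
    have hd' := deg_add_point hdim x hx hN eN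
    have hr' := rr (k := k) hdim N
    refine ⟨Fin.cons x D, fun i => ?_, fun i i' => ?_, N, hN, ?_, by omega⟩
    · refine Fin.cases ?_ (fun i => ?_) i
      · rw [Fin.cons_zero]; exact hx
      · rw [Fin.cons_succ]; exact hD i
    · refine Fin.cases ?_ (fun a => ?_) i <;> refine Fin.cases ?_ (fun b => ?_) i'
      · exact fun _ => rfl
      · intro h
        rw [Fin.cons_zero, Fin.cons_succ] at h
        exact absurd (congrArg (fun z : Spec (CommRingCat.of k) ⟶ C => z (IsLocalRing.closedPoint k)) h)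
          (Set.mem_iInter.1 hxW.2 b)
      · intro h
        rw [Fin.cons_zero, Fin.cons_succ] at h
        exact absurd (congrArg (fun z : Spec (CommRingCat.of k) ⟶ C => z (IsLocalRing.closedPoint k)) h.symm)
          (Set.mem_iInter.1 hxW.2 a)
      · intro h
        rw [Fin.cons_succ, Fin.cons_succ] at h
        rw [hinj a b h]
    · rw [Fin.prod_univ_succ]
      simp only [Fin.cons_zero, Fin.cons_succ]
      rw [← _root_.mul_assoc, eN, eL]

omit hdim in
/-- Tuples in the distinct locus are injective. -/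
theorem inj_of_mem_distinctOpen {n : ℕ} (z : Spec (CommRingCat.of k) ⟶ fibPow (C ↘ Spec (CommRingCat.of k)) n)
    (hz : z (IsLocalRing.closedPoint k) ∈ distinctOpen (C ↘ Spec (CommRingCat.of k)) n) (i i' : Fin n)
    (e : z ≫ fp (C ↘ Spec (CommRingCat.of k)) i = z ≫ fp (C ↘ Spec (CommRingCat.of k)) i') : i = i' := by
  by_contra hne
  have h := congrArg Scheme.IdealSheafData.support (HilbPts.SC.comap_diag_eq_bot (C ↘ Spec (CommRingCat.of k)) i i' z e)
  rw [Scheme.IdealSheafData.support_comap, Scheme.IdealSheafData.support_bot] at h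
  have hmem : IsLocalRing.closedPoint k ∈ (HilbPts.SC.diag (C ↘ Spec (CommRingCat.of k)) i i').support.preimage z.continuous := by
    rw [h]; trivial
  exact (mem_distinctOpen_iff _ _ _).1 hz i i' hne hmem

end Curve

variable {k : Type u} [Field k] [IsAlgClosed k] {C : Scheme.{u}} [C.Over (Spec (CommRingCat.of k))]
  [IsProper (C ↘ Spec (CommRingCat.of k))] [Smooth (C ↘ Spec (CommRingCat.of k))]
  [GeometricallyConnected (C ↘ Spec (CommRingCat.of k))] (hdim : topologicalKrullDim ↥C = 1)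
  (hf : Fam (C ↘ Spec (CommRingCat.of k))) {σ : Spec (CommRingCat.of k) ⟶ C}
  {hσ : σ ≫ (C ↘ Spec (CommRingCat.of k)) = 𝟙 _} {J : Over (Spec (CommRingCat.of k))} [GrpObj J]
  {c : IsoCls (PicF.XT (C ↘ Spec (CommRingCat.of k)) J)} (hc : IsRigJac σ hσ J c)
  [IsProper J.hom] [Smooth J.hom] [GeometricallyIntegral J.hom] [IsCommMonObj J]
  {j : Over.mk (C ↘ Spec (CommRingCat.of k)) ⟶ J} (hj : IsAbel σ hσ c j)
include hdim hf hc hj

omit hdim hf hc hj in
/-- A shifted translate of the curve. -/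
theorem slice_comp {T : Over (Spec (CommRingCat.of k))} (l : T ⟶ J)
    (a b : 𝟙_ (Over (Spec (CommRingCat.of k))) ⟶ J) :
    lift (𝟙 T) (toUnit T ≫ b) ≫ ((fst T J ≫ l) * (snd T J ≫ (𝟙 J)⁻¹) * (toUnit (T ⊗ J) ≫ a)) =
      l ≫ Jac.transl J (b⁻¹ * a) := by
  rw [MonObj.comp_mul, MonObj.comp_mul, lift_fst_assoc, lift_snd_assoc, Category.id_comp,
    GrpObj.comp_inv, Category.comp_id, ← Category.assoc, toUnit_unique (_ ≫ toUnit _) (toUnit T), Jac.transl,
    MonObj.comp_mul, Category.comp_id, ← Category.assoc, toUnit_unique (l ≫ toUnit J) (toUnit T), MonObj.comp_mul,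
    GrpObj.comp_inv]
  exact _root_.mul_assoc _ _ _

/-- The translated inverse theta divisor at a good divisor of distinct points, by classes. -/
theorem pullback_thetaMinus_good {n : ℕ} (hn : n + 1 = Curv2.genus k C)
    (a : 𝟙_ (Over (Spec (CommRingCat.of k))) ⟶ J) (Z : Closeds J.left)
    (hZ : (Z : Set J.left) = (Jac.transl J a).left.base '' (((𝟙 J)⁻¹).left.base '' WSet j n))
    {La : J.left.Modules} (hLa : PicF.IsInvertible La)
    (hinv : ClSub.IsInverseOf La (ClSub.idealMod (Scheme.IdealSheafData.vanishingIdeal Z)))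
    (D : Fin (n + 1) → (Spec (CommRingCat.of k) ⟶ C))
    (hD : ∀ i, D i ≫ (C ↘ Spec (CommRingCat.of k)) = 𝟙 _) (hinj : ∀ i i', D i = D i' → i = i')
    {MD : C.Modules} (hMD : PicF.IsInvertible MD) (hMDD : cl MD * ∏ i, idCls (D i).ker = 1)
    (hMD1 : Module.finrank k (Coh.HH C MD 0) = 1) :
    pull (Y := C) ((j ≫ Jac.transl J ((∏ i, pt (D i) (hD i) ≫ j)⁻¹ * a)).left) (cl La) *
      ∏ i, idCls (D i).ker = 1 := by
  let b : 𝟙_ (Over (Spec (CommRingCat.of k))) ⟶ J := ∏ i, pt (D i) (hD i) ≫ j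
  obtain ⟨hI, e⟩ := effCartier_of_inverse hLa hinv
  let φ : J ⟶ J := Jac.transl J (b⁻¹ * a)
  haveI : IsIso φ := ⟨Jac.transl J (b⁻¹ * a)⁻¹, transl_inv_hom _, transl_inv_hom' _⟩
  haveI : IsIso φ.left := (Over.forget _).map_isIso φ
  let m : C ⟶ J.left := j.left ≫ φ.left
  let Zb : Closeds J.left :=
    ⟨(Jac.transl J b).left.base '' (((𝟙 J)⁻¹).left.base '' WSet j n), isClosed_transl b (isClosed_inv (isClosed_WSet j n))⟩
  have hcomap : (Scheme.IdealSheafData.vanishingIdeal Z).comap m = ∏ i, (D i).ker := by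
    show (Scheme.IdealSheafData.vanishingIdeal Z).comap (j.left ≫ φ.left) = _
    rw [Scheme.IdealSheafData.comap_comp, AlgSpRegLib.comap_vanishingIdeal_etale φ.left Z,
      ← iInf_eq_prod_pts hdim D hD hinj, ← comap_thetaMinus_eq hdim hf hc hj hn D hD hinj hMD hMDD hMD1 Zb rfl]
    refine congrArg (fun V => (Scheme.IdealSheafData.vanishingIdeal V).comap j.left) (Closeds.ext ?_)
    refine eq_of_points (Z.isClosed.preimage φ.left.continuous) Zb.isClosed fun t => ?_
    show pnt (t ≫ φ) ∈ (Z : Set J.left) ↔ pnt t ∈ (Jac.transl J b).left.base '' (((𝟙 J)⁻¹).left.base '' WSet j n)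
    rw [hZ, mem_transl, mem_transl, comp_transl, ← _root_.mul_assoc, mul_inv_cancel_right]
  have hP := idCls_prod Finset.univ (fun i => (D i).ker) (fun i => AlgEquivCurveLib.isEffCartier_pt hdim (D i) (hD i))
    (Finset.univ_nonempty)
  have h := congrArg (pull m) e
  rw [map_mul, map_one, EllLawLib.pull_idCls m hI (by rw [hcomap]; exact hP.1), hcomap, hP.2] at h
  exact h

/-- **The universal class as a difference of theta classes.** -/
theorem exists_univ_twist {n : ℕ} (hn : n + 1 = Curv2.genus k C) (a : 𝟙_ (Over (Spec (CommRingCat.of k))) ⟶ J)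
    (Z : Closeds J.left)
    (hZ : (Z : Set J.left) = (Jac.transl J a).left.base '' (((𝟙 J)⁻¹).left.base '' WSet j n))
    {La : J.left.Modules} (hLa : PicF.IsInvertible La)
    (hinv : ClSub.IsInverseOf La (ClSub.idealMod (Scheme.IdealSheafData.vanishingIdeal Z))) :
    (∃ m : IsoCls J.left, InvC m ∧ c =
      pull (Y := PicF.XT (C ↘ Spec (CommRingCat.of k)) J)
          (((fst (Over.mk (C ↘ Spec (CommRingCat.of k))) J ≫ j) * (snd (Over.mk (C ↘ Spec (CommRingCat.of k))) J ≫ (𝟙 J)⁻¹) *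
            (toUnit (Over.mk (C ↘ Spec (CommRingCat.of k)) ⊗ J) ≫ a)).left) (cl La) *
        (∏ _i : Fin (n + 1), pc (base σ hσ J)) * pull (PicF.XTproj (C ↘ Spec (CommRingCat.of k)) J) m) ∧
    ∀ b : 𝟙_ (Over (Spec (CommRingCat.of k))) ⟶ J, tcl c b =
      pull (Y := C) ((j ≫ Jac.transl J (b⁻¹ * a)).left) (cl La) * idCls σ.ker ^ (n + 1) := by
  classical
  let f := C ↘ Spec (CommRingCat.of k)
  let T₀ : Over (Spec (CommRingCat.of k)) := 𝟙_ _
  haveI : IsIntegral J.left := GeometricallyIntegral.isIntegral_of_subsingleton J.hom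
  -- the family
  let mu : Over.mk f ⊗ J ⟶ J := (fst _ _ ≫ j) * (snd _ _ ≫ (𝟙 J)⁻¹) * (toUnit _ ≫ a)
  let M0 : (PicF.XT f J).Modules := (Scheme.Modules.pullback (mu.left : pullback f J.hom ⟶ J.left)).obj La
  have hM0 : PicF.IsInvertible M0 := AmpleDevLib.isInvertible_pb _ hLa
  let sl : (T₀ ⟶ J) → (C ⟶ PicF.XT f J) := fun b => toXT₀ ≫ PicF.XTmap f b
  have hsl : ∀ b : T₀ ⟶ J, sl b ≫ (mu.left : pullback f J.hom ⟶ J.left) = (j ≫ Jac.transl J (b⁻¹ * a)).left := by
    intro b
    rw [← slice_comp j a b]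
    refine congrArg (· ≫ (mu.left : pullback f J.hom ⟶ J.left)) ?_
    apply pullback.hom_ext
    · simp [sl, toXT₀, PicF.XTmap]
      exact (pullback.lift_fst _ _ _).trans (pullback.lift_fst _ _ _).symm
    · simp [sl, toXT₀, PicF.XTmap]
      exact (pullback.lift_snd_assoc _ _ _ _).trans (pullback.lift_snd _ _ _).symm
  have hM0b : ∀ b : T₀ ⟶ J, pull (sl b) (cl M0) = (pull (Y := C) ((j ≫ Jac.transl J (b⁻¹ * a)).left) (cl La)) :=
    fun b => by
      rw [show cl M0 = pull (mu.left : pullback f J.hom ⟶ J.left) (cl La) from (pull_cl _ _).symm]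
      exact (pull_comp _ _ _).trans (congrArg (fun z => pull z (cl La)) (hsl b))
  -- a good divisor
  obtain ⟨D0, hD0, hinj0, MD0, hMD0, eMD0, h10⟩ := exists_good (k := k) hdim (n + 1) hn.le
  let b0 : T₀ ⟶ J := ∏ i, pt (D0 i) (hD0 i) ≫ j
  have hgood := pullback_thetaMinus_good hdim hf hc hj hn a Z hZ hLa hinv
  -- the fibre degree
  have hdeg : ∀ t, deg f J M0 t = (n + 1 : ℕ) := by
    intro t
    have hlc := isLocallyConstant_deg f hf.dim_le J hM0
    rw [hlc.apply_eq_of_preconnectedSpace t (b0.left (IsLocalRing.closedPoint k))]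
    have H : IsPullback (sl b0) f (PicF.XTproj f J) (𝟙 _ ≫ b0.left) :=
      (isPullback_toXT₀ (k := k) (C := C)).paste_horiz (DescAppLib.isPullback_XTmap f b0)
    have h := PicCurveLib.deg_point f hf.dim_le J hM0 (K := k) (Z := C) (g' := sl b0) (v := 𝟙 _ ≫ b0.left) H
      (IsLocalRing.closedPoint k)
    rw [chi_eq_euler hf, chi_eq_euler hf] at h
    have hv : (𝟙 (Spec (CommRingCat.of k)) ≫ b0.left : Spec (CommRingCat.of k) ⟶ J.left) (IsLocalRing.closedPoint k) =
        b0.left (IsLocalRing.closedPoint k) := by rw [Category.id_comp]; rfl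
    have hd := deg_of_pts hdim D0 hD0 (AmpleDevLib.isInvertible_pb (sl b0) hM0)
      (by rw [← pull_cl, hM0b]; exact hgood D0 hD0 hinj0 hMD0 eMD0 h10)
    rw [Curv2.deg, Nat.cast_one, _root_.one_mul] at hd
    rw [← hd, ← hv]
    exact h.symm
  -- normalisation
  let base' : J ⟶ Over.mk f := base σ hσ J
  obtain ⟨L1, hL1, eL1⟩ := InvC.mul (c := cl M0) ⟨M0, hM0, rfl⟩ (invC_prod_pc hf (Finset.univ : Finset (Fin (n + 1))) fun _ => base')
  have hL1d : ∀ t, deg f J L1 t = 0 := fun t => by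
    have h := deg_prod hf (T := J) (Finset.univ : Finset (Fin (n + 1))) (fun _ => base') hM0 eL1.symm t
    rw [hdeg, Finset.card_univ, Fintype.card_fin] at h
    push_cast at h ⊢
    linarith
  obtain ⟨e2, m, he2, ⟨Dm, hDm, rfl⟩, hrig, ee2⟩ :=
    exists_rigid (f := f) (σ := σ) (hσ := hσ) (g := J.hom) (c := cl L1) ⟨L1, hL1, rfl⟩
  obtain ⟨L2, hL2, eL2⟩ := he2
  have hz : RigZero σ hσ J e2 :=
    ⟨⟨L2, hL2, eL2, fun t => (PicCurveLib.deg_twist hf J hDm (eL2.trans ee2) t).trans (hL1d t)⟩, hrig⟩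
  obtain ⟨φ, hφ, -⟩ := hc.bij J e2 hz
  have key : ∀ b : T₀ ⟶ J, tcl c (b ≫ φ) =
      pull (Y := C) ((j ≫ Jac.transl J (b⁻¹ * a)).left) (cl La) * idCls σ.ker ^ (n + 1) := by
    intro b
    rw [tcl, ← DescAppLib.XTmap_comp, ← pull_comp, hφ, ee2, eL1, map_mul, map_mul, map_mul, map_mul, pull_comp toXT₀,
      hM0b]
    have h2 : pull (PicF.XTmap f b) (∏ _i : Fin (n + 1), pc base') = ∏ _i : Fin (n + 1), pc (base σ hσ T₀) := by
      rw [map_prod]
      exact Finset.prod_congr rfl fun i _ => by rw [pull_pc hf, comp_base]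
    have h3 : pull (PicF.XTmap f b) (pull (pullback.snd f J.hom) (cl Dm)) = 1 := by
      rw [pull_comp, show PicF.XTmap f b ≫ pullback.snd f J.hom = PicF.XTproj f T₀ ≫ b.left from
        DescAppLib.XTmap_proj f b, ← pull_comp, invC_spec (InvC.pull (c := cl Dm) ⟨Dm, hDm, rfl⟩ b.left), map_one]
    rw [h2, h3, map_one, _root_.mul_one, map_prod, pull_toXT₀_pc hdim hf, Finset.prod_const, Finset.card_univ,
      Fintype.card_fin, show (base σ hσ T₀).left = σ from Category.id_comp σ]
  -- the two maps agree at good divisors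
  have hgoodφ : ∀ (D' : Fin (n + 1) → (Spec (CommRingCat.of k) ⟶ C))
      (hD' : ∀ i, D' i ≫ f = 𝟙 _), (∀ i i', D' i = D' i' → i = i') →
      ∀ {M : C.Modules}, PicF.IsInvertible M → cl M * ∏ i, idCls (D' i).ker = 1 →
        Module.finrank k (Coh.HH C M 0) = 1 → (∏ i, pt (D' i) (hD' i) ≫ j) ≫ φ = ∏ i, pt (D' i) (hD' i) ≫ j := by
    intro D' hD' hinj' M hM eM hM1
    refine tcl_inj hdim hf hc ((isUnit_pts hdim hf D' hD').mul_right_cancel ?_)
    rw [key, _root_.mul_assoc, _root_.mul_comm (idCls σ.ker ^ (n + 1)), ← _root_.mul_assoc]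
    rw [show pull _ (cl La) * ∏ i, idCls (D' i).ker = 1 from hgood D' hD' hinj' hM eM hM1, _root_.one_mul]
    exact (class_prod hdim hf hc hj fun i => pt (D' i) (hD' i)).symm
  -- they agree on a dense open
  obtain ⟨U, hUet, hUin, hUout⟩ := exists_etale_open hdim hf hc hj (by omega)
  revert hUin hUout hUet U
  rw [← hn]
  intro U hUet hUin hUout
  let F : Over.mk (fb f (n + 1)) ⟶ J := ∏ i, xi (C := C) i ≫ j
  let U'' := U ⊓ distinctOpen f (n + 1)
  haveI : Etale (U.ι ≫ F.left) := hUet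
  haveI : Etale (U''.ι ≫ F.left) := by
    rw [← Scheme.homOfLE_ι (X := fibPow f (n + 1)) (inf_le_left : U'' ≤ U), Category.assoc]
    infer_instance
  let F'' : U''.toScheme ⟶ J.left := U''.ι ≫ F.left
  let V : Set J.left := Set.range F''
  have hVo : IsOpen V := F''.isOpenMap.isOpen_range
  have hVne : V.Nonempty := by
    let z : Spec (CommRingCat.of k) ⟶ fibPow f (n + 1) := WidePullback.lift (𝟙 _) D0 hD0
    have hzb : z ≫ fb f (n + 1) = 𝟙 _ := WidePullback.lift_base _ _ _ _
    have hzp : ∀ i, z ≫ fp f i = D0 i := fun i => WidePullback.lift_π _ _ _ _ _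
    have hzi : ∀ i i', z ≫ fp f i = z ≫ fp f i' → i = i' := fun i i' h => hinj0 i i' (by rwa [hzp, hzp] at h)
    have hzU : z (IsLocalRing.closedPoint k) ∈ U'' := ⟨hUin z hzb hzi fun M hM e => by
      simp only [show ∀ i, z ≫ fp (C ↘ Spec (CommRingCat.of k)) i = D0 i from hzp] at e
      rw [← h10]
      exact h_congr (k := k) ((isUnit_pts hdim hf D0 hD0).mul_right_cancel (e.trans eMD0.symm)) 0,
      mem_distinctOpen_of_inj z hzb hzi⟩
    exact ⟨F'' ⟨_, hzU⟩, ⟨_, rfl⟩⟩
  have hid : φ = 𝟙 J := by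
    haveI : LocallyOfFiniteType (φ.left ≫ J.hom) := by rw [Over.w φ]; infer_instance
    refine Over.OverMorphism.ext (ext_of_apply_eq J.hom (f := φ.left) (g := (𝟙 J : J ⟶ J).left) V hVo.isLocallyClosed
      (hVo.dense hVne) (fun q hq hqc => ?_) (by rw [Over.w φ, Over.w (𝟙 J : J ⟶ J)]))
    haveI : IsProper (fb f (n + 1)) := isProper_wide (C := C) (n + 1)
    haveI : JacobsonSpace U''.toScheme := LocallyOfFiniteType.jacobsonSpace (U''.ι ≫ fb f (n + 1))
    haveI : LocallyOfFiniteType (Over.mk (U''.ι ≫ fb f (n + 1))).hom :=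
      inferInstanceAs (LocallyOfFiniteType (U''.ι ≫ fb f (n + 1)))
    obtain ⟨p, hp⟩ := hq
    obtain ⟨p', hp', hp'c⟩ := nonempty_inter_closedPoints (Z := F''.base ⁻¹' {q}) ⟨p, hp⟩
      (hqc.preimage F''.continuous).isLocallyClosed
    obtain ⟨t, rfl⟩ := exists_pnt (J := Over.mk (U''.ι ≫ fb f (n + 1))) (mem_closedPoints_iff.1 hp'c)
    let zo : T₀ ⟶ Over.mk (fb f (n + 1)) := t ≫ (Over.homMk U''.ι rfl :
      Over.mk (U''.ι ≫ fb f (n + 1)) ⟶ Over.mk (fb f (n + 1)))
    have hzU : zo.left (IsLocalRing.closedPoint k) ∈ U'' := (t.left (IsLocalRing.closedPoint k)).2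
    obtain ⟨M, hM, eM⟩ := exists_div (CurvLib.isInvertible_structureModule (X := C))
      (invC_pids hdim Finset.univ fun i => zo ≫ xi (C := C) i)
    have eM' : cl M * ∏ i, pid (zo ≫ xi (C := C) i) = 1 := eM
    have h := hgoodφ (fun i => (zo ≫ xi (C := C) i).left) (fun i => Over.w (zo ≫ xi (C := C) i))
      (fun i i' e => inj_of_mem_distinctOpen zo.left hzU.2 i i' e) hM eM'
      (hUout zo.left (Over.w zo) hzU.1 M hM eM')
    have hF : zo ≫ F = ∏ i, (zo ≫ xi (C := C) i) ≫ j := sum_tuple zo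
    have hq' : pnt (zo ≫ F) = q := hp'
    rw [← hq', hF]
    exact congrArg (fun z => pnt z) h
  subst hid
  refine ⟨⟨cl Dm, ⟨Dm, hDm, rfl⟩, ?_⟩, fun b => ?_⟩
  · rw [show PicF.XTmap f (𝟙 J) = 𝟙 _ by apply pullback.hom_ext <;> simp [PicF.XTmap], DescAppLib.pull_id] at hφ
    rw [hφ, ee2, eL1]
    rfl
  · have h := key b
    rwa [Category.comp_id] at h

/-- **The pullback of the translated inverse theta class is the class of the divisor.** -/
theorem pullback_thetaMinus_cls {n : ℕ} (hn : n + 1 = Curv2.genus k C) (D : Fin (n + 1) → (Spec (CommRingCat.of k) ⟶ C))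
    (hD : ∀ i, D i ≫ (C ↘ Spec (CommRingCat.of k)) = 𝟙 _) (Z : Closeds J.left)
    (hZ : (Z : Set J.left) = (Jac.transl J (∏ i, pt (D i) (hD i) ≫ j)).left.base ''
      (((𝟙 J)⁻¹).left.base '' WSet j n))
    {La : J.left.Modules} (hLa : PicF.IsInvertible La)
    (hinv : ClSub.IsInverseOf La (ClSub.idealMod (Scheme.IdealSheafData.vanishingIdeal Z))) :
    pull (Y := C) j.left (cl La) * ∏ i, idCls (D i).ker = 1 := by
  classical
  let T₀ : Over (Spec (CommRingCat.of k)) := 𝟙_ _
  let a : T₀ ⟶ J := ∏ i, pt (D i) (hD i) ≫ j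
  have hfin := (exists_univ_twist hdim hf hc hj hn a Z hZ hLa hinv).2 a
  rw [inv_mul_cancel] at hfin
  have h1 : pull (Y := C) ((j ≫ Jac.transl J (1 : T₀ ⟶ J)).left) (cl La) =
      pull (Y := C) j.left (cl La) := by
    rw [show j ≫ Jac.transl J (1 : T₀ ⟶ J) = j from by
      rw [Jac.transl, MonObj.comp_one, _root_.mul_one, Category.comp_id]]
  rw [h1] at hfin
  refine ((invC_sigma_pow hdim hσ (n + 1)).isUnit).mul_right_cancel ?_
  rw [_root_.one_mul, _root_.mul_assoc, _root_.mul_comm _ (idCls σ.ker ^ (n + 1)), ← _root_.mul_assoc, ← hfin]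
  exact class_prod hdim hf hc hj fun i => pt (D i) (hD i)

end JacAlbLib

end
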