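import Groth.Agent.JacAlbLib.ThetaAlg
import Groth.Agent.S14131
import Groth.Agent.S14124
import Groth.Agent.S17508
import Groth.Agent.AVDualLib.Main
import Groth.Agent.DualExistLib.Dual
import Groth.Agent.AVRRLib.RR
import Groth.Agent.AVIndexLib.TopDim
import Groth.Agent.HilbPolyLib.IntNum
import Groth.Agent.AmpleThLib.Ample

/-!
# Cohomology of the powers of a principal ample class
-/

set_option autoImplicit false
set_option linter.style.haveILetI false
set_option linter.unusedSectionVars false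
set_option backward.isDefEq.respectTransparency false
set_option backward.isDefEq.respectTransparency.types false
set_option maxRecDepth 8000
set_option maxHeartbeats 1000000

universe u

open CategoryTheory CategoryTheory.Limits AlgebraicGeometry TopologicalSpace MonoidalCategory CartesianMonoidalCategory
open CubeConsLib (cl cl_eq_iff cl_tensor IsoCls PicA clA P clA_tensor clA_dual clA_eq_iff)
open scoped MonObj

noncomputable section

namespace JacAlbLib

theorem gconn {X Y : Scheme.{u}} (f : X ⟶ Y) [GeometricallyIntegral f] : GeometricallyConnected f :=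
  Groth.Agent.WeilRes.geometricallyConnected_of_geometricallyIrreducible f

theorem cl_tpow {X : Scheme.{u}} (L : X.Modules) : ∀ m : ℕ, cl (CohB1.tensorPow L m) = cl L ^ m
  | 0 => (pow_zero _).symm
  | m + 1 => by rw [CohB1.tensorPow, cl_tensor, cl_tpow L m, pow_succ]

variable {k : Type u} [Field k] [IsAlgClosed k] {A : Over (Spec (CommRingCat.of k))} [GrpObj A] [IsProper A.hom]
  [Smooth A.hom] [GeometricallyIntegral A.hom] {g : ℕ} (hg : topologicalKrullDim A.left = (g : ℕ))
  {L : A.left.Modules} (hL : PicF.IsInvertible L) (hp : AVDualLib.Principal hL) (ha : CohB1.IsAmple L)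
include hg hp ha

omit hg in
theorem vanish_pow {m : ℕ} (hm : 1 ≤ m) : (∀ i, 0 < i → Subsingleton (Coh.HH A.left (CohB1.tensorPow L m) i)) ∧
    Nontrivial (Coh.HH A.left (CohB1.tensorPow L m) 0) :=
  haveI := gconn A.hom
  Groth.Agent.S14124.result k A _ ((AmpleThLib.isAmple_tensorPow_iff (hL := hL) hm).1 ha)

omit hg in
theorem euler_pow [IsIntegral A.left] {m : ℕ} (hm : 1 ≤ m) : AVAmpleLib.chiMod A (CohB1.tensorPow L m) =
    (@Module.finrank k (Coh.HH A.left (CohB1.tensorPow L m) 0) _ _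
      (@Coh.moduleOver k _ A.left ⟨A.hom⟩ (CohB1.tensorPow L m) 0) : ℤ) := by
  letI : A.left.Over (Spec (CommRingCat.of k)) := ⟨A.hom⟩
  haveI : IsProper (A.left ↘ Spec (CommRingCat.of k)) := inferInstanceAs (IsProper A.hom)
  exact CurvLib.euler_eq_finrank (k := k) fun i hi => (vanish_pow hL hp ha hm).1 i hi

omit ha in
theorem finrank_sq : ∃ i : ℕ, i ≤ g ∧ (∀ j : ℕ, j ≠ i → Subsingleton (Coh.HH A.left L j)) ∧
    @Module.finrank k (Coh.HH A.left L i) _ _ (@Coh.moduleOver k _ A.left ⟨A.hom⟩ L i) ^ 2 = 1 := by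
  obtain ⟨L', hL', hLL'⟩ : ∃ L', PicF.IsInvertible L' ∧ Nonempty (CohB1.tensorMod L L' ≅ Coh.structureModule A.left) :=
    ⟨_, MiscFlat6.dual_isInvertible hL, MiscFlat6.nonempty_dualIso hL⟩
  let Λ : (PicF.XT A.hom A).Modules := CohB1.tensorMod (CohB1.tensorMod ((Scheme.Modules.pullback μ[A].left).obj L)
      ((Scheme.Modules.pullback (fst A A).left).obj L')) ((Scheme.Modules.pullback (snd A A).left).obj L')
  have h1 := AmpleDevLib.isInvertible_pb μ[A].left hL
  have h2 := AmpleDevLib.isInvertible_pb (fst A A).left hL'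
  have h3 := AmpleDevLib.isInvertible_pb (snd A A).left hL'
  have hΛ : PicF.IsInvertible Λ := HilbPolyLib.isInvertible_tensor (HilbPolyLib.isInvertible_tensor h1 h2) h3
  have e' : clA hL' = -clA hL := by
    rw [eq_neg_iff_add_eq_zero, add_comm, ← clA_tensor hL hL', ← CubeConsLib.clA_one, clA_eq_iff]
    exact hLL'
  have cΛ : (clA hΛ : PicA (A ⊗ A).left) = P hL (fst A A * snd A A) - P hL (fst A A) - P hL (snd A A) := by
    show (clA (HilbPolyLib.isInvertible_tensor (HilbPolyLib.isInvertible_tensor h1 h2) h3) : PicA (A ⊗ A).left) = _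
    rw [clA_tensor (HilbPolyLib.isInvertible_tensor h1 h2) h3, clA_tensor h1 h2, ← CubeConsLib.pullA_clA μ[A].left hL, ← CubeConsLib.pullA_clA (fst A A).left hL',
      ← CubeConsLib.pullA_clA (snd A A).left hL', e', map_neg, map_neg, MonObj.mul_eq_mul, ← sub_eq_add_neg,
      ← sub_eq_add_neg]
    rfl
  have hΛ0 := AVIndexLib.isPicZeroCl_mumford hL cΛ
  haveI := gconn A.hom
  obtain ⟨At, _, _, _, φ, Pc, hPc, hdual, -⟩ := Groth.Agent.DualExistLib.exists_dual A
  have hlam : AgPol.IsLambda A At φ L (φ A (PicF.cl Λ)) := ⟨Λ, hΛ, cl_eq_iff.1 (by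
    rw [cl_tensor, cl_tensor, cl_tensor, cl_tensor, _root_.mul_assoc (cl ((Scheme.Modules.pullback μ[A].left).obj L)),
      _root_.mul_assoc (cl ((Scheme.Modules.pullback μ[A].left).obj L)), _root_.mul_assoc (cl ((Scheme.Modules.pullback μ[A].left).obj L))]
    refine Eq.trans (congrArg (_ * ·) ?_) (_root_.mul_one _)
    rw [← CubeConsLib.pull_cl, ← CubeConsLib.pull_cl, ← CubeConsLib.pull_cl, ← CubeConsLib.pull_cl]
    have e : cl L * cl L' = 1 := (cl_tensor L L').symm.trans (cl_eq_iff.2 hLL')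
    calc _ = CubeConsLib.pull (fst A A).left (cl L * cl L') * CubeConsLib.pull (snd A A).left (cl L * cl L') := by
          rw [map_mul, map_mul]; ac_rfl
      _ = 1 := by rw [e, map_one, map_one, _root_.mul_one]), rfl⟩
  haveI : IsIso (φ A (PicF.cl Λ)).left := AVDualLib.isIso_lambda_of_principal hdual hp hlam
  haveI : Smooth At.hom := by
    rw [← IsIso.inv_hom_id_assoc (φ A (PicF.cl Λ)).left At.hom, Over.w]
    infer_instance
  haveI := gconn At.hom
  exact Groth.Agent.S14131.result k A At φ hdual g hg L hL L' hLL' Λ ⟨Iso.refl _⟩ hΛ0 1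
    (congrFun (Scheme.Hom.finrank_eq_one_of_isIso _))

theorem chi_one [IsIntegral A.left] : AVAmpleLib.chi A (clA hL) = 1 := by
  letI : A.left.Over (Spec (CommRingCat.of k)) := ⟨A.hom⟩
  haveI : IsProper (A.left ↘ Spec (CommRingCat.of k)) := inferInstanceAs (IsProper A.hom)
  haveI := gconn A.hom
  obtain ⟨hv, hn⟩ := Groth.Agent.S14124.result k A L ha
  haveI : IsIntegral A.left := GeometricallyIntegral.isIntegral_of_subsingleton A.hom
  obtain ⟨i, -, hj, h2⟩ := finrank_sq hg hL hp
  have hi : i = 0 := by_contra fun h => not_subsingleton_iff_nontrivial.2 hn (hj 0 (Ne.symm h))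
  subst hi
  rw [AVAmpleLib.chi_clA, AVAmpleLib.chiMod]
  refine (CurvLib.euler_eq_finrank (k := k) fun i hi => hv i hi).trans ?_
  exact_mod_cast (pow_eq_one_iff.1 h2).resolve_right (by norm_num)

theorem chi_zsmul_eq [IsIntegral A.left] (m : ℤ) : (AVAmpleLib.chi A (m • clA hL) : ℚ) = (m : ℚ) ^ g := by
  haveI : IsIntegral A.left := GeometricallyIntegral.isIntegral_of_subsingleton A.hom
  rw [AVRRLib.chi_zsmul hg hL m, chi_one hg hL hp ha, Int.cast_one, _root_.mul_one]

theorem finrank_pow {m : ℕ} (hm : 1 ≤ m) : @Module.finrank k (Coh.HH A.left (CohB1.tensorPow L m) 0) _ _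
      (@Coh.moduleOver k _ A.left ⟨A.hom⟩ (CohB1.tensorPow L m) 0) = m ^ g := by
  haveI : IsIntegral A.left := GeometricallyIntegral.isIntegral_of_subsingleton A.hom
  have h := chi_zsmul_eq hg hL hp ha (m : ℤ)
  rw [natCast_zsmul, ← CubeConsLib.clA_pow hL m, AVAmpleLib.chi_clA, euler_pow hL hp ha hm] at h
  exact_mod_cast h

/-- Powers of the inverse. -/
theorem inverse_pow {M : A.left.Modules} (hM : PicF.IsInvertible M) (hMΘ : ClSub.IsInverseOf M L) {m : ℕ} (hm : 1 ≤ m) :
    @Module.finrank k (Coh.HH A.left (CohB1.tensorPow M m) g) _ _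
        (@Coh.moduleOver k _ A.left ⟨A.hom⟩ (CohB1.tensorPow M m) g) = m ^ g ∧
      ∀ i : ℕ, i < g → Subsingleton (Coh.HH A.left (CohB1.tensorPow M m) i) := by
  letI : A.left.Over (Spec (CommRingCat.of k)) := ⟨A.hom⟩
  haveI : IsProper (A.left ↘ Spec (CommRingCat.of k)) := inferInstanceAs (IsProper A.hom)
  haveI : IsIntegral A.left := GeometricallyIntegral.isIntegral_of_subsingleton A.hom
  obtain ⟨hv, hn⟩ := vanish_pow hL hp ha hm
  have eM : clA hM = -clA hL := by
    rw [eq_neg_iff_add_eq_zero, ← clA_tensor hM hL, ← CubeConsLib.clA_one, clA_eq_iff]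
    exact hMΘ
  have hinv : Nonempty (CohB1.tensorMod (CohB1.tensorPow L m) (CohB1.tensorPow M m) ≅ Coh.structureModule A.left) := by
    rw [← clA_eq_iff (HilbPolyLib.isInvertible_tensor (AmpleThLib.tensorPow_isInvertible hL m)
      (AmpleThLib.tensorPow_isInvertible hM m)) (CubeConsLib.isInvertible_one _), clA_tensor (AmpleThLib.tensorPow_isInvertible hL m) (AmpleThLib.tensorPow_isInvertible hM m), CubeConsLib.clA_pow hL,
      CubeConsLib.clA_pow hM, CubeConsLib.clA_one, eM, smul_neg, add_neg_cancel]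
  obtain ⟨-, hj, -⟩ := Groth.Agent.S17508.result k A g hg _ _ (AmpleThLib.tensorPow_isInvertible hL m) hinv 0
    (fun j hj => hv j (Nat.pos_of_ne_zero hj)) hn
  rw [Nat.sub_zero] at hj
  refine ⟨?_, fun i hi => hj i hi.ne⟩
  have h := chi_zsmul_eq hg hL hp ha (-(m : ℤ))
  rw [neg_zsmul, natCast_zsmul, ← smul_neg, ← eM, ← CubeConsLib.clA_pow hM m, AVAmpleLib.chi_clA, AVAmpleLib.chiMod,
    CurvLib.euler_eq_sum (k := k) (d := g + 1) (fun i hi => hj i (by omega)), Finset.sum_range_succ,
    Finset.sum_eq_zero (fun i hi => by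
      haveI := hj i (Finset.mem_range.1 hi).ne
      rw [Module.finrank_zero_of_subsingleton, Nat.cast_zero, mul_zero]), zero_add] at h
  push_cast at h
  rw [neg_pow (m : ℚ)] at h
  exact_mod_cast mul_left_cancel₀ (pow_ne_zero g (by norm_num)) h

theorem intNum_eq {M : A.left.Modules} (hM : PicF.IsInvertible M) (hMΘ : ClSub.IsInverseOf M L) :
    @FGA.intNum k _ A.left ⟨A.hom⟩ g g (fun _ : Fin g => M) (Coh.structureModule A.left) = (Nat.factorial g : ℤ) := by
  letI : A.left.Over (Spec (CommRingCat.of k)) := ⟨A.hom⟩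
  haveI : IsProper (A.left ↘ Spec (CommRingCat.of k)) := inferInstanceAs (IsProper A.hom)
  haveI : IsIntegral A.left := GeometricallyIntegral.isIntegral_of_subsingleton A.hom
  have eM : clA hM = -clA hL := by
    rw [eq_neg_iff_add_eq_zero, ← clA_tensor hM hL, ← CubeConsLib.clA_one, clA_eq_iff]
    exact hMΘ
  have hr : ∀ r : ℕ, ((Curv2.euler k A.left
      (CohB1.tensorMod (FGA.tensorList (List.replicate r M)) (Coh.structureModule A.left)) : ℤ) : ℚ) =
        (-(r : ℚ)) ^ g := by
    intro r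
    have h := chi_zsmul_eq hg hL hp ha (-(r : ℤ))
    rw [neg_zsmul, natCast_zsmul, ← smul_neg, ← eM, ← CubeConsLib.clA_pow hM r, AVAmpleLib.chi_clA, AVAmpleLib.chiMod] at h
    push_cast at h
    rw [← h]
    congr 1
    refine CurvLib.euler_congr (cl_eq_iff.1 ?_).some
    rw [cl_tensor, cl_tensorList, List.map_replicate, List.prod_replicate, cl_tpow]
    exact _root_.mul_one _
  apply Int.cast_injective (α := ℚ)
  rw [FGA.intNum, Int.cast_sum]
  simp only [Int.cast_mul, Int.cast_pow, Int.cast_neg, Int.cast_one, List.map_const', Finset.length_sort,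
    HilbPolyLib.eulerCharLE_eq (k := k) hg.le, hr]
  rw [← Finset.powerset_univ, Finset.sum_powerset_apply_card (fun r => (-1 : ℚ) ^ r * (-(r : ℚ)) ^ g), Finset.card_univ,
    Fintype.card_fin]
  have key := congrFun (fwdDiff_iter_eq_factorial (R := ℚ) (n := g)) 0
  rw [fwdDiff_iter_eq_sum_shift] at key
  refine Eq.trans ?_ key
  refine Finset.sum_congr rfl fun r hr' => ?_
  simp only [zero_add, zsmul_eq_mul, nsmul_eq_mul, _root_.mul_one]
  rw [neg_pow (r : ℚ)]
  have hs : (-1 : ℚ) ^ r * (-1) ^ g = (-1) ^ (g - r) := by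
    rw [← pow_add, show r + g = g - r + 2 * r by have := Finset.mem_range.1 hr'; omega, pow_add, pow_mul]
    norm_num
  push_cast
  rw [← hs]
  ring

end JacAlbLib

end
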