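import Groth.Agent.JacAlbLib.WPoints

/-!
# Translates of the images of the symmetric powers
-/

set_option autoImplicit false
set_option linter.style.haveILetI false
set_option linter.unusedSectionVars false
set_option backward.isDefEq.respectTransparency false
set_option backward.isDefEq.respectTransparency.types false
set_option maxRecDepth 8000
set_option maxHeartbeats 1000000

universe u

open CategoryTheory CategoryTheory.Limits AlgebraicGeometry TopologicalSpace MonoidalCategory CartesianMonoidalCategory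
open CubeConsLib (pull pull_comp pull_cl cl cl_eq_iff cl_tensor IsoCls)
open EllLawLib (idCls)
open PicCurveLib SymProd
open scoped MonObj

noncomputable section

namespace JacAlbLib

variable {k : Type u} [Field k] {C : Scheme.{u}} [C.Over (Spec (CommRingCat.of k))]
  [IsProper (C ↘ Spec (CommRingCat.of k))] [Smooth (C ↘ Spec (CommRingCat.of k))]
  [GeometricallyConnected (C ↘ Spec (CommRingCat.of k))] (hdim : topologicalKrullDim ↥C = 1)
include hdim

theorem invC_pids {α : Type*} (s : Finset α)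
    (v : α → (𝟙_ (Over (Spec (CommRingCat.of k))) ⟶ Over.mk (C ↘ Spec (CommRingCat.of k)))) :
    InvC (∏ i ∈ s, pid (v i)) := by
  induction s using Finset.cons_induction with
  | empty => rw [Finset.prod_empty]; exact ⟨_, CurvLib.isInvertible_structureModule, rfl⟩
  | cons a s ha ih =>
    rw [Finset.prod_cons]
    exact InvC.mul (invC_point hdim (v a).left (Over.w (v a))) ih

variable (hf : Fam (C ↘ Spec (CommRingCat.of k))) {σ : Spec (CommRingCat.of k) ⟶ C}
  {hσ : σ ≫ (C ↘ Spec (CommRingCat.of k)) = 𝟙 _} {J : Over (Spec (CommRingCat.of k))} [GrpObj J]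
  {c : IsoCls (PicF.XT (C ↘ Spec (CommRingCat.of k)) J)} (hc : IsRigJac σ hσ J c)
  [IsProper J.hom] [Smooth J.hom] [GeometricallyIntegral J.hom] [IsCommMonObj J]
  {j : Over.mk (C ↘ Spec (CommRingCat.of k)) ⟶ J} (hj : IsAbel σ hσ c j)
include hf hc hj

omit hj in
/-- The class of a canonical point. -/
theorem tcl_kappa {ψ : (ModFun.PicDeg (C ↘ Spec (CommRingCat.of k)) 0).Hom ⊤ J}
    (hψ : ∀ (T : Over (Spec (CommRingCat.of k))) (L : (PicF.XT (C ↘ Spec (CommRingCat.of k)) T).Modules)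
      (hL : (ModFun.PicDeg (C ↘ Spec (CommRingCat.of k)) 0).ok T L),
      ∃ n : IsoCls T.left, InvC n ∧ pull (PicF.XTmap (C ↘ Spec (CommRingCat.of k)) (ψ.app T L trivial hL)) c =
        cl L * pull (PicF.XTproj (C ↘ Spec (CommRingCat.of k)) T) n) {L : C.Modules} (m : ℕ)
    (Kf : (PicF.XT (C ↘ Spec (CommRingCat.of k)) (𝟙_ (Over (Spec (CommRingCat.of k))))).Modules)
    (hKf : Nonempty (Kf ≅ (Scheme.Modules.pullback (pullback.fst (C ↘ Spec (CommRingCat.of k))
      (𝟙_ (Over (Spec (CommRingCat.of k)))).hom)).obj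
        (CohB1.tensorMod L (CohB1.tensorPow (ClSub.idealMod σ.ker) m))))
    (hKok : (ModFun.PicDeg (C ↘ Spec (CommRingCat.of k)) 0).ok (𝟙_ (Over (Spec (CommRingCat.of k)))) Kf) :
    tcl c (ψ.app _ Kf trivial hKok) = cl L * idCls σ.ker ^ m := by
  obtain ⟨n, hn, e⟩ := hψ _ Kf hKok
  rw [tcl, e, show n = 1 from invC_spec hn, map_one, _root_.mul_one, cl_eq_iff.2 hKf, ← pull_cl, pull_comp,
    toXT₀_fst, DescAppLib.pull_id, cl_tensor, cl_tensorPow']
  rfl

/-- Twists after adding Abel images. -/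
theorem twist_shift {r m : ℕ} (v : Fin r → (𝟙_ (Over (Spec (CommRingCat.of k))) ⟶ Over.mk (C ↘ Spec (CommRingCat.of k))))
    (d : 𝟙_ (Over (Spec (CommRingCat.of k))) ⟶ J) {N P : C.Modules} (eN : cl N * idCls σ.ker ^ m = tcl c d)
    (eP : cl P * ∏ i, pid (v i) = cl N) : cl P * idCls σ.ker ^ (r + m) = tcl c (d * ∏ i, v i ≫ j) := by
  refine ((invC_pids hdim Finset.univ v).isUnit.mul_right_cancel ?_).symm
  have h := class_prod hdim hf hc hj v
  rw [tcl_mul hc, _root_.mul_assoc, show tcl c (∏ i, v i ≫ j) * _ = _ from h, ← eN, ← eP, pow_add]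
  ac_rfl

variable [IsAlgClosed k]

/-- All translates by `W^r` lie in `W^n` exactly for points of `W^(n-r)`. -/
theorem forall_mem_iff {r m n : ℕ} (hn : n = r + m) (hng : n + 1 ≤ Curv2.genus k C)
    (d : 𝟙_ (Over (Spec (CommRingCat.of k))) ⟶ J) :
    (∀ v : Fin r → (𝟙_ (Over (Spec (CommRingCat.of k))) ⟶ Over.mk (C ↘ Spec (CommRingCat.of k))),
      pnt (d * ∏ i, v i ≫ j) ∈ WSet j n) ↔ pnt d ∈ WSet j m := by
  subst hn
  obtain ⟨N, hN, eN⟩ := exists_twist hdim hf hc d m
  rw [mem_WSet_iff_h0 hdim hf hc hj m d hN eN]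
  constructor
  · intro h
    refine one_le_h0_of_forall hdim r hN (by rw [deg_twist hdim hf hc d m hN eN]; omega) fun x hx P hP eP => ?_
    exact (mem_WSet_iff_h0 hdim hf hc hj _ _ hP
      (twist_shift hdim hf hc hj (fun i => pt (x i) (hx i)) d eN eP)).1 (h _)
  · intro h v
    obtain ⟨P, hP, eP⟩ := exists_div hN (invC_pids hdim Finset.univ v)
    rw [mem_WSet_iff_h0 hdim hf hc hj _ _ hP (twist_shift hdim hf hc hj v d eN eP)]
    exact h.trans (h0_points_le hdim (fun i => (v i).left) (fun i => Over.w (v i)) hP eP.symm)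

/-- Residuation preserves theta. -/
theorem mem_kappa (κ : 𝟙_ (Over (Spec (CommRingCat.of k))) ⟶ J) {n : ℕ} (hn : n + 1 = Curv2.genus k C)
    (hκ : tcl c κ = omegaCls k C * idCls σ.ker ^ (n + n)) (y : 𝟙_ (Over (Spec (CommRingCat.of k))) ⟶ J) :
    pnt (κ * y⁻¹) ∈ WSet j n ↔ pnt y ∈ WSet j n := by
  obtain ⟨N, hN, eN⟩ := exists_twist hdim hf hc y n
  obtain ⟨M, hM, eM, hNM⟩ := exists_dual (k := k) hdim hN
  have e : cl M * idCls σ.ker ^ n = tcl c (κ * y⁻¹) := by
    refine ((invC_tcl hdim hf hc y).isUnit.mul_right_cancel ?_)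
    rw [← tcl_mul hc, inv_mul_cancel_right, hκ, ← eN, ← eM, pow_add]
    ac_rfl
  rw [mem_WSet_iff_h0 hdim hf hc hj _ _ hM e, mem_WSet_iff_h0 hdim hf hc hj _ _ hN eN, ← hNM]
  have := rr (k := k) hdim N
  have := deg_twist hdim hf hc y n hN eN
  omega

end JacAlbLib

end
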