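import Groth.Agent.JacAlbLib.SumEtale
import Groth.Agent.JacAlbLib.GoodPts
import Groth.Agent.JacAlbLib.WTheta
import Groth.Agent.JacAlbLib.WShift
import Groth.Agent.FFDescLib.EtaleGraph
import Groth.Agent.AlgSpLib.ReducedStalk

/-!
# The theta divisor meets the Abel curve transversally at good divisors of distinct points
-/

set_option autoImplicit false
set_option linter.style.haveILetI false
set_option linter.unusedSectionVars false
set_option backward.isDefEq.respectTransparency false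
set_option backward.isDefEq.respectTransparency.types false
set_option maxRecDepth 8000
set_option maxHeartbeats 1000000

universe u

open CategoryTheory CategoryTheory.Limits AlgebraicGeometry TopologicalSpace MonoidalCategory CartesianMonoidalCategory
open CubeConsLib (pull pull_comp pull_cl cl cl_eq_iff cl_tensor IsoCls)
open EllLawLib (idCls)
open PicCurveLib SymProd
open HilbPts.SC (fb fp fp_comp)
open scoped MonObj

noncomputable section

namespace JacAlbLib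

/-- Ideals are compared along a map from a reduced scheme by their supports. -/
theorem le_ker_of_range_subset {X Y : Scheme.{u}} (f : X ⟶ Y) [IsReduced X] (J : Y.IdealSheafData)
    (h : Set.range f ⊆ J.support) : J ≤ f.ker := by
  rw [AlgSpRegLib.ker_eq_vanishingIdeal f, ← Scheme.IdealSheafData.le_support_iff_le_vanishingIdeal]
  exact closure_minimal h J.support.isClosed

variable {k : Type u} [Field k] [IsAlgClosed k] {C : Scheme.{u}} [C.Over (Spec (CommRingCat.of k))]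
  [IsProper (C ↘ Spec (CommRingCat.of k))] [Smooth (C ↘ Spec (CommRingCat.of k))]
  [GeometricallyConnected (C ↘ Spec (CommRingCat.of k))] (hdim : topologicalKrullDim ↥C = 1)
  (hf : Fam (C ↘ Spec (CommRingCat.of k))) {σ : Spec (CommRingCat.of k) ⟶ C}
  {hσ : σ ≫ (C ↘ Spec (CommRingCat.of k)) = 𝟙 _} {J : Over (Spec (CommRingCat.of k))} [GrpObj J]
  {c : IsoCls (PicF.XT (C ↘ Spec (CommRingCat.of k)) J)} (hc : IsRigJac σ hσ J c)
  [IsProper J.hom] [Smooth J.hom] [GeometricallyIntegral J.hom] [IsCommMonObj J]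
  {j : Over.mk (C ↘ Spec (CommRingCat.of k)) ⟶ J} (hj : IsAbel σ hσ c j)
include hdim hf hc hj

/-- The translate of the inverse theta divisor by a sum of `n + 1` points, on rational points of the curve. -/
theorem mem_sub_point {n : ℕ} (v : Fin (n + 1) → (𝟙_ (Over (Spec (CommRingCat.of k))) ⟶ Over.mk (C ↘ Spec (CommRingCat.of k))))
    {M M' : C.Modules} (hM' : PicF.IsInvertible M') (e : cl M * ∏ i, pid (v i) = 1)
    (u : 𝟙_ (Over (Spec (CommRingCat.of k))) ⟶ Over.mk (C ↘ Spec (CommRingCat.of k)))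
    (e' : cl M' = cl M * pid u) :
    pnt ((∏ i, v i ≫ j) * (u ≫ j)⁻¹) ∈ WSet j n ↔ 1 ≤ Module.finrank k (Coh.HH C M' 0) := by
  refine mem_WSet_iff_h0 hdim hf hc hj n _ hM' ?_
  refine ((invC_sigma_pow hdim hσ 1).isUnit.mul_right_cancel ?_)
  have h := class_prod hdim hf hc hj v
  calc cl M' * idCls σ.ker ^ n * idCls σ.ker ^ 1 = cl M * idCls σ.ker ^ (n + 1) * pid u := by
        rw [e', pow_one, pow_succ]; ac_rfl
    _ = cl M * (tcl c (∏ i, v i ≫ j) * ∏ i, pid (v i)) * pid u := by rw [show tcl c _ * _ = _ from h]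
    _ = tcl c (∏ i, v i ≫ j) * pid u * (cl M * ∏ i, pid (v i)) := by ac_rfl
    _ = tcl c ((∏ i, v i ≫ j) * (u ≫ j)⁻¹ * (u ≫ j)) * pid u := by rw [e, _root_.mul_one, inv_mul_cancel_right]
    _ = _ := by rw [tcl_mul hc, _root_.mul_assoc, tcl_abel hdim hf hc hj, pow_one]

omit hdim hf hc hj in
/-- The sum of a tuple. -/
theorem sum_tuple {r : ℕ} {T : Over (Spec (CommRingCat.of k))}
    (z : T ⟶ Over.mk (fb (C ↘ Spec (CommRingCat.of k)) r)) :
    z ≫ (∏ i, xi (C := C) i ≫ j) = ∏ i, (z ≫ xi (C := C) i) ≫ j := by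
  rw [comp_prod]
  exact Finset.prod_congr rfl fun i _ => (Category.assoc _ _ _).symm

/-- The rational points of the curve in the translate are the points of the divisor. -/
theorem mem_thetaMinus_iff {n : ℕ} (hn : n + 1 = Curv2.genus k C) (D : Fin (n + 1) → (Spec (CommRingCat.of k) ⟶ C))
    (hD : ∀ i, D i ≫ (C ↘ Spec (CommRingCat.of k)) = 𝟙 _)
    {MD : C.Modules} (hMD : PicF.IsInvertible MD) (hMDD : cl MD * ∏ i, idCls (D i).ker = 1)
    (hMD1 : Module.finrank k (Coh.HH C MD 0) = 1) (Z : Closeds J.left)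
    (hZ : (Z : Set J.left) = (Jac.transl J (∏ i, pt (D i) (hD i) ≫ j)).left.base ''
      (((𝟙 J)⁻¹).left.base '' WSet j n))
    (u : Spec (CommRingCat.of k) ⟶ C) (hu : u ≫ (C ↘ Spec (CommRingCat.of k)) = 𝟙 _) :
    pnt (pt u hu ≫ j) ∈ (Z : Set J.left) ↔ ∃ i, u = D i := by
  have hM' : PicF.IsInvertible (CohB1.tensorMod MD (ClSub.idealMod u.ker)) := HilbPolyLib.isInvertible_tensor hMD
    (IntMultLib.isInvertible_idealMod _ (AlgEquivCurveLib.isEffCartier_pt hdim u hu))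
  rw [hZ, mem_transl, mem_inv, mul_inv_rev, inv_inv,
    mem_sub_point hdim hf hc hj (fun i => pt (D i) (hD i)) hM' hMDD (pt u hu) (cl_tensor _ _)]
  exact h0_sub_point_iff hdim hn D hD hMD hM' hMD1 hMDD u hu (cl_tensor _ _)

/-- The support of the translate on the curve. -/
theorem support_comap_thetaMinus {n : ℕ} (hn : n + 1 = Curv2.genus k C)
    (D : Fin (n + 1) → (Spec (CommRingCat.of k) ⟶ C)) (hD : ∀ i, D i ≫ (C ↘ Spec (CommRingCat.of k)) = 𝟙 _)
    {MD : C.Modules} (hMD : PicF.IsInvertible MD) (hMDD : cl MD * ∏ i, idCls (D i).ker = 1)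
    (hMD1 : Module.finrank k (Coh.HH C MD 0) = 1) (Z : Closeds J.left)
    (hZ : (Z : Set J.left) = (Jac.transl J (∏ i, pt (D i) (hD i) ≫ j)).left.base ''
      (((𝟙 J)⁻¹).left.base '' WSet j n))
    (I : C.IdealSheafData) (hI : I = (Scheme.IdealSheafData.vanishingIdeal Z).comap j.left) :
    ∀ p : C, p ∈ I.support ↔ ∃ i, p = D i (IsLocalRing.closedPoint k) := by
  let f := C ↘ Spec (CommRingCat.of k)
  haveI : JacobsonSpace C := LocallyOfFiniteType.jacobsonSpace f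
  haveI : LocallyOfFiniteType (Over.mk f).hom := inferInstanceAs (LocallyOfFiniteType f)
  have memZ := mem_thetaMinus_iff hdim hf hc hj hn D hD hMD hMDD hMD1 Z hZ
  subst hI
  let I : C.IdealSheafData := (Scheme.IdealSheafData.vanishingIdeal Z).comap j.left
  show ∀ p : C, p ∈ I.support ↔ _
  have h1 : (I.support : Set C) = j.left.base ⁻¹' (Z : Set J.left) := by
    rw [Scheme.IdealSheafData.support_comap, show (Scheme.IdealSheafData.vanishingIdeal Z).support = Z from ?_]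
    · rfl
    · exact Closeds.ext (Scheme.IdealSheafData.coe_support_vanishingIdeal Z)
  intro p
  constructor
  · intro hp
    have hcl : IsClosed (⋃ i, ({D i (IsLocalRing.closedPoint k)} : Set C)) :=
      isClosed_iUnion_of_finite fun i => GenusZeroLib.isClosed_rational (D i) (hD i) _
    have hsub : (I.support : Set C) ⊆ ⋃ i, ({D i (IsLocalRing.closedPoint k)} : Set C) := by
      rw [← I.support.isClosed.closure_eq,
        ← JacobsonSpace.closure_inter_closedPoints_eq_closure I.support.isClosed.isLocallyClosed]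
      refine hcl.closure_subset_iff.2 ?_
      rintro q ⟨hq, hqc⟩
      obtain ⟨t, rfl⟩ := exists_pnt (J := Over.mk f) (mem_closedPoints_iff.1 hqc)
      have ht : pnt (pt t.left (Over.w t) ≫ j) ∈ (Z : Set J.left) := by
        rw [h1] at hq; exact hq
      obtain ⟨i, hi⟩ := (memZ _ _).1 ht
      exact Set.mem_iUnion.2 ⟨i, by rw [Set.mem_singleton_iff, ← hi]; rfl⟩
    exact Set.mem_iUnion.1 (hsub hp)
  · rintro ⟨i, rfl⟩
    show D i _ ∈ (I.support : Set C)
    rw [h1]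
    exact (memZ (D i) (hD i)).2 ⟨i, rfl⟩

omit hdim hf hc hj in
/-- The translate on the curve is the translate of the theta divisor pulled back along a shifted inverse. -/
theorem comap_shift {W : Set J.left} (hW : IsClosed W) (a q : 𝟙_ (Over (Spec (CommRingCat.of k))) ⟶ J)
    {Y : Over (Spec (CommRingCat.of k))} (l : Y ⟶ J)
    (Z Θ' : Closeds J.left) (hZ : (Z : Set J.left) = (Jac.transl J a).left.base '' (((𝟙 J)⁻¹).left.base '' W))
    (hΘ : (Θ' : Set J.left) = (Jac.transl J q).left.base '' W) :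
    (Scheme.IdealSheafData.vanishingIdeal Z).comap l.left =
      (Scheme.IdealSheafData.vanishingIdeal Θ').comap (l ≫ (𝟙 J)⁻¹ ≫ Jac.transl J (a * q)).left := by
  let φ : J ⟶ J := (𝟙 J)⁻¹ ≫ Jac.transl J (a * q)
  haveI : IsIso φ := by
    haveI : IsIso ((𝟙 J)⁻¹) := ⟨(𝟙 J)⁻¹, inv_comp_inv, inv_comp_inv⟩
    haveI : IsIso (Jac.transl J (a * q)) := ⟨Jac.transl J (a * q)⁻¹, transl_inv_hom _, transl_inv_hom' _⟩
    infer_instance
  haveI : IsIso φ.left := (Over.forget _).map_isIso φ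
  show _ = (Scheme.IdealSheafData.vanishingIdeal Θ').comap (l.left ≫ φ.left)
  rw [Scheme.IdealSheafData.comap_comp, AlgSpRegLib.comap_vanishingIdeal_etale φ.left Θ']
  refine congrArg (fun V => (Scheme.IdealSheafData.vanishingIdeal V).comap l.left) (Closeds.ext ?_)
  refine eq_of_points Z.isClosed (Θ'.isClosed.preimage φ.left.continuous) fun t => ?_
  show pnt t ∈ (Z : Set J.left) ↔ pnt (t ≫ φ) ∈ (Θ' : Set J.left)
  rw [hZ, hΘ, mem_transl, mem_inv, mem_transl, ← Category.assoc, comp_transl, GrpObj.comp_inv, Category.comp_id,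
    ← _root_.mul_assoc, mul_inv_cancel_right, mul_inv_rev, inv_inv, mul_comm]

/-- Near the divisor, the shifted theta divisor lies over the distinguished point. -/
theorem preimage_shift_subset {n : ℕ} (hn : n + 1 = Curv2.genus k C)
    (i₀ : Fin (n + 1)) (Q : Spec (CommRingCat.of k) ⟶ C) (hQ : Q ≫ (C ↘ Spec (CommRingCat.of k)) = 𝟙 _)
    (U' : (fibPow (C ↘ Spec (CommRingCat.of k)) (n + 1)).Opens)
    (hU1 : ∀ (z : Spec (CommRingCat.of k) ⟶ fibPow (C ↘ Spec (CommRingCat.of k)) (n + 1)),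
      z ≫ fb (C ↘ Spec (CommRingCat.of k)) (n + 1) = 𝟙 _ → z (IsLocalRing.closedPoint k) ∈ U' →
      ∀ M : C.Modules, PicF.IsInvertible M → cl M * ∏ i, idCls (z ≫ fp (C ↘ Spec (CommRingCat.of k)) i).ker = 1 →
        Module.finrank k (Coh.HH C M 0) = 1)
    (hU2 : ∀ q ∈ U', ∀ i, i ≠ i₀ → fp (C ↘ Spec (CommRingCat.of k)) i q ≠ Q (IsLocalRing.closedPoint k))
    (F' : U'.toScheme ⟶ J.left) (hF' : F' = U'.ι ≫ (∏ i, xi (C := C) i ≫ j).left)
    (Θ' : Closeds J.left) (hΘ : (Θ' : Set J.left) = (Jac.transl J (pt Q hQ ≫ j)).left.base '' WSet j n) :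
    F'.base ⁻¹' (Θ' : Set J.left) ⊆
      (U'.ι ≫ fp (C ↘ Spec (CommRingCat.of k)) i₀).base ⁻¹' {Q (IsLocalRing.closedPoint k)} := by
  classical
  subst hF'
  let f := C ↘ Spec (CommRingCat.of k)
  let T₀ : Over (Spec (CommRingCat.of k)) := 𝟙_ _
  let F : Over.mk (fb f (n + 1)) ⟶ J := ∏ i, xi (C := C) i ≫ j
  haveI : JacobsonSpace C := LocallyOfFiniteType.jacobsonSpace f
  haveI : IsProper (fb f (n + 1)) := isProper_wide (C := C) (n + 1)
  haveI : JacobsonSpace U'.toScheme := LocallyOfFiniteType.jacobsonSpace (U'.ι ≫ fb f (n + 1))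
  haveI : LocallyOfFiniteType (Over.mk (U'.ι ≫ fb f (n + 1))).hom :=
    inferInstanceAs (LocallyOfFiniteType (U'.ι ≫ fb f (n + 1)))
  let F' : U'.toScheme ⟶ J.left := U'.ι ≫ F.left
  show F'.base ⁻¹' (Θ' : Set J.left) ⊆ _
  have hcl : IsClosed (F'.base ⁻¹' (Θ' : Set J.left)) := Θ'.isClosed.preimage F'.continuous
  rw [← hcl.closure_eq, ← JacobsonSpace.closure_inter_closedPoints_eq_closure hcl.isLocallyClosed]
  refine ((GenusZeroLib.isClosed_rational Q hQ _).preimage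
    (U'.ι ≫ fp f i₀).continuous).closure_subset_iff.2 ?_
  rintro q ⟨hq, hqc⟩
  obtain ⟨t, rfl⟩ := exists_pnt (J := Over.mk (U'.ι ≫ fb f (n + 1))) (mem_closedPoints_iff.1 hqc)
  let zo : T₀ ⟶ Over.mk (fb f (n + 1)) := t ≫ (Over.homMk U'.ι rfl :
    Over.mk (U'.ι ≫ fb f (n + 1)) ⟶ Over.mk (fb f (n + 1)))
  have hzU : zo.left (IsLocalRing.closedPoint k) ∈ U' := (t.left (IsLocalRing.closedPoint k)).2
  have hzp : pnt (zo ≫ F) ∈ (Jac.transl J (pt Q hQ ≫ j)).left.base '' WSet j n := hΘ ▸ hq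
  rw [mem_transl, sum_tuple] at hzp
  obtain ⟨M, hM, eM⟩ := exists_div (CurvLib.isInvertible_structureModule (X := C))
    (invC_pids hdim Finset.univ fun i => zo ≫ xi (C := C) i)
  have eM' : cl M * ∏ i, pid (zo ≫ xi (C := C) i) = 1 := eM
  have hM' : PicF.IsInvertible (CohB1.tensorMod M (ClSub.idealMod Q.ker)) := HilbPolyLib.isInvertible_tensor hM
    (IntMultLib.isInvertible_idealMod _ (AlgEquivCurveLib.isEffCartier_pt hdim Q hQ))
  rw [mem_sub_point hdim hf hc hj _ hM' eM' (pt Q hQ) (cl_tensor _ _),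
    h0_sub_point_iff hdim hn (fun i => (zo ≫ xi (C := C) i).left) (fun i => Over.w (zo ≫ xi (C := C) i)) hM hM'
      (hU1 zo.left (Over.w zo) hzU M hM eM') eM' Q hQ (cl_tensor _ _)] at hzp
  obtain ⟨i, hi⟩ := hzp
  have hiq : fp f i (U'.ι (pnt t)) = Q (IsLocalRing.closedPoint k) :=
    (congrArg (fun z : Spec (CommRingCat.of k) ⟶ C => z (IsLocalRing.closedPoint k)) hi).symm
  by_cases hii : i = i₀
  · subst hii; exact hiq
  · exact absurd hiq (hU2 _ hzU i hii)

omit hdim hf hc hj in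
/-- Exchanging the distinguished point for the moving point moves the sum to the fixed one. -/
theorem sum_swap {n : ℕ} (i₀ : Fin (n + 1)) (a₀ q : 𝟙_ (Over (Spec (CommRingCat.of k))) ⟶ J)
    (P : 𝟙_ (Over (Spec (CommRingCat.of k))) ⟶ Over.mk (C ↘ Spec (CommRingCat.of k))) (hq : P ≫ j = q)
    {T : Over (Spec (CommRingCat.of k))} (tw : T ⟶ Over.mk (C ↘ Spec (CommRingCat.of k)))
    (zo zo' : T ⟶ Over.mk (fb (C ↘ Spec (CommRingCat.of k)) (n + 1)))
    (hFz : zo ≫ (∏ i, xi (C := C) i ≫ j) = tw ≫ j ≫ (𝟙 J)⁻¹ ≫ Jac.transl J (a₀ * q))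
    (hQ₀ : zo ≫ xi (C := C) i₀ = toUnit T ≫ P) (h0 : zo' ≫ xi (C := C) i₀ = tw)
    (h1 : ∀ i, i ≠ i₀ → zo' ≫ xi (C := C) i = zo ≫ xi (C := C) i) :
    zo' ≫ (∏ i, xi (C := C) i ≫ j) = toUnit T ≫ a₀ := by
  classical
  have hgam : tw ≫ j ≫ (𝟙 J)⁻¹ ≫ Jac.transl J (a₀ * q) =
      (tw ≫ j)⁻¹ * ((toUnit T ≫ a₀) * (toUnit T ≫ q)) := by
    rw [← Category.assoc, ← Category.assoc, GrpObj.comp_inv, Category.comp_id, Jac.transl, MonObj.comp_mul,
      Category.comp_id, ← Category.assoc, toUnit_unique (_ ≫ toUnit J) (toUnit T), MonObj.comp_mul]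
  have e1 : zo ≫ (∏ i, xi (C := C) i ≫ j) =
      (toUnit T ≫ q) * ∏ i ∈ Finset.univ.erase i₀, (zo ≫ xi (C := C) i) ≫ j := by
    rw [sum_tuple, ← Finset.mul_prod_erase Finset.univ _ (Finset.mem_univ i₀), hQ₀, Category.assoc, hq]
  have e2 : zo' ≫ (∏ i, xi (C := C) i ≫ j) =
      (tw ≫ j) * ∏ i ∈ Finset.univ.erase i₀, (zo ≫ xi (C := C) i) ≫ j := by
    rw [sum_tuple, ← Finset.mul_prod_erase Finset.univ _ (Finset.mem_univ i₀), h0]
    exact congrArg (_ * ·) (Finset.prod_congr rfl fun i hi => by rw [h1 i (Finset.ne_of_mem_erase hi)])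
  refine mul_left_cancel (a := toUnit T ≫ q) ?_
  rw [e2, mul_left_comm, ← e1, hFz, hgam, mul_inv_cancel_left, mul_comm]

omit hf hc hj in
/-- The shifted theta divisor on the curve pins the distinguished point. -/
theorem fst_section {n : ℕ} (i₀ : Fin (n + 1)) (Q : Spec (CommRingCat.of k) ⟶ C)
    (hQ : Q ≫ (C ↘ Spec (CommRingCat.of k)) = 𝟙 _)
    (U' : (fibPow (C ↘ Spec (CommRingCat.of k)) (n + 1)).Opens)
    (F : Over.mk (fb (C ↘ Spec (CommRingCat.of k)) (n + 1)) ⟶ J)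
    (gam : Over.mk (C ↘ Spec (CommRingCat.of k)) ⟶ J) [Etale (U'.ι ≫ F.left)]
    (Θ' : Closeds J.left)
    (hpre : (U'.ι ≫ F.left).base ⁻¹' (Θ' : Set J.left) ⊆
      (U'.ι ≫ fp (C ↘ Spec (CommRingCat.of k)) i₀).base ⁻¹' {Q (IsLocalRing.closedPoint k)})
    (I : C.IdealSheafData) (hI : I = (Scheme.IdealSheafData.vanishingIdeal Θ').comap gam.left) :
    ((I.comap (pullback.fst gam.left (U'.ι ≫ F.left))).subschemeι ≫
        pullback.snd gam.left (U'.ι ≫ F.left) ≫ U'.ι) ≫ fp (C ↘ Spec (CommRingCat.of k)) i₀ =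
      (((I.comap (pullback.fst gam.left (U'.ι ≫ F.left))).subschemeι ≫ pullback.fst gam.left (U'.ι ≫ F.left)) ≫
        (C ↘ Spec (CommRingCat.of k))) ≫ Q := by
  let f := C ↘ Spec (CommRingCat.of k)
  let F' : U'.toScheme ⟶ J.left := U'.ι ≫ F.left
  haveI : Etale F' := by assumption
  let π := pullback.fst gam.left F'
  let ζ := pullback.snd gam.left F'
  let IR := I.comap π
  let t := IR.subschemeι ≫ π
  let zR := IR.subschemeι ≫ ζ ≫ U'.ι
  show zR ≫ fp f i₀ = (t ≫ f) ≫ Q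
  have hzb : zR ≫ fb f (n + 1) = t ≫ f := by
    have hFw : F.left ≫ J.hom = fb f (n + 1) := Over.w F
    have hgw : gam.left ≫ J.hom = f := Over.w gam
    calc zR ≫ fb f (n + 1) = IR.subschemeι ≫ ζ ≫ F' ≫ J.hom := by
          simp only [zR, F', Category.assoc, hFw]
      _ = IR.subschemeι ≫ π ≫ gam.left ≫ J.hom := by
          simp only [π, ζ, pullback.condition_assoc]
      _ = t ≫ f := by simp only [t, Category.assoc, hgw]
  let K := Q.ker.comap (U'.ι ≫ fp f i₀)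
  have hK : K ≤ Scheme.IdealSheafData.vanishingIdeal ⟨_, Θ'.isClosed.preimage F'.continuous⟩ := by
    rw [← Scheme.IdealSheafData.le_support_iff_le_vanishingIdeal]
    intro q hq
    show q ∈ (K.support : Set _)
    rw [Scheme.IdealSheafData.support_comap]
    exact (support_ker_point hdim Q hQ _).2 (hpre hq)
  have hIR : IR = (Scheme.IdealSheafData.vanishingIdeal ⟨_, Θ'.isClosed.preimage F'.continuous⟩).comap ζ := by
    show I.comap π = _
    rw [hI, ← AlgSpRegLib.comap_vanishingIdeal_etale F' Θ', ← Scheme.IdealSheafData.comap_comp,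
      ← Scheme.IdealSheafData.comap_comp, pullback.condition]
  have h1 : Q.ker.comap (zR ≫ fp f i₀) = ⊥ := by
    have h2 : K.comap ζ ≤ IR := hIR ▸ Scheme.IdealSheafData.comap_mono (f := ζ) hK
    refine le_bot_iff.1 ?_
    rw [show zR ≫ fp f i₀ = IR.subschemeι ≫ ζ ≫ U'.ι ≫ fp f i₀ from by simp only [zR, Category.assoc],
      Scheme.IdealSheafData.comap_comp, Scheme.IdealSheafData.comap_comp]
    refine (Scheme.IdealSheafData.comap_mono (f := IR.subschemeι) h2).trans ?_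
    exact ((HilbPts.comap_eq_bot_iff _ _).2 IR.ker_subschemeι.ge).le
  haveI := EllLawLib.isClosedImmersion_sec f Q hQ
  let l := IsClosedImmersion.lift Q (zR ≫ fp f i₀) ((HilbPts.comap_eq_bot_iff _ _).1 h1)
  have hl : l ≫ Q = zR ≫ fp f i₀ := IsClosedImmersion.lift_fac _ _ _
  have hl' : l = t ≫ f := by
    calc l = l ≫ (Q ≫ f) := by rw [show Q ≫ f = 𝟙 _ from hQ]; exact (Category.comp_id l).symm
      _ = (zR ≫ fp f i₀) ≫ f := by rw [← Category.assoc, hl]
      _ = t ≫ f := by rw [Category.assoc, fp_comp, hzb]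
  rw [← hl, hl']

omit hdim hf hc hj in
/-- A neighbourhood of the distinguished point in the exchange locus is a point. -/
theorem exists_reduced_nbhd {n : ℕ} (i₀ : Fin (n + 1)) (Q : Spec (CommRingCat.of k) ⟶ C)
    (hQ : Q ≫ (C ↘ Spec (CommRingCat.of k)) = 𝟙 _)
    (U' : (fibPow (C ↘ Spec (CommRingCat.of k)) (n + 1)).Opens)
    {Y : Scheme.{u}} (G : fibPow (C ↘ Spec (CommRingCat.of k)) (n + 1) ⟶ Y) (gl : C ⟶ Y)
    (a : Spec (CommRingCat.of k) ⟶ Y) [Etale (U'.ι ≫ G)]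
    {E : Scheme.{u}} {pF : E ⟶ U'.toScheme} {sF : E ⟶ Spec (CommRingCat.of k)}
    (hE : IsPullback pF sF (U'.ι ≫ G) a)
    {W : Scheme.{u}} {π : W ⟶ C} {ζ : W ⟶ U'.toScheme} (hW : IsPullback π ζ gl (U'.ι ≫ G))
    {R : Scheme.{u}} (ιR : R ⟶ W) [Mono ιR] (Dt : Spec (CommRingCat.of k) ⟶ fibPow (C ↘ Spec (CommRingCat.of k)) (n + 1))
    (hDtb : Dt ≫ fb (C ↘ Spec (CommRingCat.of k)) (n + 1) = 𝟙 _)
    (hDtp : Dt ≫ fp (C ↘ Spec (CommRingCat.of k)) i₀ = Q) (hDta : Dt ≫ G = a)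
    (hDoU : Dt (IsLocalRing.closedPoint k) ∈ U')
    (hzb : (ιR ≫ ζ ≫ U'.ι) ≫ fb (C ↘ Spec (CommRingCat.of k)) (n + 1) =
      (ιR ≫ π) ≫ (C ↘ Spec (CommRingCat.of k)))
    (hzQ : (ιR ≫ ζ ≫ U'.ι) ≫ fp (C ↘ Spec (CommRingCat.of k)) i₀ = ((ιR ≫ π) ≫ (C ↘ Spec (CommRingCat.of k))) ≫ Q)
    (zs : R ⟶ fibPow (C ↘ Spec (CommRingCat.of k)) (n + 1))
    (hzsb : zs ≫ fb (C ↘ Spec (CommRingCat.of k)) (n + 1) = (ιR ≫ π) ≫ (C ↘ Spec (CommRingCat.of k)))
    (hzs0 : zs ≫ fp (C ↘ Spec (CommRingCat.of k)) i₀ = ιR ≫ π)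
    (hzs1 : ∀ i, i ≠ i₀ → zs ≫ fp (C ↘ Spec (CommRingCat.of k)) i = (ιR ≫ ζ ≫ U'.ι) ≫ fp (C ↘ Spec (CommRingCat.of k)) i)
    (hzsG : zs ≫ G = ((ιR ≫ π) ≫ (C ↘ Spec (CommRingCat.of k))) ≫ a)
    (wR : Spec (CommRingCat.of k) ⟶ R) (hwt : wR ≫ ιR ≫ π = Q) (hwz : wR ≫ ιR ≫ ζ ≫ U'.ι = Dt) :
    ∃ (R₁ : Scheme.{u}) (p₁ : R₁ ⟶ R) (x₁ : R₁), IsOpenImmersion p₁ ∧ IsReduced R₁ ∧
      p₁ x₁ = wR (IsLocalRing.closedPoint k) := by
  classical
  let f := C ↘ Spec (CommRingCat.of k)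
  let t := ιR ≫ π
  let zR := ιR ≫ ζ ≫ U'.ι
  have hDtr : Set.range Dt ⊆ Set.range U'.ι := by
    rw [Scheme.Opens.range_ι]; rintro _ ⟨p, rfl⟩
    rw [show p = IsLocalRing.closedPoint k from Subsingleton.elim (α := PrimeSpectrum k) _ _]
    exact hDoU
  let lD := IsOpenImmersion.lift U'.ι Dt hDtr
  have hlD : lD ≫ U'.ι = Dt := IsOpenImmersion.lift_fac _ _ _
  haveI : Etale sF := MorphismProperty.of_isPullback (P := @Etale) hE inferInstance
  have hwz' : wR ≫ zs = Dt := by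
    refine WidePullback.hom_ext _ _ _ (fun i => ?_) ?_
    · show (wR ≫ zs) ≫ fp f i = Dt ≫ fp f i
      rw [Category.assoc]
      by_cases hii : i = i₀
      · subst hii; rw [hzs0, hwt, hDtp]
      · rw [hzs1 i hii]
        simp only [← Category.assoc] at hwz ⊢
        rw [hwz]
    · show (wR ≫ zs) ≫ fb f (n + 1) = Dt ≫ fb f (n + 1)
      rw [Category.assoc, hzsb, hDtb, ← Category.assoc, hwt]
      exact hQ
  let R₀ : R.Opens := zs ⁻¹ᵁ U'
  have hr₀ : wR (IsLocalRing.closedPoint k) ∈ R₀ := by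
    show (wR ≫ zs) (IsLocalRing.closedPoint k) ∈ U'
    rw [hwz']; exact hDoU
  let e₀ : Spec (CommRingCat.of k) ⟶ E := hE.lift lD (𝟙 _) (by rw [reassoc_of% hlD, Category.id_comp, hDta])
  have he₁ : e₀ ≫ pF = lD := hE.lift_fst _ _ _
  have he₂ : e₀ ≫ sF = 𝟙 _ := hE.lift_snd _ _ _
  haveI : IsOpenImmersion e₀ := FFDescLib.isOpenImmersion_of_section sF e₀ he₂
  let lU : R₀.toScheme ⟶ U'.toScheme := IsOpenImmersion.lift U'.ι (R₀.ι ≫ zs) (by
    rw [Scheme.Opens.range_ι]; rintro _ ⟨p, rfl⟩; exact p.2)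
  have hlU : lU ≫ U'.ι = R₀.ι ≫ zs := IsOpenImmersion.lift_fac _ _ _
  let ψ : R₀.toScheme ⟶ E := hE.lift lU (R₀.ι ≫ t ≫ f) (by
    rw [reassoc_of% hlU, hzsG]
    simp only [t, Category.assoc]
    rfl)
  have hψ₁ : ψ ≫ pF = lU := hE.lift_fst _ _ _
  have hψ₂ : ψ ≫ sF = R₀.ι ≫ t ≫ f := hE.lift_snd _ _ _
  let R₁ : R₀.toScheme.Opens := ψ ⁻¹ᵁ e₀.opensRange
  let w₀ : Spec (CommRingCat.of k) ⟶ R₀.toScheme := IsOpenImmersion.lift R₀.ι wR (by
    rw [Scheme.Opens.range_ι]; rintro _ ⟨p, rfl⟩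
    rw [show p = IsLocalRing.closedPoint k from Subsingleton.elim (α := PrimeSpectrum k) _ _]
    exact hr₀)
  have hw₀ : w₀ ≫ R₀.ι = wR := IsOpenImmersion.lift_fac _ _ _
  have hw₀ψ : w₀ ≫ ψ = e₀ := by
    apply hE.hom_ext
    · rw [Category.assoc, hψ₁, he₁, ← cancel_mono U'.ι, Category.assoc, hlU, hlD, ← Category.assoc, hw₀, hwz']
    · rw [Category.assoc, hψ₂, he₂, ← Category.assoc, hw₀, ← Category.assoc, hwt, hQ]
  let l₁ := IsOpenImmersion.lift R₁.ι w₀ (by
    rw [Scheme.Opens.range_ι]; rintro _ ⟨p, rfl⟩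
    show ψ (w₀ p) ∈ e₀.opensRange
    rw [← Scheme.Hom.comp_apply, hw₀ψ]
    exact ⟨p, rfl⟩)
  have hl₁ : l₁ ≫ R₁.ι = w₀ := IsOpenImmersion.lift_fac _ _ _
  let s₁ : R₁.toScheme ⟶ Spec (CommRingCat.of k) := IsOpenImmersion.lift e₀ (R₁.ι ≫ ψ) (by
    rintro _ ⟨p, rfl⟩; exact p.2)
  have hs₁ : s₁ ≫ e₀ = R₁.ι ≫ ψ := IsOpenImmersion.lift_fac _ _ _
  let p₁ : R₁.toScheme ⟶ R := R₁.ι ≫ R₀.ι
  have hz₁ : p₁ ≫ zs = s₁ ≫ Dt := by
    have := congrArg (fun z => z ≫ pF ≫ U'.ι) hs₁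
    simp only [Category.assoc, reassoc_of% he₁, reassoc_of% hψ₁] at this
    rw [hlD, hlU] at this
    simp only [p₁, Category.assoc]
    exact this.symm
  have hsf : s₁ = p₁ ≫ t ≫ f := by
    have := congrArg (fun z => z ≫ sF) hs₁
    simp only [Category.assoc, he₂, hψ₂, Category.comp_id] at this
    simp only [p₁, Category.assoc]
    exact this
  have ht₁ : p₁ ≫ t = s₁ ≫ Q := by
    have h := congrArg (fun z => z ≫ fp f i₀) hz₁
    simp only [Category.assoc] at h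
    rw [hzs0, hDtp] at h
    exact h
  have hp₁ : p₁ ≫ ιR = s₁ ≫ wR ≫ ιR := by
    apply hW.hom_ext
    · simp only [Category.assoc]
      show p₁ ≫ t = _
      rw [hwt, ht₁]
    · rw [← cancel_mono U'.ι]
      simp only [Category.assoc]
      show p₁ ≫ zR = _
      rw [hwz]
      refine WidePullback.hom_ext _ _ _ (fun i => ?_) ?_
      · refine (Category.assoc _ _ _).trans (Eq.trans ?_ (Category.assoc _ _ _).symm)
        show p₁ ≫ zR ≫ fp f i = s₁ ≫ Dt ≫ fp f i
        by_cases hii : i = i₀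
        · subst hii
          rw [hzQ, hDtp, ← Category.assoc p₁, ← hsf]
        · have h := congrArg (fun z => z ≫ fp f i) hz₁
          simp only [Category.assoc] at h
          rw [hzs1 i hii] at h
          exact h
      · refine (Category.assoc _ _ _).trans (Eq.trans ?_ (Category.assoc _ _ _).symm)
        show p₁ ≫ zR ≫ fb f (n + 1) = s₁ ≫ Dt ≫ fb f (n + 1)
        rw [hDtb, Category.comp_id, hzb, hsf]
  haveI : IsIso s₁ := by
    have hp : p₁ = s₁ ≫ wR := by rw [← cancel_mono ιR, Category.assoc]; exact hp₁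
    haveI : Mono p₁ := inferInstance
    refine ⟨l₁, ?_, ?_⟩
    · rw [← cancel_mono p₁, Category.id_comp, Category.assoc, show l₁ ≫ p₁ = wR from by
        simp only [p₁]; rw [reassoc_of% hl₁, hw₀]]
      exact hp.symm
    · rw [← cancel_mono e₀, Category.assoc, hs₁, Category.id_comp, reassoc_of% hl₁]
      exact hw₀ψ
  haveI : IsReduced R₁.toScheme := isReduced_of_isOpenImmersion s₁
  refine ⟨R₁.toScheme, p₁, l₁ (IsLocalRing.closedPoint k), inferInstance, inferInstance, ?_⟩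
  rw [← Scheme.Hom.comp_apply]
  congr 1
  simp only [p₁]
  rw [reassoc_of% hl₁, hw₀]

omit hdim hf hc hj in
/-- Reducedness descends along a flat map from the exchange locus. -/
theorem isReduced_stalk_of_nbhd {X W : Scheme.{u}} (π : W ⟶ X) [Flat π] (I : X.IdealSheafData) {S : Scheme.{u}}
    (wR : S ⟶ (I.comap π).subscheme) (s : S) (zz : I.subscheme)
    (hzz : π ((I.comap π).subschemeι (wR s)) = I.subschemeι zz) {R₁ : Scheme.{u}} (p₁ : R₁ ⟶ (I.comap π).subscheme)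
    [IsOpenImmersion p₁] [IsReduced R₁] (x₁ : R₁) (hx : p₁ x₁ = wR s) :
    _root_.IsReduced (I.subscheme.presheaf.stalk zz) := by
  let π' : (I.comap π).subscheme ⟶ I.subscheme := (I.comapIso π).hom ≫ pullback.snd π I.subschemeι
  haveI : Flat π' := by
    haveI : Flat (pullback.snd π I.subschemeι) := MorphismProperty.pullback_snd (P := @Flat) _ _ inferInstance
    infer_instance
  have hπ' : π' ≫ I.subschemeι = (I.comap π).subschemeι ≫ π := by
    rw [Category.assoc, ← pullback.condition, ← Category.assoc, Scheme.IdealSheafData.comapIso_hom_fst]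
  haveI : Flat (p₁ ≫ π') := inferInstance
  have hx₁ : (p₁ ≫ π') x₁ = zz := by
    apply I.subschemeι.isClosedEmbedding.injective
    rw [← Scheme.Hom.comp_apply, Category.assoc, hπ', Scheme.Hom.comp_apply, hx, Scheme.Hom.comp_apply, hzz]
  rw [← hx₁]
  exact AlgSpLib.isReduced_stalk_of_flat (p₁ ≫ π') x₁

omit hdim hf hc hj in
/-- **Descent of reducedness along the exchange of points.** -/
theorem isReduced_stalk_swap {n : ℕ} (i₀ : Fin (n + 1)) (Q : Spec (CommRingCat.of k) ⟶ C)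
    (hQ : Q ≫ (C ↘ Spec (CommRingCat.of k)) = 𝟙 _)
    (U' : (fibPow (C ↘ Spec (CommRingCat.of k)) (n + 1)).Opens)
    (F : Over.mk (fb (C ↘ Spec (CommRingCat.of k)) (n + 1)) ⟶ J)
    (gam : Over.mk (C ↘ Spec (CommRingCat.of k)) ⟶ J) [Etale (U'.ι ≫ F.left)]
    (Do : 𝟙_ (Over (Spec (CommRingCat.of k))) ⟶ Over.mk (fb (C ↘ Spec (CommRingCat.of k)) (n + 1)))
    (hDoU : Do.left (IsLocalRing.closedPoint k) ∈ U') (hDQ : Do ≫ xi (C := C) i₀ = pt Q hQ)
    (hDgam : pt Q hQ ≫ gam = Do ≫ F)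
    (I : C.IdealSheafData) (hQI : Q (IsLocalRing.closedPoint k) ∈ I.support)
    (hsec : ((I.comap (pullback.fst gam.left (U'.ι ≫ F.left))).subschemeι ≫
        pullback.snd gam.left (U'.ι ≫ F.left) ≫ U'.ι) ≫ fp (C ↘ Spec (CommRingCat.of k)) i₀ =
      (((I.comap (pullback.fst gam.left (U'.ι ≫ F.left))).subschemeι ≫ pullback.fst gam.left (U'.ι ≫ F.left)) ≫
        (C ↘ Spec (CommRingCat.of k))) ≫ Q)
    (hswap : ∀ {T : Over (Spec (CommRingCat.of k))} (tw : T ⟶ Over.mk (C ↘ Spec (CommRingCat.of k)))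
      (zo zo' : T ⟶ Over.mk (fb (C ↘ Spec (CommRingCat.of k)) (n + 1))), zo ≫ F = tw ≫ gam →
      zo ≫ xi (C := C) i₀ = toUnit T ≫ pt Q hQ → zo' ≫ xi (C := C) i₀ = tw →
      (∀ i, i ≠ i₀ → zo' ≫ xi (C := C) i = zo ≫ xi (C := C) i) → zo' ≫ F = toUnit T ≫ Do ≫ F)
    (zz : I.subscheme) (hi₀ : I.subschemeι zz = Q (IsLocalRing.closedPoint k)) :
    _root_.IsReduced (I.subscheme.presheaf.stalk zz) := by
  classical
  let f := C ↘ Spec (CommRingCat.of k)
  let Dt : Spec (CommRingCat.of k) ⟶ fibPow f (n + 1) := Do.left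
  have hDtb : Dt ≫ fb f (n + 1) = 𝟙 _ := Over.w Do
  let F' : U'.toScheme ⟶ J.left := U'.ι ≫ F.left
  haveI : Etale F' := by assumption
  have hDtr : Set.range Dt ⊆ Set.range U'.ι := by
    rw [Scheme.Opens.range_ι]; rintro _ ⟨p, rfl⟩
    rw [show p = IsLocalRing.closedPoint k from Subsingleton.elim (α := PrimeSpectrum k) _ _]
    exact hDoU
  let a₀ : 𝟙_ (Over (Spec (CommRingCat.of k))) ⟶ J := Do ≫ F
  let π := pullback.fst gam.left F'
  let ζ := pullback.snd gam.left F'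
  haveI : Etale π := MorphismProperty.pullback_fst (P := @Etale) _ _ inferInstance
  let IR := I.comap π
  let R := IR.subscheme
  let t := IR.subschemeι ≫ π
  let zR := IR.subschemeι ≫ ζ ≫ U'.ι
  let TR : Over (Spec (CommRingCat.of k)) := Over.mk (t ≫ f)
  have hzb : zR ≫ fb f (n + 1) = t ≫ f := by
    have hFw : F.left ≫ J.hom = fb f (n + 1) := Over.w F
    have hgw : gam.left ≫ J.hom = f := Over.w gam
    calc zR ≫ fb f (n + 1) = IR.subschemeι ≫ ζ ≫ F' ≫ J.hom := by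
          simp only [zR, F', Category.assoc, hFw]
      _ = IR.subschemeι ≫ π ≫ gam.left ≫ J.hom := by
          simp only [π, ζ, pullback.condition_assoc]
      _ = t ≫ f := by simp only [t, Category.assoc, hgw]
  have hzQ : zR ≫ fp f i₀ = (t ≫ f) ≫ Q := hsec
  let tw : TR ⟶ Over.mk f := Over.homMk t rfl
  let zo : TR ⟶ Over.mk (fb f (n + 1)) := Over.homMk zR hzb
  let y : Fin (n + 1) → (TR ⟶ Over.mk f) := Function.update (fun i => zo ≫ xi (C := C) i) i₀ tw
  let zo' : TR ⟶ Over.mk (fb f (n + 1)) :=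
    Over.homMk (WidePullback.lift (t ≫ f) (fun i => (y i).left) fun i => Over.w (y i)) (WidePullback.lift_base _ _ _ _)
  have hy : ∀ i, zo' ≫ xi (C := C) i = y i := fun i =>
    Over.OverMorphism.ext (WidePullback.lift_π _ _ _ _ _)
  have hy' : ∀ i, zo'.left ≫ fp f i = (y i).left := fun i => WidePullback.lift_π _ _ _ _ _
  have hy0 : (y i₀).left = t := by simp only [y, Function.update_self]; rfl
  have hy1 : ∀ i, i ≠ i₀ → (y i).left = zR ≫ fp f i := fun i hi => by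
    simp only [y, Function.update_of_ne hi]; rfl
  have hFz : zo ≫ F = tw ≫ gam := Over.OverMorphism.ext (by
    show zR ≫ F.left = t ≫ gam.left
    simp only [zR, t, Category.assoc]
    exact congrArg (IR.subschemeι ≫ ·) pullback.condition.symm)
  have hFz' : zo' ≫ F = toUnit TR ≫ a₀ := hswap tw zo zo' hFz (Over.OverMorphism.ext hzQ)
    (by rw [hy]; simp only [y, Function.update_self])
    (fun i hi => by rw [hy]; simp only [y, Function.update_of_ne hi])
  have hFz'' : zo'.left ≫ F.left = (t ≫ f) ≫ Dt ≫ F.left := congrArg CommaMorphism.left hFz'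
  have hDtp : Dt ≫ fp f i₀ = Q := congrArg CommaMorphism.left hDQ
  -- the point over `Q`
  let lD := IsOpenImmersion.lift U'.ι Dt hDtr
  have hlD : lD ≫ U'.ι = Dt := IsOpenImmersion.lift_fac _ _ _
  have hw : Q ≫ gam.left = lD ≫ F' := by
    show _ = lD ≫ U'.ι ≫ F.left
    rw [reassoc_of% hlD]
    exact congrArg CommaMorphism.left hDgam
  let w := pullback.lift Q lD hw
  have hwπ : w ≫ π = Q := pullback.lift_fst _ _ _
  have hwζ : w ≫ ζ ≫ U'.ι = Dt := by
    rw [← Category.assoc, pullback.lift_snd]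
    exact hlD
  have hwR : IR ≤ w.ker := by
    refine le_ker_of_range_subset w _ ?_
    rintro _ ⟨p, rfl⟩
    show w p ∈ (IR.support : Set _)
    rw [Scheme.IdealSheafData.support_comap]
    show π (w p) ∈ I.support
    rw [← Scheme.Hom.comp_apply, hwπ, show p = IsLocalRing.closedPoint k from Subsingleton.elim (α := PrimeSpectrum k) _ _]
    exact hQI
  let wR : Spec (CommRingCat.of k) ⟶ R := IsClosedImmersion.lift IR.subschemeι w (IR.ker_subschemeι.le.trans hwR)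
  have hwR' : wR ≫ IR.subschemeι = w := IsClosedImmersion.lift_fac _ _ _
  have hwt : wR ≫ t = Q := by rw [← Category.assoc, hwR', hwπ]
  have hwz : wR ≫ zR = Dt := by rw [← Category.assoc, hwR', hwζ]
  obtain ⟨R₁, p₁, x₁, hp₁, hR₁, hx⟩ := exists_reduced_nbhd i₀ Q hQ U' F.left gam.left a₀.left
    (IsPullback.of_hasPullback F' a₀.left) (IsPullback.of_hasPullback gam.left F') IR.subschemeι Dt hDtb hDtp rfl
    hDoU hzb hzQ zo'.left (WidePullback.lift_base _ _ _ _) ((hy' i₀).trans hy0)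
    (fun i hi => (hy' i).trans (hy1 i hi)) hFz'' wR hwt hwz
  haveI := hp₁; haveI := hR₁
  refine isReduced_stalk_of_nbhd π I wR (IsLocalRing.closedPoint k) zz ?_ p₁ x₁ hx
  refine Eq.trans ?_ hi₀.symm
  show (wR ≫ (I.comap π).subschemeι ≫ π) (IsLocalRing.closedPoint k) = _
  exact congrArg (fun m : Spec (CommRingCat.of k) ⟶ C => m (IsLocalRing.closedPoint k)) hwt

/-- **The inverse theta divisor, translated by a good divisor of distinct points, cuts out that divisor.** -/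
theorem comap_thetaMinus_eq {n : ℕ} (hn : n + 1 = Curv2.genus k C) (D : Fin (n + 1) → (Spec (CommRingCat.of k) ⟶ C))
    (hD : ∀ i, D i ≫ (C ↘ Spec (CommRingCat.of k)) = 𝟙 _) (hinj : ∀ i i', D i = D i' → i = i')
    {MD : C.Modules} (hMD : PicF.IsInvertible MD) (hMDD : cl MD * ∏ i, idCls (D i).ker = 1)
    (hMD1 : Module.finrank k (Coh.HH C MD 0) = 1) (Z : Closeds J.left)
    (hZ : (Z : Set J.left) = (Jac.transl J (∏ i, pt (D i) (hD i) ≫ j)).left.base ''
      (((𝟙 J)⁻¹).left.base '' WSet j n)) :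
    (Scheme.IdealSheafData.vanishingIdeal Z).comap j.left = ⨅ i, (D i).ker := by
  classical
  let f := C ↘ Spec (CommRingCat.of k)
  let T₀ : Over (Spec (CommRingCat.of k)) := 𝟙_ _
  let a₀ : T₀ ⟶ J := ∏ i, pt (D i) (hD i) ≫ j
  let I : C.IdealSheafData := (Scheme.IdealSheafData.vanishingIdeal Z).comap j.left
  have hsupp := support_comap_thetaMinus hdim hf hc hj hn D hD hMD hMDD hMD1 Z hZ I rfl
  -- the étale sum map
  obtain ⟨U, hUet, hUin, hUout⟩ := exists_etale_open hdim hf hc hj (by omega)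
  revert hUin hUout hUet U
  rw [← hn]
  intro U hUet hUin hUout
  let F : Over.mk (fb f (n + 1)) ⟶ J := ∏ i, xi (C := C) i ≫ j
  let Dt : Spec (CommRingCat.of k) ⟶ fibPow f (n + 1) := WidePullback.lift (𝟙 _) D hD
  have hDtb : Dt ≫ fb f (n + 1) = 𝟙 _ := WidePullback.lift_base _ _ _ _
  have hDtp : ∀ i, Dt ≫ fp f i = D i := fun i => WidePullback.lift_π _ _ _ _ _
  have hDtU : Dt (IsLocalRing.closedPoint k) ∈ U :=
    hUin Dt hDtb (fun i i' h => hinj i i' (by rwa [hDtp, hDtp] at h)) fun M hM e => by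
      simp only [show ∀ i, Dt ≫ fp (C ↘ Spec (CommRingCat.of k)) i = D i from hDtp] at e
      rw [← hMD1]
      exact h_congr (k := k) ((isUnit_pts hdim hf D hD).mul_right_cancel (e.trans hMDD.symm)) 0
  -- reducedness at each point
  have hred : ∀ z : I.subscheme, _root_.IsReduced (I.subscheme.presheaf.stalk z) := by
    intro zz
    obtain ⟨i₀, hi₀⟩ := (hsupp (I.subschemeι zz)).1 (by rw [← SetLike.mem_coe, ← I.range_subschemeι]; exact ⟨zz, rfl⟩)
    let Q := D i₀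
    let Qp : C := Q (IsLocalRing.closedPoint k)
    have hQc : IsClosed ({Qp} : Set C) := GenusZeroLib.isClosed_rational Q (hD i₀) _
    let jQ : T₀ ⟶ J := pt Q (hD i₀) ≫ j
    let Θ' : Closeds J.left := ⟨(Jac.transl J jQ).left.base '' WSet j n, isClosed_transl jQ (isClosed_WSet j n)⟩
    let gam : Over.mk f ⟶ J := j ≫ (𝟙 J)⁻¹ ≫ Jac.transl J (a₀ * jQ)
    let V : (fibPow f (n + 1)).Opens := ⟨⋂ (i : Fin (n + 1)), ⋂ (_ : i ≠ i₀), (fp f i).base ⁻¹' {Qp}ᶜ,
      isOpen_iInter_of_finite fun i => isOpen_iInter_of_finite fun _ => hQc.isOpen_compl.preimage (fp f i).continuous⟩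
    let U' := U ⊓ V
    have hDtU' : Dt (IsLocalRing.closedPoint k) ∈ U' := by
      refine ⟨hDtU, Set.mem_iInter.2 fun i => Set.mem_iInter.2 fun hne h => hne (hinj i i₀ ?_)⟩
      refine eq_of_point_eq hdim (hD i) (hD i₀) (Eq.trans ?_ h)
      show _ = fp f i (Dt (IsLocalRing.closedPoint k))
      rw [← Scheme.Hom.comp_apply, hDtp]
    haveI : Etale (U.ι ≫ F.left) := hUet
    haveI : Etale (U'.ι ≫ F.left) := by
      rw [← Scheme.homOfLE_ι (X := fibPow f (n + 1)) (inf_le_left : U' ≤ U), Category.assoc]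
      infer_instance
    let Do : T₀ ⟶ Over.mk (fb f (n + 1)) := Over.homMk Dt hDtb
    have hDoi : ∀ i, Do ≫ xi (C := C) i = pt (D i) (hD i) := fun i => Over.OverMorphism.ext (hDtp i)
    have hDF : Do ≫ F = a₀ := by
      rw [sum_tuple]
      exact Finset.prod_congr rfl fun i _ => congrArg (· ≫ j) (hDoi i)
    have hDgam : pt Q (hD i₀) ≫ gam = Do ≫ F := by
      rw [hDF, show pt Q (hD i₀) ≫ gam = (pt Q (hD i₀) ≫ j ≫ (𝟙 J)⁻¹) ≫ Jac.transl J (a₀ * jQ) from by
        simp only [gam, Category.assoc], comp_transl, ← Category.assoc, GrpObj.comp_inv, Category.comp_id]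
      show jQ⁻¹ * (a₀ * jQ) = _
      rw [mul_comm a₀, inv_mul_cancel_left]
    have hI : I = (Scheme.IdealSheafData.vanishingIdeal Θ').comap gam.left :=
      comap_shift (isClosed_WSet j n) a₀ jQ j Z Θ' hZ rfl
    refine isReduced_stalk_swap i₀ Q (hD i₀) U' F gam Do hDtU' (hDoi i₀) hDgam I ((hsupp _).2 ⟨i₀, rfl⟩) ?_ ?_ zz hi₀
    · exact fst_section hdim i₀ Q (hD i₀) U' F gam Θ' (preimage_shift_subset hdim hf hc hj hn i₀ Q (hD i₀) U'
        (fun z hz hzU M hM e => hUout z hz hzU.1 M hM e)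
        (fun q hq i hi h => Set.mem_iInter.1 (Set.mem_iInter.1 hq.2 i) hi h) _ rfl Θ' rfl) I hI
    · intro T tw zo zo' h1 h2 h3 h4
      rw [hDF]
      exact sum_swap i₀ a₀ jQ (pt Q (hD i₀)) rfl tw zo zo' h1 h2 h3 h4
  haveI := hred
  haveI : IsReduced I.subscheme := isReduced_of_isReduced_stalk I.subscheme
  rw [show (Scheme.IdealSheafData.vanishingIdeal Z).comap j.left = I from rfl, AlgSpRegLib.eq_vanishingIdeal_support I,
    iInf_congr fun i => SecDivLib.ker_rational (D i) (hD i), ← Scheme.IdealSheafData.vanishingIdeal_iSup]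
  refine congrArg _ (le_antisymm (fun p hp => ?_) (iSup_le fun i p hp => ?_))
  · obtain ⟨i, hi⟩ := (hsupp p).1 hp
    exact le_iSup (fun i => (⟨{D i (IsLocalRing.closedPoint k)}, GenusZeroLib.isClosed_rational (D i) (hD i) _⟩ : Closeds C)) i
      (show p ∈ ({D i (IsLocalRing.closedPoint k)} : Set C) from hi)
  · exact (hsupp p).2 ⟨i, hp⟩

end JacAlbLib

end
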