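import Groth.Agent.JacAlbLib.JacDescent
import Groth.Agent.JacAlbLib.GeomPoints
import Groth.Agent.PicLiftLib.Vanish
import Groth.Agent.AlgSpRegLib.CutByApps

/-!
# Theta loci under a finite extension of the base field
-/

set_option autoImplicit false
set_option linter.style.haveILetI false
set_option linter.unusedSectionVars false
set_option backward.isDefEq.respectTransparency false
set_option backward.isDefEq.respectTransparency.types false
set_option maxRecDepth 8000
set_option maxHeartbeats 1000000

universe u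

open CategoryTheory CategoryTheory.Limits AlgebraicGeometry MonoidalCategory CartesianMonoidalCategory TopologicalSpace
open CubeConsLib (pull pull_comp pull_cl cl cl_eq_iff cl_tensor IsoCls)
open AVIndexLib (dn dnMap toDn toDn_injective toDn_comp)
open PicCurveLib
open scoped MonObj

noncomputable section

namespace JacAlbLib

/-- Vanishing of cohomology only depends on the class, along an isomorphism. -/
theorem subsingleton_HH_iff_of_pull {X Y : Scheme.{u}} (σ : X ⟶ Y) [IsIso σ] {M : Y.Modules} {M' : X.Modules} (n : ℕ)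
    (e : cl M' = pull σ (cl M)) : Subsingleton (Coh.HH X M' n) ↔ Subsingleton (Coh.HH Y M n) := by
  constructor
  · intro h
    have h' := PicLiftLib.subsingleton_HH_pullback_of_isIso (inv σ) M' n h
    refine SerreVanLib.subsingleton_HH_of_iso (cl_eq_iff.1 ?_).some n h'
    rw [← pull_cl, e, pull_comp, IsIso.inv_hom_id, DescAppLib.pull_id]
  · intro h
    have h' := PicLiftLib.subsingleton_HH_pullback_of_isIso σ M n h
    exact SerreVanLib.subsingleton_HH_of_iso (cl_eq_iff.1 (e.trans (pull_cl _ _))).some n h'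

section Connected

variable {k : Type u} [Field k] {k' : Type u} [Field k'] [Algebra k k'] [Module.Finite k k']

/-- Geometric connectedness descends along a finite extension. -/
theorem geometricallyConnected_of_bc (M : Over (Spec (CommRingCat.of k)))
    (h : GeometricallyConnected (Red.bc (Spec.map (CommRingCat.ofHom (algebraMap k k'))) M).hom) :
    GeometricallyConnected M.hom := by
  let t : Spec (CommRingCat.of k') ⟶ Spec (CommRingCat.of k) := Spec.map (CommRingCat.ofHom (algebraMap k k'))
  refine Groth.Agent.WeilRes.geometricallyConnected_of_geomPt M.hom fun s => ?_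
  let Ω : Type u := AlgebraicClosure ((Spec (CommRingCat.of k)).residueField s)
  let g : Spec (CommRingCat.of Ω) ⟶ Spec (CommRingCat.of k) := Red.geomPt s
  let ψ : CommRingCat.of k ⟶ CommRingCat.of Ω := Spec.preimage g
  letI : Algebra k Ω := ψ.hom.toAlgebra
  haveI : Algebra.IsAlgebraic k k' := Algebra.IsAlgebraic.of_finite k k'
  let emb : k' →ₐ[k] Ω := IsAlgClosed.lift
  let b : Spec (CommRingCat.of Ω) ⟶ Spec (CommRingCat.of k') := Spec.map (CommRingCat.ofHom emb.toRingHom)
  have hb : b ≫ t = g := by
    rw [← Spec.map_preimage g, ← Spec.map_comp]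
    congr 1
    ext a
    exact emb.commutes a
  haveI : ConnectedSpace ↥(pullback (Red.bc t M).hom b) :=
    h.geometrically_connectedSpace _ _ _ (IsPullback.of_hasPullback (Red.bc t M).hom b)
  have H := (IsPullback.of_hasPullback (Red.bc t M).hom b).paste_horiz (IsPullback.of_hasPullback M.hom t)
  rw [hb] at H
  exact H.isoPullback.hom.homeomorph.connectedSpace_iff.1 inferInstance

end Connected

variable {k : Type u} [Field k] {C : Scheme.{u}} [C.Over (Spec (CommRingCat.of k))]
  [IsProper (C ↘ Spec (CommRingCat.of k))] [Smooth (C ↘ Spec (CommRingCat.of k))]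
  [GeometricallyConnected (C ↘ Spec (CommRingCat.of k))] (hdim : topologicalKrullDim ↥C = 1)
  (hf : Fam (C ↘ Spec (CommRingCat.of k)))
  {k' : Type u} [Field k'] (t : Spec (CommRingCat.of k') ⟶ Spec (CommRingCat.of k))
  {d : ℤ} {M : Over (Spec (CommRingCat.of k))}
  {φ : (ModFun.PicDeg (C ↘ Spec (CommRingCat.of k)) d).Hom ⊤ M}
  (φB : (ModFun.PicDeg (pullback.snd (C ↘ Spec (CommRingCat.of k)) t) d).Hom ⊤ (Red.bc t M))
  (hφB : ∀ (T : Over (Spec (CommRingCat.of k'))) (L : (PicF.XT (pullback.snd (C ↘ Spec (CommRingCat.of k)) t) T).Modules)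
    (hL : (ModFun.PicDeg (pullback.snd (C ↘ Spec (CommRingCat.of k)) t) d).ok T L),
    toDn t (φB.app T L trivial hL) = φ.app (dn t T) _ trivial (ok_bcXTIso hdim hf t d hL))
  (N : C.Modules)
include hdim hf hφB

/-- The condition of the jump locus under the identification of the total spaces. -/
theorem jump_iff {Ω : Type u} [Field Ω] (s' : Spec (CommRingCat.of Ω) ⟶ Spec (CommRingCat.of k'))
    (x : (PicF.XT (pullback.snd (C ↘ Spec (CommRingCat.of k)) t) (Over.mk s')).Modules)
    (L : (PicF.XT (C ↘ Spec (CommRingCat.of k)) (Over.mk (s' ≫ t))).Modules)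
    (e : cl x = pull (AgPol.bcXTIso t (Over.mk (C ↘ Spec (CommRingCat.of k))) (Over.mk s')).hom (cl L)) :
    (Subsingleton (Coh.HH (PicF.XT (pullback.snd (C ↘ Spec (CommRingCat.of k)) t) (Over.mk s'))
      (CohB1.tensorMod x ((Scheme.Modules.pullback (pullback.fst (pullback.snd (C ↘ Spec (CommRingCat.of k)) t) s')).obj
        ((Scheme.Modules.pullback (pullback.fst (C ↘ Spec (CommRingCat.of k)) t)).obj N))) 0)) ↔
      Subsingleton (Coh.HH (PicF.XT (C ↘ Spec (CommRingCat.of k)) (Over.mk (s' ≫ t)))
        (CohB1.tensorMod L ((Scheme.Modules.pullback (pullback.fst (C ↘ Spec (CommRingCat.of k)) (s' ≫ t))).obj N)) 0) := by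
  let θ := (AgPol.bcXTIso t (Over.mk (C ↘ Spec (CommRingCat.of k))) (Over.mk s')).hom
  haveI : IsIso θ := inferInstanceAs (IsIso (AgPol.bcXTIso t (Over.mk (C ↘ Spec (CommRingCat.of k))) (Over.mk s')).hom)
  refine subsingleton_HH_iff_of_pull θ 0 ?_
  rw [cl_tensor, cl_tensor, map_mul, e, ← pull_cl, ← pull_cl, ← pull_cl]
  refine congrArg (_ * ·) ((pull_comp _ _ _).trans (Eq.trans ?_ (pull_comp _ _ _).symm))
  exact congrArg (fun m => pull m (cl N)) (pullbackLeftPullbackSndIso_hom_fst _ t s').symm

/-- The jump locus is compatible with finite extensions. -/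
theorem preimage_jumpLocus [IsFinite t] [LocallyOfFiniteType M.hom] :
    (pullback.fst M.hom t).base ⁻¹' Jac.jumpLocus (C ↘ Spec (CommRingCat.of k)) d φ N =
      Jac.jumpLocus (pullback.snd (C ↘ Spec (CommRingCat.of k)) t) d φB
        ((Scheme.Modules.pullback (pullback.fst (C ↘ Spec (CommRingCat.of k)) t)).obj N) := by
  let f := C ↘ Spec (CommRingCat.of k)
  ext m
  constructor
  · rintro ⟨Ω, hΩ, hΩc, s, _, L, hL, hQ, p, hp⟩
    obtain ⟨q₀, hq₀, hqm⟩ : ∃ q₀ : Spec (CommRingCat.of Ω) ⟶ (Red.bc t M).left,
        q₀ ≫ pullback.fst M.hom t = (φ.app (Over.mk s) L trivial hL).left ∧ q₀ (IsLocalRing.closedPoint Ω) = m := by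
      have hp' : (φ.app (Over.mk s) L trivial hL).left (IsLocalRing.closedPoint Ω) = pullback.fst M.hom t m := by
        rw [← show p = IsLocalRing.closedPoint Ω from Subsingleton.elim (α := PrimeSpectrum Ω) _ _]
        exact hp
      let g₀ : Spec (CommRingCat.of Ω) ⟶ M.left := (φ.app (Over.mk s) L trivial hL).left
      obtain ⟨z, hz₁, hz₂⟩ := Scheme.Pullback.exists_preimage_pullback (f := pullback.fst M.hom t) (g := g₀) m
        (IsLocalRing.closedPoint Ω) hp'.symm
      let π := pullback.snd (pullback.fst M.hom t) g₀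
      haveI : IsFinite (pullback.fst M.hom t) := MorphismProperty.pullback_fst _ _ ‹_›
      haveI : IsFinite π := MorphismProperty.pullback_snd _ _ ‹_›
      haveI : LocallyOfFiniteType π := inferInstance
      haveI : DiscreteTopology ↥(pullback (pullback.fst M.hom t) g₀) := by
        haveI : JacobsonSpace ↥(pullback (pullback.fst M.hom t) g₀) := LocallyOfFiniteType.jacobsonSpace π
        haveI : Finite ↥(pullback (pullback.fst M.hom t) g₀) := Set.finite_univ_iff.1
          ((π.finite_preimage_singleton (IsLocalRing.closedPoint Ω)).subset fun z _ =>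
            Subsingleton.elim (α := PrimeSpectrum Ω) _ _)
        infer_instance
      refine ⟨pointOfClosedPoint π z (isClosed_discrete _) ≫ pullback.fst _ _, ?_, ?_⟩
      · rw [Category.assoc, pullback.condition, ← Category.assoc]
        exact (congrArg (· ≫ g₀) (pointOfClosedPoint_comp π z (isClosed_discrete _))).trans (Category.id_comp _)
      · rw [Scheme.Hom.comp_apply, pointOfClosedPoint_apply]
        exact hz₁
    let s' := q₀ ≫ (Red.bc t M).hom
    obtain rfl : s = s' ≫ t := by
      rw [show s' ≫ t = q₀ ≫ pullback.snd M.hom t ≫ t from Category.assoc _ _ _, ← pullback.condition,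
        ← Category.assoc, hq₀]
      exact (Over.w (φ.app (Over.mk s) L trivial hL)).symm
    let T' : Over (Spec (CommRingCat.of k')) := Over.mk s'
    let θ := AgPol.bcXTIso t (Over.mk f) T'
    obtain ⟨hLi, hLd⟩ := (ok_iff hf d _ L).1 hL
    let x := (Scheme.Modules.pullback θ.hom).obj L
    letI : (pullback f t).Over (Spec (CommRingCat.of k')) := ⟨pullback.snd f t⟩
    have hf' : Fam ((pullback f t) ↘ Spec (CommRingCat.of k')) := fam_snd hf t
    haveI := hf'.proper; haveI := hf'.smooth; haveI := hf'.conn
    have hx : (ModFun.PicDeg (pullback.snd f t) d).ok T' x :=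
      (ok_iff hf' d T' x).2 ⟨AmpleDevLib.isInvertible_pb θ.hom hLi,
        fun z => (deg_bcXTIso t hf.dim_le T' hLi z).trans (hLd z)⟩
    refine ⟨Ω, hΩ, hΩc, s', trivial, x, hx, fun h => hQ ((jump_iff hdim hf t φB hφB N s' x L (pull_cl _ _).symm).1 h),
      IsLocalRing.closedPoint Ω, ?_⟩
    have eg : φB.app T' x trivial hx = Over.homMk q₀ rfl := by
      refine toDn_injective t ((hφB T' x hx).trans ?_)
      refine (φ.resp _ L trivial _ hL ((r_iff hf _ _ _).2 ⟨1, ⟨_, CurvLib.isInvertible_structureModule, rfl⟩, ?_⟩)).trans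
        (Over.OverMorphism.ext hq₀.symm)
      rw [map_one, _root_.mul_one, ← pull_cl, ← pull_cl, pull_comp, Iso.inv_hom_id]
      exact (DescAppLib.pull_id _).symm
    show (φB.app T' x trivial hx).left (IsLocalRing.closedPoint Ω) = m
    rw [eg]
    exact hqm
  · rintro ⟨Ω, hΩ, hΩc, s', _, x, hx, hQ, p, hp⟩
    let L := (Scheme.Modules.pullback (AgPol.bcXTIso t (Over.mk f) (Over.mk s')).inv).obj x
    refine ⟨Ω, hΩ, hΩc, s' ≫ t, trivial, L, ok_bcXTIso hdim hf t d hx,
      fun h => hQ ((jump_iff hdim hf t φB hφB N s' x L ?_).2 h), p, ?_⟩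
    · rw [← pull_cl, pull_comp, Iso.hom_inv_id]
      exact (DescAppLib.pull_id _).symm
    · show (φ.app (dn t (Over.mk s')) L trivial _).left p = pullback.fst M.hom t m
      rw [← hφB (Over.mk s') x hx, ← hp]
      rfl

/-- The theta locus is compatible with finite flat extensions. -/
theorem preimage_thetaLocus [IsFinite t] [Flat t] [LocallyOfFinitePresentation t] [LocallyOfFiniteType M.hom] :
    (pullback.fst M.hom t).base ⁻¹' Jac.thetaLocus (C ↘ Spec (CommRingCat.of k)) d φ N =
      Jac.thetaLocus (pullback.snd (C ↘ Spec (CommRingCat.of k)) t) d φB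
        ((Scheme.Modules.pullback (pullback.fst (C ↘ Spec (CommRingCat.of k)) t)).obj N) := by
  haveI : Flat (pullback.fst M.hom t) := MorphismProperty.pullback_fst _ _ ‹_›
  haveI : LocallyOfFinitePresentation (pullback.fst M.hom t) := MorphismProperty.pullback_fst _ _ ‹_›
  haveI : UniversallyOpen (pullback.fst M.hom t) := inferInstance
  show _ ⁻¹' closure _ = closure _
  rw [← preimage_jumpLocus hdim hf t φB hφB N]
  exact (pullback.fst M.hom t).isOpenMap.preimage_closure_eq_closure_preimage (pullback.fst M.hom t).continuous _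

end JacAlbLib

end
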