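import Groth.Agent.JacAlbLib.ThetaCartier

/-!
# The divisor cut out on the curve by a translate of theta
-/

set_option autoImplicit false
set_option linter.style.haveILetI false
set_option linter.unusedSectionVars false
set_option backward.isDefEq.respectTransparency false
set_option backward.isDefEq.respectTransparency.types false
set_option maxRecDepth 8000
set_option maxHeartbeats 1000000

universe u

open CategoryTheory CategoryTheory.Limits AlgebraicGeometry TopologicalSpace MonoidalCategory CartesianMonoidalCategory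
open CubeConsLib (pull pull_comp pull_cl cl cl_eq_iff cl_tensor IsoCls)
open EllLawLib (idCls)
open PicCurveLib SymProd
open HilbPts.SC (fb fp fp_comp)
open scoped MonObj

noncomputable section

namespace JacAlbLib

section Curve

variable {k : Type u} [Field k] {C : Scheme.{u}} [C.Over (Spec (CommRingCat.of k))]
  [IsProper (C ↘ Spec (CommRingCat.of k))] [Smooth (C ↘ Spec (CommRingCat.of k))]
  [GeometricallyConnected (C ↘ Spec (CommRingCat.of k))] (hdim : topologicalKrullDim ↥C = 1)
include hdim

/-- Equal ideals of sums of points: equal points up to order. -/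
theorem perm_of_prod_eq : ∀ {n : ℕ} (x y : Fin n → (Spec (CommRingCat.of k) ⟶ C)),
    (∀ i, x i ≫ (C ↘ Spec (CommRingCat.of k)) = 𝟙 _) → (∀ i, y i ≫ (C ↘ Spec (CommRingCat.of k)) = 𝟙 _) →
    ∏ i, (x i).ker = ∏ i, (y i).ker → ∃ e : Equiv.Perm (Fin n), ∀ i, x i = y (e i) := by
  intro n
  induction n with
  | zero => exact fun _ _ _ _ _ => ⟨Equiv.refl _, fun i => i.elim0⟩
  | succ n ih =>
    intro x y hx hy e
    have hmem : x 0 (IsLocalRing.closedPoint k) ∈ (∏ i, (y i).ker).support := by
      rw [← e, mem_support_prod]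
      exact ⟨0, Finset.mem_univ _, (support_ker_point hdim (x 0) (hx 0) _).2 rfl⟩
    obtain ⟨l, -, hl⟩ := (mem_support_prod _ _ _).1 hmem
    have hxl : x 0 = y l := eq_of_point_eq hdim (hx 0) (hy l) ((support_ker_point hdim (y l) (hy l) _).1 hl)
    rw [Fin.prod_univ_succ, Fin.prod_univ_succAbove _ l, hxl, _root_.mul_comm, _root_.mul_comm (y l).ker] at e
    obtain ⟨e', he'⟩ := ih (fun i => x i.succ) (fun i => y (l.succAbove i)) (fun i => hx _) (fun i => hy _)
      (ModPairLib.mul_cancel (AlgEquivCurveLib.isEffCartier_pt hdim (y l) (hy l)) e)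
    refine ⟨(finSuccEquiv n).trans ((Equiv.optionCongr e').trans (finSuccEquiv' l).symm), fun i => ?_⟩
    refine Fin.cases ?_ (fun a => ?_) i
    · simpa using hxl
    · simpa using he' a

end Curve

variable {k : Type u} [Field k] [IsAlgClosed k] {C : Scheme.{u}} [C.Over (Spec (CommRingCat.of k))]
  [IsProper (C ↘ Spec (CommRingCat.of k))] [Smooth (C ↘ Spec (CommRingCat.of k))]
  [GeometricallyConnected (C ↘ Spec (CommRingCat.of k))] (hdim : topologicalKrullDim ↥C = 1)
  (hf : Fam (C ↘ Spec (CommRingCat.of k))) {σ : Spec (CommRingCat.of k) ⟶ C}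
  {hσ : σ ≫ (C ↘ Spec (CommRingCat.of k)) = 𝟙 _} {J : Over (Spec (CommRingCat.of k))} [GrpObj J]
  {c : IsoCls (PicF.XT (C ↘ Spec (CommRingCat.of k)) J)} (hc : IsRigJac σ hσ J c)
  [IsProper J.hom] [Smooth J.hom] [GeometricallyIntegral J.hom] [IsCommMonObj J]
  {j : Over.mk (C ↘ Spec (CommRingCat.of k)) ⟶ J} (hj : IsAbel σ hσ c j)
include hdim hf hc hj

/-- **The divisor of a translate of theta not containing the curve.** -/
theorem exists_divisor_theta {n : ℕ} (hn : n + 2 = Curv2.genus k C)
    (κ a : 𝟙_ (Over (Spec (CommRingCat.of k))) ⟶ J)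
    (hκ : tcl c κ = omegaCls k C * idCls σ.ker ^ (n + 1 + (n + 1)))
    (Z : Closeds J.left) (hZ : (Z : Set J.left) = (Jac.transl J a).left.base '' WSet j (n + 1))
    (ha : ¬ WSet j 1 ⊆ (Z : Set J.left)) :
    ∃ (D : Fin (n + 2) → (Spec (CommRingCat.of k) ⟶ C)) (hD : ∀ i, D i ≫ (C ↘ Spec (CommRingCat.of k)) = 𝟙 _),
      ∏ i, pt (D i) (hD i) ≫ j = a * κ ∧
      (∀ (D' : Fin (n + 2) → (Spec (CommRingCat.of k) ⟶ C)) (hD' : ∀ i, D' i ≫ (C ↘ Spec (CommRingCat.of k)) = 𝟙 _),
        ∏ i, pt (D' i) (hD' i) ≫ j = a * κ → ∃ e : Equiv.Perm (Fin (n + 2)), ∀ i, D' i = D (e i)) ∧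
      (Scheme.IdealSheafData.vanishingIdeal Z).comap j.left = ∏ i, (D i).ker := by
  classical
  let f := C ↘ Spec (CommRingCat.of k)
  obtain ⟨N, hN, eN⟩ := exists_twist hdim hf hc (a * κ) (n + 2)
  have hd := deg_twist hdim hf hc (a * κ) (n + 2) hN eN
  have hr := rr (k := k) hdim N
  have h0 : 1 ≤ Module.finrank k (Coh.HH C N 0) := by omega
  obtain ⟨x, hx, ex⟩ := exists_points_of_h0 hdim (n + 2) hN hd h0
  have hu : IsUnit (idCls σ.ker ^ (n + 2)) := (invC_sigma_pow hdim hσ _).isUnit
  -- the curve is not in the translate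
  obtain ⟨u₀, hu₀, hu₀'⟩ : ∃ (u : Spec (CommRingCat.of k) ⟶ C) (hu : u ≫ f = 𝟙 _),
      pnt (pt u hu ≫ j) ∉ (Z : Set J.left) := by
    by_contra hcon
    push Not at hcon
    refine ha (subset_of_points (isClosed_WSet j 1) Z.isClosed fun t ht => ?_)
    obtain ⟨v, rfl⟩ := (mem_WSet_iff j 1 t).1 ht
    rw [Fin.prod_univ_one]
    exact hcon (v 0).left (Over.w (v 0))
  have hN1 : Module.finrank k (Coh.HH C N 0) = 1 := by
    by_contra hne
    obtain ⟨M, hM, eM, hM1⟩ := exists_dual (k := k) hdim hN
    have eM' : cl M * idCls σ.ker ^ n = tcl c a⁻¹ := by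
      refine (invC_tcl hdim hf hc a).isUnit.mul_right_cancel ?_
      rw [← tcl_mul hc, inv_mul_cancel, tcl_one hdim hf hc]
      refine ((invC_omega (k := k) hdim).mul (invC_sigma_pow hdim hσ (n + 2))).isUnit.mul_right_cancel ?_
      rw [_root_.one_mul]
      calc cl M * idCls σ.ker ^ n * tcl c a * (omegaCls k C * idCls σ.ker ^ (n + 2))
          = cl M * (tcl c a * (omegaCls k C * idCls σ.ker ^ (n + 1 + (n + 1)))) := by
            rw [show n + 1 + (n + 1) = n + (n + 2) by omega, pow_add _ n (n + 2)]; ac_rfl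
        _ = cl M * tcl c (a * κ) := by rw [← hκ, tcl_mul hc]
        _ = omegaCls k C * idCls σ.ker ^ (n + 2) := by rw [← eN, ← _root_.mul_assoc, eM]
    have hmem : pnt a⁻¹ ∈ WSet j n := (mem_WSet_iff_h0 hdim hf hc hj n _ hM eM').2 (by omega)
    have h := (forall_mem_iff hdim hf hc hj (r := 1) (m := n) (n := n + 1) (by omega) (by omega) a⁻¹).2 hmem
      (fun _ => pt u₀ hu₀)
    rw [Fin.prod_univ_one, mul_comm] at h
    refine hu₀' ?_
    rw [hZ, mem_transl]
    exact h
  have hprod : ∏ i, pt (x i) (hx i) ≫ j = a * κ := by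
    refine tcl_inj hdim hf hc ((isUnit_pts hdim hf x hx).mul_right_cancel ?_)
    refine Eq.trans (class_prod hdim hf hc hj fun i => pt (x i) (hx i)) ?_
    rw [← eN, mul_right_comm, ex, _root_.one_mul]
  refine ⟨x, hx, hprod, fun D' hD' hD'e => ?_, ?_⟩
  · have eD' : cl N * ∏ i, idCls (D' i).ker = 1 := by
      refine hu.mul_right_cancel ?_
      rw [_root_.one_mul, mul_right_comm, eN, ← hD'e]
      exact class_prod hdim hf hc hj fun i => pt (D' i) (hD' i)
    exact perm_of_prod_eq hdim D' x hD' hx (pts_ideal_eq hdim hn (by omega) hD' hx hN hN1 eD' ex)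
  · let I := Scheme.IdealSheafData.vanishingIdeal Z
    have hI : BlowUp.IsEffCartierIdeal I := isEffCartier_transl_WSet hdim hf hc hj (n := n + 1) hn a Z hZ
    obtain ⟨L, hL, eL⟩ := EllLawLib.exists_inv_rep (IntMultLib.isInvertible_idealMod I hI)
    have hLI : ClSub.IsInverseOf L (ClSub.idealMod I) :=
      cl_eq_iff.1 ((cl_tensor _ _).trans ((_root_.mul_comm _ _).trans eL))
    have hcl := pullback_thetaMinus_cls hdim hf hc hj (n := n + 1) hn x hx Z ?_ hL hLI
    · haveI := FibVALib.geometricallyIntegral_of_geometricallyConnected f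
      haveI : IsIntegral C := GeometricallyIntegral.isIntegral_of_subsingleton f
      haveI : IsLocallyNoetherian C := LocallyOfFiniteType.isLocallyNoetherian f
      let m : C ⟶ J.left := j.left
      let W : C.Opens := m ⁻¹ᵁ ModPair.interior I
      have hWne : (W : Set C).Nonempty := ⟨u₀ (IsLocalRing.closedPoint k), fun h => hu₀' (by
        have h' : m (u₀ (IsLocalRing.closedPoint k)) ∈ (I.support : Set J.left) := h
        rw [Scheme.IdealSheafData.coe_support_vanishingIdeal] at h'
        exact h')⟩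
      haveI : IsDominant W.ι := ⟨by
        refine Dense.mono ?_ (W.isOpen.dense hWne)
        rw [Scheme.Opens.range_ι]⟩
      haveI : IsSchemeTheoreticallyDominant W.ι := IsSchemeTheoreticallyDominant.of_isDominant _
      let K := I.comap m
      have hK : BlowUp.IsEffCartierIdeal K :=
        ModPairLib.isEffCartier_comap_of_dominant hI m W.ι fun z => z.2
      have eK : pull m (cl L) * idCls K = 1 := by
        rw [← EllLawLib.pull_idCls m hI hK, ← map_mul, show idCls I = cl (ClSub.idealMod I) from rfl,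
          _root_.mul_comm, eL, map_one]
      have hpull : pull m (cl L) = cl N :=
        (isUnit_pts hdim hf x hx).mul_right_cancel (hcl.trans ex.symm)
      rw [hpull] at eK
      haveI := hf.smoothOfRelativeDimension
      haveI : LocallyQuasiFinite (K.subschemeι ≫ f) := HilbPts.SC.qf_of_effCartier f K hK
      haveI : IsFinite (K.subschemeι ≫ f) := IsFinite.of_isProper_of_locallyQuasiFinite _
      have hKf : Mor2.IsFinLocFree (K.subschemeι ≫ f) := ⟨inferInstance, inferInstance, inferInstance⟩
      have hgood := good_spec N hN hN1 (by omega)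
      haveI : Nonempty (Fin (n + 2)) := ⟨0⟩
      refine divisor_eq' hf hN hgood hKf (prop_pts hdim _ x hx Finset.univ_nonempty).1
        CurvLib.isInvertible_structureModule CurvLib.isInvertible_structureModule
        (((_root_.mul_comm _ _).trans eK).trans (map_one _).symm) ?_
      rw [(idCls_prod Finset.univ (fun i => (x i).ker) (fun i => AlgEquivCurveLib.isEffCartier_pt hdim (x i) (hx i))
        Finset.univ_nonempty).2, _root_.mul_comm, ex]
      exact (map_one _).symm
    · rw [hZ, hprod]
      refine eq_of_points (isClosed_transl a (isClosed_WSet j _))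
        (isClosed_transl _ (isClosed_inv (isClosed_WSet j _))) fun t => ?_
      rw [mem_transl, mem_transl, mem_inv, ← mem_kappa hdim hf hc hj κ hn hκ (t * a⁻¹), mul_inv_rev, inv_inv,
        mul_inv_rev, inv_inv, ← _root_.mul_assoc, mul_comm κ a]

end JacAlbLib

end
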