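import Groth.Agent.JacAlbLib.ThetaBC
import Groth.Agent.AVDualLib.Main
import Groth.Agent.AVDualLib.Polar

/-!
# The homomorphism of the theta bundle, over any field
-/

set_option autoImplicit false
set_option linter.style.haveILetI false
set_option linter.unusedSectionVars false
set_option backward.isDefEq.respectTransparency false
set_option backward.isDefEq.respectTransparency.types false
set_option maxRecDepth 8000
set_option maxHeartbeats 1000000

universe u

open CategoryTheory CategoryTheory.Limits AlgebraicGeometry TopologicalSpace MonoidalCategory CartesianMonoidalCategory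
open CubeConsLib (pull pull_comp pull_cl cl cl_eq_iff cl_tensor IsoCls)
open AVIndexLib (dn dnMap toDn toDn_injective toDn_comp toDn_mul toDn_comp_map diagBc toDn_diag_map hom_bcXTIso_snd)
open EllLawLib (idCls)
open PicCurveLib SymProd
open scoped MonObj

noncomputable section

namespace JacAlbLib

section General

variable {S S' : Scheme.{u}} (t : S' ⟶ S) (J : Over S)

/-- The projection of the square of the base change. -/
def sqMap : PicF.XT (Red.bc t J).hom (Red.bc t J) ⟶ PicF.XT J.hom J :=
  (AgPol.bcXTIso t J (Red.bc t J)).hom ≫ PicF.XTmap J.hom (toDn t (𝟙 (Red.bc t J)))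

/-- The Mumford sheaf base changes. -/
theorem isLambdaSheaf_bc [GrpObj J] {L : J.left.Modules} {Λ : (PicF.XT J.hom J).Modules}
    (hΛ : AgPol.IsLambdaSheaf (μ[J].left : PicF.XT J.hom J ⟶ J.left) (fst J J).left (snd J J).left L Λ) :
    AgPol.IsLambdaSheaf (μ[Red.bc t J].left : PicF.XT (Red.bc t J).hom (Red.bc t J) ⟶ _)
      (fst (Red.bc t J) (Red.bc t J)).left (snd (Red.bc t J) (Red.bc t J)).left
      ((Scheme.Modules.pullback (pullback.fst J.hom t)).obj L)
      ((Scheme.Modules.pullback (sqMap t J)).obj Λ) := by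
  let R := Red.bc t J
  let g : dn t (R ⊗ R) ⟶ J ⊗ J := lift (toDn t (fst R R)) (toDn t (snd R R))
  have hg : (show (R ⊗ R).left ⟶ (J ⊗ J).left from g.left) = sqMap t J := by
    apply pullback.hom_ext
    · refine (congrArg Over.Hom.left (lift_fst (toDn t (fst R R)) (toDn t (snd R R)))).trans ?_
      show (fst R R).left ≫ pullback.fst J.hom t = sqMap t J ≫ pullback.fst J.hom J.hom
      rw [sqMap, Category.assoc]
      erw [DescAppLib.XTmap_fst]
      exact (pullbackLeftPullbackSndIso_hom_fst _ _ _).symm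
    · refine (congrArg Over.Hom.left (lift_snd (toDn t (fst R R)) (toDn t (snd R R)))).trans ?_
      show (snd R R).left ≫ pullback.fst J.hom t = sqMap t J ≫ PicF.XTproj J.hom J
      rw [sqMap, Category.assoc, DescAppLib.XTmap_proj]
      refine Eq.trans ?_ ((Category.assoc _ _ _).symm.trans (congrArg (· ≫ _) (hom_bcXTIso_snd t R))).symm
      show _ = (snd R R).left ≫ (𝟙 R : R ⟶ R).left ≫ pullback.fst J.hom t
      rw [Over.id_left, Category.id_comp]
  have eΛ : cl Λ * pull (Y := PicF.XT J.hom J) (fst J J).left (cl L) * pull (Y := PicF.XT J.hom J) (snd J J).left (cl L) =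
      pull (Y := PicF.XT J.hom J) μ[J].left (cl L) := by
    rw [pull_cl, pull_cl, pull_cl, ← cl_tensor, ← cl_tensor]
    exact cl_eq_iff.2 hΛ
  have h := congrArg (pull (sqMap t J)) eΛ
  rw [map_mul, map_mul, pull_comp, pull_comp, pull_comp] at h
  have e1 : sqMap t J ≫ (fst J J).left = (fst R R).left ≫ pullback.fst J.hom t := by
    rw [← hg]
    exact congrArg Over.Hom.left (lift_fst (toDn t (fst R R)) (toDn t (snd R R)))
  have e2 : sqMap t J ≫ (snd J J).left = (snd R R).left ≫ pullback.fst J.hom t := by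
    rw [← hg]
    exact congrArg Over.Hom.left (lift_snd (toDn t (fst R R)) (toDn t (snd R R)))
  have e3 : sqMap t J ≫ μ[J].left = μ[R].left ≫ pullback.fst J.hom t := by
    rw [← hg]
    have hm : g ≫ μ[J] = toDn t (μ[R] : R ⊗ R ⟶ R) := by
      show toDn t (fst R R) * toDn t (snd R R) = _
      rw [← toDn_mul]
      refine congrArg (toDn t) ?_
      show lift (fst R R) (snd R R) ≫ μ[R] = μ[R]
      rw [lift_fst_snd, Category.id_comp]
    exact congrArg Over.Hom.left hm
  rw [e1, e2, e3, ← pull_comp _ (pullback.fst J.hom t), ← pull_comp _ (pullback.fst J.hom t),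
    ← pull_comp _ (pullback.fst J.hom t), pull_cl] at h
  refine cl_eq_iff.1 ((cl_tensor _ _).trans ((congrArg (· * _) (cl_tensor _ _)).trans ?_))
  rw [← pull_cl, ← pull_cl, ← pull_cl, ← pull_cl]
  exact h

variable {C : Scheme.{u}} {f : C ⟶ S} {J}

/-- The base changed graph of a morphism. -/
theorem bcMap_sqMap (j : Over.mk f ⟶ J) :
    AbDual.bcMap ((Over.pullback t).map j) (Red.bc t J) ≫ sqMap t J =
      (AgPol.bcXTIso t (Over.mk f) (Red.bc t J)).hom ≫
        PicF.XTmap f (toDn t (𝟙 (Red.bc t J))) ≫ AbDual.bcMap j J := by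
  apply pullback.hom_ext
  · let u := AbDual.bcMap ((Over.pullback t).map j) (Red.bc t J)
    let θ := (AgPol.bcXTIso t (Over.mk f) (Red.bc t J)).hom
    have h1 : u ≫ pullback.fst (Red.bc t J).hom (Red.bc t J).hom =
        pullback.fst (pullback.snd f t) (Red.bc t J).hom ≫ ((Over.pullback t).map j).left := pullback.lift_fst _ _ _
    have h2 : ((Over.pullback t).map j).left ≫ pullback.fst J.hom t = pullback.fst f t ≫ j.left :=
      pullback.lift_fst _ _ _
    have h3 : θ ≫ pullback.fst f (dn t (Red.bc t J)).hom =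
        pullback.fst (pullback.snd f t) (Red.bc t J).hom ≫ pullback.fst f t := pullbackLeftPullbackSndIso_hom_fst _ _ _
    have h4 : AbDual.bcMap j J ≫ pullback.fst J.hom J.hom = pullback.fst f J.hom ≫ j.left := pullback.lift_fst _ _ _
    have h5 : PicF.XTmap f (toDn t (𝟙 (Red.bc t J))) ≫ pullback.fst f J.hom =
        pullback.fst f (dn t (Red.bc t J)).hom := DescAppLib.XTmap_fst f (toDn t (𝟙 (Red.bc t J)))
    have h6 : sqMap t J ≫ pullback.fst J.hom J.hom =
        pullback.fst (Red.bc t J).hom (Red.bc t J).hom ≫ pullback.fst J.hom t := by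
      rw [sqMap, Category.assoc]
      erw [DescAppLib.XTmap_fst]
      exact pullbackLeftPullbackSndIso_hom_fst J.hom t (Red.bc t J).hom
    calc (u ≫ sqMap t J) ≫ pullback.fst J.hom J.hom
        = u ≫ pullback.fst (Red.bc t J).hom (Red.bc t J).hom ≫ pullback.fst J.hom t :=
          (Category.assoc _ _ _).trans (congrArg (u ≫ ·) h6)
      _ = pullback.fst (pullback.snd f t) (Red.bc t J).hom ≫ pullback.fst f t ≫ j.left := by
          refine ((Category.assoc _ _ _).symm.trans (congrArg (· ≫ _) h1)).trans ?_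
          exact (Category.assoc _ _ _).trans (congrArg (_ ≫ ·) h2)
      _ = θ ≫ PicF.XTmap f (toDn t (𝟙 (Red.bc t J))) ≫ pullback.fst f J.hom ≫ j.left := by
          refine Eq.symm ((congrArg (θ ≫ ·) ((Category.assoc _ _ _).symm.trans (congrArg (· ≫ _) h5))).trans ?_)
          exact ((Category.assoc _ _ _).symm.trans (congrArg (· ≫ _) h3)).trans (Category.assoc _ _ _)
      _ = (θ ≫ PicF.XTmap f (toDn t (𝟙 (Red.bc t J))) ≫ AbDual.bcMap j J) ≫ pullback.fst J.hom J.hom := by
          rw [Category.assoc, Category.assoc]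
          exact congrArg (fun x => θ ≫ PicF.XTmap f (toDn t (𝟙 (Red.bc t J))) ≫ x) h4.symm
  · rw [sqMap, Category.assoc, Category.assoc, Category.assoc, Category.assoc]
    erw [DescAppLib.XTmap_proj, pullback.lift_snd]
    rw [Category.comp_id]
    refine ((congrArg (_ ≫ ·) ((Category.assoc _ _ _).symm.trans
      (congrArg (· ≫ _) (hom_bcXTIso_snd t (Red.bc t J))))).trans ?_)
    refine (Category.assoc _ _ _).symm.trans ?_
    erw [pullback.lift_snd, DescAppLib.XTmap_proj]
    rw [Category.comp_id]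
    exact ((Category.assoc _ _ _).symm.trans
      (congrArg (· ≫ _) (hom_bcXTIso_snd (A := Over.mk f) t (Red.bc t J)))).symm

end General

variable {k : Type u} [Field k] {C : Scheme.{u}} [C.Over (Spec (CommRingCat.of k))]
  [IsProper (C ↘ Spec (CommRingCat.of k))] [Smooth (C ↘ Spec (CommRingCat.of k))]
  [GeometricallyConnected (C ↘ Spec (CommRingCat.of k))] (hdim : topologicalKrullDim ↥C = 1)
  (hf : Fam (C ↘ Spec (CommRingCat.of k))) {σ : Spec (CommRingCat.of k) ⟶ C}
  {hσ : σ ≫ (C ↘ Spec (CommRingCat.of k)) = 𝟙 _} {J : Over (Spec (CommRingCat.of k))} [GrpObj J]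
  {c : IsoCls (PicF.XT (C ↘ Spec (CommRingCat.of k)) J)} (hc : IsRigJac σ hσ J c)
  [IsProper J.hom] [Smooth J.hom] [GeometricallyIntegral J.hom] [IsCommMonObj J]
  {j : Over.mk (C ↘ Spec (CommRingCat.of k)) ⟶ J} (hj : IsAbel σ hσ c j)
  {n : ℕ} (hn : n + 1 = Curv2.genus k C) (a : 𝟙_ (Over (Spec (CommRingCat.of k))) ⟶ J) (Z : Closeds J.left)
  (hZ : (Z : Set J.left) = (Jac.transl J a).left.base '' WSet j n)
  {L : J.left.Modules} (hL : PicF.IsInvertible L)
  (hinv : ClSub.IsInverseOf L (ClSub.idealMod (Scheme.IdealSheafData.vanishingIdeal Z)))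
include hdim hf hc hj hn hZ hL hinv

/-- **The map of the theta bundle followed by the dual Abel map is inversion.** -/
theorem eq_inv_of_pull_lambda {Λ : (PicF.XT J.hom J).Modules}
    (hΛ : AgPol.IsLambdaSheaf (μ[J].left : PicF.XT J.hom J ⟶ J.left) (fst J J).left (snd J J).left L Λ)
    (g : J ⟶ J) {m : IsoCls J.left}
    (hg : pull (AbDual.bcMap j J) (cl Λ) = pull (PicF.XTmap (C ↘ Spec (CommRingCat.of k)) g) c *
      pull (PicF.XTproj (C ↘ Spec (CommRingCat.of k)) J) m) :
    g = (𝟙 J)⁻¹ := by
  let K := AlgebraicClosure k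
  let t : Spec (CommRingCat.of K) ⟶ Spec (CommRingCat.of k) := Spec.map (CommRingCat.ofHom (algebraMap k K))
  let f := C ↘ Spec (CommRingCat.of k)
  let JK := Red.bc t J
  haveI : IsProper (pullback.snd f t) := (fam_snd hf t).proper
  haveI : Flat t := by
    rw [HasRingHomProperty.Spec_iff (P := @Flat)]
    show RingHom.Flat (algebraMap k K)
    rw [RingHom.flat_algebraMap_iff]
    infer_instance
  haveI : Surjective t := ⟨fun x => ⟨IsLocalRing.closedPoint K, Subsingleton.elim (α := PrimeSpectrum k) _ _⟩⟩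
  let pr : dn t JK ⟶ J := toDn t (𝟙 JK)
  obtain ⟨-, -, h3⟩ := theta_bc hdim hf hc hj hn a Z hZ hL hinv K
  have h := h3 _ (isLambdaSheaf_bc t J hΛ)
  let I : PicF.XT (pullback.snd f t) JK ⟶ PicF.XT (pullback.snd f t) JK := PicF.XTmap (pullback.snd f t) ((𝟙 JK)⁻¹)
  have hI : I ≫ I = 𝟙 _ := by
    rw [DescAppLib.XTmap_comp, inv_comp_inv]
    apply pullback.hom_ext <;> simp [PicF.XTmap]
  have h' := congrArg (pull I) h
  rw [← pull_cl, pull_comp, pull_comp, pull_bcCls] at h'
  let θ := (AgPol.bcXTIso t (Over.mk f) JK).hom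
  have hm : (I ≫ I ≫ AbDual.bcMap ((Over.pullback t).map j) JK) ≫ sqMap t J =
      θ ≫ PicF.XTmap f pr ≫ AbDual.bcMap j J := by
    rw [← Category.assoc I I, hI, Category.id_comp]
    exact bcMap_sqMap t j
  have h4 : pull θ (pull (PicF.XTmap f pr) (pull (AbDual.bcMap j J) (cl Λ))) =
      pull θ (pull (PicF.XTmap f (toDn t ((𝟙 JK)⁻¹))) c) := by
    refine ((pull_comp _ _ _).trans (pull_comp _ _ _)).trans ?_
    refine Eq.trans (congrArg (fun g => pull g (cl Λ)) ?_) h'
    exact ((Category.assoc _ _ _).trans hm.symm)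
  haveI : IsIso θ := inferInstanceAs (IsIso (AgPol.bcXTIso t (Over.mk f) JK).hom)
  have h5 : pull (PicF.XTmap f pr) (pull (AbDual.bcMap j J) (cl Λ)) = pull (PicF.XTmap f (toDn t ((𝟙 JK)⁻¹))) c := by
    have h6 := congrArg (pull (inv θ)) h4
    rwa [pull_comp, pull_comp (inv θ), IsIso.inv_hom_id, DescAppLib.pull_id, DescAppLib.pull_id] at h6
  rw [hg, map_mul, pull_comp, pull_comp, DescAppLib.XTmap_comp, DescAppLib.XTmap_proj, ← pull_comp] at h5
  have h7 := congrArg (pull (PicF.secT f σ hσ (dn t JK))) h5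
  rw [map_mul, (rigZero_pull hf σ hσ _ hc.rigZero).rig, (rigZero_pull hf σ hσ _ hc.rigZero).rig, _root_.one_mul,
    pull_comp, DescAppLib.secT_proj, DescAppLib.pull_id] at h7
  rw [h7, map_one, _root_.mul_one] at h5
  have h8 := hom_ext hf hc h5
  rw [← toDnHom_apply t JK, map_inv, toDnHom_apply, ← Category.comp_id (toDn t (𝟙 JK)), ← GrpObj.comp_inv] at h8
  haveI : Flat pr.left := by
    show Flat ((𝟙 JK : JK ⟶ JK).left ≫ pullback.fst J.hom t)
    rw [Over.id_left, Category.id_comp]
    infer_instance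
  haveI : Surjective pr.left := by
    show Surjective ((𝟙 JK : JK ⟶ JK).left ≫ pullback.fst J.hom t)
    rw [Over.id_left, Category.id_comp]
    infer_instance
  haveI : Epi pr.left := Flat.epi_of_flat_of_surjective _
  exact Over.OverMorphism.ext ((cancel_epi pr.left).1 (congrArg CommaMorphism.left h8))

omit hdim hf hc hj hn hZ hL hinv in
/-- Isomorphisms descend from a field extension. -/
theorem isIso_of_bc {J' : Over (Spec (CommRingCat.of k))} (l : J ⟶ J') {K : Type u} [Field K] [Algebra k K]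
    (h : IsIso ((Over.pullback (Spec.map (CommRingCat.ofHom (algebraMap k K)))).map l).left) : IsIso l.left := by
  let t : Spec (CommRingCat.of K) ⟶ Spec (CommRingCat.of k) := Spec.map (CommRingCat.ofHom (algebraMap k K))
  haveI : Flat t := by
    rw [HasRingHomProperty.Spec_iff (P := @Flat)]
    show RingHom.Flat (algebraMap k K)
    rw [RingHom.flat_algebraMap_iff]
    infer_instance
  haveI : Surjective t := ⟨fun x => ⟨IsLocalRing.closedPoint K, Subsingleton.elim (α := PrimeSpectrum k) _ _⟩⟩
  let lK := ((Over.pullback t).map l).left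
  have h1 : lK ≫ pullback.fst J'.hom t = pullback.fst J.hom t ≫ l.left := pullback.lift_fst _ _ _
  have h2 : lK ≫ pullback.snd J'.hom t = pullback.snd J.hom t := pullback.lift_snd _ _ _
  have sq : IsPullback lK (pullback.fst J.hom t) (pullback.fst J'.hom t) l.left := by
    refine IsPullback.flip (IsPullback.of_bot ?_ h1.symm (IsPullback.of_hasPullback J'.hom t))
    rw [h2, Over.w l]
    exact IsPullback.of_hasPullback J.hom t
  exact MorphismProperty.of_isPullback_of_descendsAlong
    (P := MorphismProperty.isomorphisms Scheme.{u}) (Q := @Surjective ⊓ @Flat ⊓ @QuasiCompact) sq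
    ⟨⟨inferInstance, inferInstance⟩, inferInstance⟩ h

/-- **The map of the theta bundle is an isomorphism.** -/
theorem isIso_lambda_transl {Jt : Over (Spec (CommRingCat.of k))} [GrpObj Jt] {φ : AgPol.DualMap J Jt}
    (hJt : AbDual.IsDualAV Scheme.fppfPrecoverage J Jt φ) {lam : J ⟶ Jt} (hlam : AgPol.IsLambda J Jt φ L lam) :
    IsIso lam.left := by
  let K := AlgebraicClosure k
  let t : Spec (CommRingCat.of K) ⟶ Spec (CommRingCat.of k) := Spec.map (CommRingCat.ofHom (algebraMap k K))
  obtain ⟨hamp, hp, -⟩ := theta_bc hdim hf hc hj hn a Z hZ hL hinv K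
  have hlK := AVDualLib.isLambda_bc φ hJt hL hlam t
  haveI : IsProper (Red.bc t J).hom := MorphismProperty.pullback_snd J.hom t inferInstance
  haveI : GeometricallyIntegral (Red.bc t J).hom := MorphismProperty.pullback_snd J.hom t inferInstance
  exact isIso_of_bc lam (AVDualLib.isIso_lambda_of_principal (AVIndexLib.isDualAV_bcDual t hJt) (hp hamp.1) hlK)

end JacAlbLib

end
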