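import Groth.Agent.JacAlbLib.ThetaBC
import Groth.Agent.JacAlbLib.ThetaAlg
import Groth.Agent.PicFieldLib.Main
import Groth.Agent.CurveDualLib.BaseChange

/-!
# The theta bundle pulled back to the curve along a translated Abel map
-/

set_option autoImplicit false
set_option linter.style.haveILetI false
set_option linter.unusedSectionVars false
set_option backward.isDefEq.respectTransparency false
set_option backward.isDefEq.respectTransparency.types false
set_option maxRecDepth 8000
set_option maxHeartbeats 1000000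

universe u

open CategoryTheory CategoryTheory.Limits AlgebraicGeometry TopologicalSpace MonoidalCategory CartesianMonoidalCategory
open CubeConsLib (pull pull_comp pull_cl cl cl_eq_iff cl_tensor IsoCls)
open AVIndexLib (dn toDn toDn_comp toDn_comp_map)
open EllLawLib (idCls)
open PicCurveLib
open scoped MonObj

noncomputable section

namespace JacAlbLib

/-- Invertible classes are equal if they are equal after a field extension. -/
theorem eq_of_pull_eq {k k' : Type u} [Field k] [Field k'] [Algebra k k'] {X X' : Scheme.{u}}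
    [X.Over (Spec (CommRingCat.of k))] [X'.Over (Spec (CommRingCat.of k'))]
    [IsProper (X ↘ Spec (CommRingCat.of k))] {g : X' ⟶ X}
    (H : IsPullback g (X' ↘ Spec (CommRingCat.of k')) (X ↘ Spec (CommRingCat.of k))
      (Spec.map (CommRingCat.ofHom (algebraMap k k'))))
    {a b : IsoCls X} (ha : InvC a) (hb : InvC b) (h : pull g a = pull g b) : a = b := by
  obtain ⟨d, hd, hbd⟩ := hb.exists_inv
  obtain ⟨L, hL, eL⟩ := ha.mul hd
  haveI := CurvLib.isNoetherian k (X := X)
  haveI : CompactSpace X := QuasiCompact.compactSpace_of_compactSpace (X ↘ Spec (CommRingCat.of k))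
  haveI : QuasiSeparatedSpace X := inferInstance
  haveI := CurvLib.finite_HH (k := k) (CurvLib.isCoh_of_isInvertible (X := X) CurvLib.isInvertible_structureModule) 0
  have hi : cl (KFlatLib.pb g L) = cl (Coh.structureModule X') := by
    show cl ((Scheme.Modules.pullback g).obj L) = 1
    rw [← pull_cl, eL, map_mul, h, ← map_mul, hbd, map_one]
  obtain ⟨e⟩ := PicFieldLib.nonempty_iso_of_pullback H hL (cl_eq_iff.1 hi).some
  have h1 : a * d = 1 := eL.symm.trans (cl_eq_iff.2 ⟨e⟩)
  calc a = a * (b * d) := by rw [hbd, mul_one]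
    _ = (a * d) * b := by ac_rfl
    _ = b := by rw [h1, one_mul]

variable {k : Type u} [Field k] {C : Scheme.{u}} [C.Over (Spec (CommRingCat.of k))]
  [IsProper (C ↘ Spec (CommRingCat.of k))] [Smooth (C ↘ Spec (CommRingCat.of k))]
  [GeometricallyConnected (C ↘ Spec (CommRingCat.of k))] (hdim : topologicalKrullDim ↥C = 1)
  (hf : Fam (C ↘ Spec (CommRingCat.of k))) {σ : Spec (CommRingCat.of k) ⟶ C}
  {hσ : σ ≫ (C ↘ Spec (CommRingCat.of k)) = 𝟙 _} {J : Over (Spec (CommRingCat.of k))} [GrpObj J]
  {c : IsoCls (PicF.XT (C ↘ Spec (CommRingCat.of k)) J)} (hc : IsRigJac σ hσ J c)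
include hdim hf

omit [GrpObj J] in
/-- The class of the base point under a field extension. -/
theorem pull_idCls_bcSec {K : Type u} [Field K] (t : Spec (CommRingCat.of K) ⟶ Spec (CommRingCat.of k)) :
    pull (pullback.fst (C ↘ Spec (CommRingCat.of k)) t) (idCls σ.ker) = idCls (bcSec t σ hσ).ker := by
  let f := C ↘ Spec (CommRingCat.of k)
  haveI : IsClosedImmersion σ := by
    haveI : IsClosedImmersion (σ ≫ f) := by rw [hσ]; infer_instance
    exact IsClosedImmersion.of_comp σ f
  have H : IsPullback t (bcSec t σ hσ) σ (pullback.fst f t) := by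
    refine IsPullback.of_bot ?_ (pullback.lift_fst _ _ _).symm (IsPullback.of_hasPullback f t)
    rw [bcSec_snd, hσ]
    exact IsPullback.of_vert_isIso ⟨by simp⟩
  have hcomap : σ.ker.comap (pullback.fst f t) = (bcSec t σ hσ).ker := SecDivLib.comap_ker_of_isPullback H
  have hfK : Fam (pullback.snd f t) := fam_snd hf t
  haveI := hfK.proper; haveI := hfK.smooth; haveI := hfK.conn
  rw [EllLawLib.pull_idCls _ (RelDualLib.isEffCartier_section f hf.dim σ hσ)
    (by rw [hcomap]; exact RelDualLib.isEffCartier_section _ hfK.dim _ (bcSec_snd t)), hcomap]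

include hc

/-- The class of a point under a field extension. -/
theorem tcl_bc {K : Type u} [Field K] (t : Spec (CommRingCat.of K) ⟶ Spec (CommRingCat.of k))
    (b : 𝟙_ (Over (Spec (CommRingCat.of k))) ⟶ J) (bK : 𝟙_ (Over (Spec (CommRingCat.of K))) ⟶ Red.bc t J)
    (hb : toDn t bK = toUnit (dn t (𝟙_ _)) ≫ b) :
    letI : (pullback (C ↘ Spec (CommRingCat.of k)) t).Over (Spec (CommRingCat.of K)) := ⟨pullback.snd _ t⟩
    tcl (C := pullback (C ↘ Spec (CommRingCat.of k)) t) (bcCls t c) bK =
      pull (pullback.fst (C ↘ Spec (CommRingCat.of k)) t) (tcl c b) := by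
  letI : (pullback (C ↘ Spec (CommRingCat.of k)) t).Over (Spec (CommRingCat.of K)) := ⟨pullback.snd _ t⟩
  let f := C ↘ Spec (CommRingCat.of k)
  show pull _ (pull (PicF.XTmap (pullback.snd f t) bK) (bcCls t c)) = pull _ (pull _ (pull (PicF.XTmap f b) c))
  rw [pull_bcCls, hb, ← DescAppLib.XTmap_comp]
  refine (pull_comp _ _ _).trans ((pull_comp _ _ _).trans (Eq.trans ?_
    ((pull_comp _ _ _).trans (pull_comp _ _ _)).symm))
  refine congrArg (fun m => pull m c) ?_
  simp only [← Category.assoc]
  refine congrArg (· ≫ PicF.XTmap f b) ?_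
  have h1 : (((toXT₀ (k := K) (C := pullback f t)) ≫ (AgPol.bcXTIso t (Over.mk f) (𝟙_ _)).hom) ≫
      PicF.XTmap f (toUnit (dn t (𝟙_ (Over (Spec (CommRingCat.of K))))))) ≫ pullback.fst f _ = pullback.fst f t := by
    simp only [Category.assoc]
    erw [DescAppLib.XTmap_fst, pullbackLeftPullbackSndIso_hom_fst, pullback.lift_fst_assoc]
    exact Category.id_comp _
  have h2 : (pullback.fst f t ≫ toXT₀ (k := k) (C := C)) ≫ pullback.fst f _ = pullback.fst f t := by
    rw [Category.assoc]
    exact (congrArg (pullback.fst f t ≫ ·) toXT₀_fst).trans (Category.comp_id _)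
  haveI : Mono (𝟙_ (Over (Spec (CommRingCat.of k)))).hom :=
    inferInstanceAs (Mono (𝟙 (Spec (CommRingCat.of k))))
  apply pullback.hom_ext
  · exact h1.trans h2.symm
  · rw [← cancel_mono (𝟙_ (Over (Spec (CommRingCat.of k)))).hom]
    have h := congrArg (· ≫ f) (h1.trans h2.symm)
    simp only [Category.assoc, pullback.condition] at h ⊢
    exact h

variable [IsProper J.hom] [Smooth J.hom] [GeometricallyIntegral J.hom] [IsCommMonObj J]
  {j : Over.mk (C ↘ Spec (CommRingCat.of k)) ⟶ J} (hj : IsAbel σ hσ c j)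
  {n : ℕ} (hn : n + 1 = Curv2.genus k C) (Z : Closeds J.left) (hZ : (Z : Set J.left) = WSet j n)
  {La : J.left.Modules} (hLa : PicF.IsInvertible La)
  (hinv : ClSub.IsInverseOf La (ClSub.idealMod (Scheme.IdealSheafData.vanishingIdeal Z)))
  {b₀ : 𝟙_ (Over (Spec (CommRingCat.of k))) ⟶ J} {P : IsoCls C} (hP : InvC P)
  (hb₀ : tcl c b₀ * idCls σ.ker = P * idCls σ.ker ^ n)
include hj hn hZ hLa hinv hP hb₀

omit hP in
/-- **The pullback of `W^(g-1)` along a translated Abel map, algebraically closed case.** -/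
theorem pull_theta_translAbel_closed [IsAlgClosed k] :
    pull (Y := C) (j ≫ Jac.transl J b₀).left (cl La) * P = omegaCls k C := by
  obtain ⟨κ, hκ⟩ := exists_kappa hdim hf hc hn
  have hZ' : (Z : Set J.left) = (Jac.transl J κ).left.base '' (((𝟙 J)⁻¹).left.base '' WSet j n) := by
    refine eq_of_points Z.isClosed (isClosed_transl _ (isClosed_inv (isClosed_WSet j n))) fun z => ?_
    rw [hZ, mem_transl, mem_inv, ← mem_kappa hdim hf hc hj κ hn hκ,
      show (z * κ⁻¹)⁻¹ = κ * z⁻¹ by rw [mul_inv_rev, inv_inv]]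
  have key := (exists_univ_twist hdim hf hc hj hn κ Z hZ' hLa hinv).2 (κ * b₀⁻¹)
  rw [show (κ * b₀⁻¹)⁻¹ * κ = b₀ by rw [mul_inv_rev, inv_inv, _root_.mul_assoc, inv_mul_cancel, _root_.mul_one]] at key
  have h1 : tcl c (κ * b₀⁻¹) * tcl c b₀ = omegaCls k C * idCls σ.ker ^ (n + n) := by
    rw [← tcl_mul hc, inv_mul_cancel_right, hκ]
  rw [key] at h1
  refine (invC_sigma_pow (k := k) hdim hσ (n + n)).isUnit.mul_right_cancel ?_
  calc pull (Y := C) (j ≫ Jac.transl J b₀).left (cl La) * P * idCls σ.ker ^ (n + n)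
      = pull (Y := C) (j ≫ Jac.transl J b₀).left (cl La) * idCls σ.ker ^ n * (P * idCls σ.ker ^ n) := by
        rw [pow_add]; ac_rfl
    _ = pull (Y := C) (j ≫ Jac.transl J b₀).left (cl La) * idCls σ.ker ^ (n + 1) * tcl c b₀ := by
        rw [← hb₀, pow_succ]; ac_rfl
    _ = _ := h1

/-- **The pullback of `W^(g-1)` along a translated Abel map.** -/
theorem pull_theta_translAbel :
    pull (Y := C) (j ≫ Jac.transl J b₀).left (cl La) * P = omegaCls k C := by
  let f := C ↘ Spec (CommRingCat.of k)
  let K := AlgebraicClosure k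
  let t : Spec (CommRingCat.of K) ⟶ Spec (CommRingCat.of k) := Spec.map (CommRingCat.ofHom (algebraMap k K))
  let CK := Curv2.bc k C K
  letI : CK.Over (Spec (CommRingCat.of K)) := ⟨pullback.snd f t⟩
  have hfK : Fam (CK ↘ Spec (CommRingCat.of K)) := fam_snd hf t
  haveI := hfK.proper; haveI := hfK.smooth; haveI := hfK.conn
  haveI : IsProper (pullback.snd f t) := hfK.proper
  haveI : Smooth (pullback.snd f t) := hfK.smooth
  let JK := Red.bc t J
  haveI : IsProper JK.hom := MorphismProperty.pullback_snd J.hom t inferInstance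
  haveI : Smooth JK.hom := MorphismProperty.pullback_snd J.hom t inferInstance
  haveI : GeometricallyIntegral JK.hom := MorphismProperty.pullback_snd J.hom t inferInstance
  haveI : IsCommMonObj JK := CubeConsLib.isCommMonObj_field
  have hcK := isRigJac_bc t hf hc
  have hjK := isAbel_bc t hf hj
  have hdK : topologicalKrullDim ↥CK = 1 := dim_total hfK
  have hgK : Curv2.genus K CK = Curv2.genus k C := VeryAmpleLib.genus_bc k C K
  have hZ₁ : (Z : Set J.left) = (Jac.transl J 1).left.base '' WSet j n := by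
    rw [show Jac.transl J 1 = 𝟙 J by rw [Jac.transl, MonObj.comp_one, _root_.mul_one]]
    exact hZ.trans (Set.image_id (WSet j n)).symm
  obtain ⟨aK, ZK, haK, hZK, hinvK⟩ := exists_bc_translate hdim hf hc hj hn 1 Z hZ₁ hLa hinv K
  obtain rfl : aK = 1 := by
    refine AVIndexLib.toDn_injective t (haK.trans ?_)
    rw [MonObj.comp_one]
    exact (map_one (toDnHom t (𝟙_ _))).symm
  rw [show Jac.transl JK 1 = 𝟙 JK by rw [Jac.transl, MonObj.comp_one, _root_.mul_one]] at hZK
  let p := pullback.fst J.hom t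
  let LK : JK.left.Modules := (Scheme.Modules.pullback p).obj La
  have hLK : PicF.IsInvertible LK := AmpleDevLib.isInvertible_pb p hLa
  obtain ⟨bK, hbK⟩ := exists_toDn_eq t (𝟙_ (Over (Spec (CommRingCat.of K)))) (toUnit (dn t (𝟙_ _)) ≫ b₀)
  let pC := pullback.fst f t
  have hσK := pull_idCls_bcSec hdim hf (σ := σ) (hσ := hσ) t
  have hbK₀ : tcl (C := CK) (bcCls t c) bK * idCls (bcSec t σ hσ).ker = pull pC P * idCls (bcSec t σ hσ).ker ^ n := by
    rw [tcl_bc hdim hf hc t b₀ bK hbK, ← hσK]
    exact (map_mul (pull pC) _ _).symm.trans ((congrArg (pull pC) hb₀).trans ((map_mul _ _ _).trans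
      (congrArg (_ * ·) (map_pow _ _ _))))
  have key := pull_theta_translAbel_closed (C := CK) hdK hfK hcK hjK (hn.trans hgK.symm) ZK
    (hZK.trans (Set.image_id _)) hLK hinvK hbK₀
  obtain ⟨eΩ⟩ := CurveDualLib.nonempty_omega_pullback f t pC (pullback.snd f t) (IsPullback.of_hasPullback f t)
  refine eq_of_pull_eq (k := k) (k' := K) (g := pC) (X' := CK) (IsPullback.of_hasPullback f t)
    ((InvC.pull (c := cl La) ⟨La, hLa, rfl⟩ _).mul hP) (invC_omega (k := k) hdim) ?_
  rw [map_mul, pull_comp]
  have eΩ' : pull pC (omegaCls k C) = omegaCls K CK := (pull_cl _ _).trans (cl_eq_iff.2 ⟨eΩ⟩)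
  rw [eΩ']
  refine Eq.trans (congrArg (· * _) ?_) key
  rw [show cl LK = pull p (cl La) from (pull_cl _ _).symm]
  refine Eq.trans ?_ (pull_comp _ _ _).symm
  refine congrArg (fun m => pull m (cl La)) ?_
  have e1 : toDn t ((Over.pullback t).map j ≫ Jac.transl JK bK) =
      toDn t ((Over.pullback t).map j) * (toUnit _ ≫ b₀) := by
    rw [Jac.transl, MonObj.comp_mul, Category.comp_id, ← Category.assoc,
      toUnit_unique (_ ≫ toUnit JK) (toUnit _), AVIndexLib.toDn_mul, toDn_comp]
    erw [hbK]
    rw [← Category.assoc, toUnit_unique (_ ≫ toUnit _) (toUnit _)]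
  have e2 : toDn t ((Over.pullback t).map j) * (toUnit _ ≫ b₀) =
      toDn t ((Over.pullback t).map (j ≫ Jac.transl J b₀)) := by
    rw [AVIndexLib.toDn_bc_map, AVIndexLib.toDn_bc_map, Jac.transl, MonObj.comp_mul, Category.comp_id, MonObj.comp_mul]
    congr 1
    rw [← Category.assoc, ← Category.assoc, toUnit_unique ((_ ≫ j) ≫ toUnit J) (toUnit _)]
  exact ((congrArg CommaMorphism.left (e1.trans e2)).trans (pullback.lift_fst _ _ _)).symm

end JacAlbLib

end
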