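import Groth.Agent.JacAlbLib.ThetaUniv
import Groth.Agent.JacAlbLib.ThetaBC
import Groth.Agent.JacAlbLib.PicDegCover
import Groth.Agent.DescAppLib.LineApps
import Groth.Agent.PicCurveLib.PicZeroRig
import Groth.Agent.QCohDescLib.Finite

/-!
# The theta family over any field
-/

set_option autoImplicit false
set_option linter.style.haveILetI false
set_option linter.unusedSectionVars false
set_option backward.isDefEq.respectTransparency false
set_option backward.isDefEq.respectTransparency.types false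
set_option maxRecDepth 8000
set_option maxHeartbeats 1000000

universe u

open CategoryTheory CategoryTheory.Limits AlgebraicGeometry MonoidalCategory CartesianMonoidalCategory TopologicalSpace
open CubeConsLib (pull pull_comp pull_cl cl cl_eq_iff cl_tensor IsoCls)
open AVIndexLib (dn dnMap toDn toDn_injective toDn_comp)
open EllLawLib (idCls)
open PicCurveLib
open scoped MonObj

noncomputable section

namespace JacAlbLib

/-- Postcomposing with a base changed map. -/
theorem toDn_comp_map {S S' : Scheme.{u}} (t : S' ⟶ S) {X Y : Over S} {T : Over S'} (x : T ⟶ Red.bc t X) (h : X ⟶ Y) :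
    toDn t (x ≫ (Over.pullback t).map h) = toDn t x ≫ h := Over.OverMorphism.ext (by
  show (x.left ≫ ((Over.pullback t).map h).left) ≫ pullback.fst Y.hom t = (x.left ≫ pullback.fst X.hom t) ≫ h.left
  rw [Category.assoc, Category.assoc]
  exact congrArg (x.left ≫ ·) (pullback.lift_fst _ _ _))

set_option synthInstance.maxHeartbeats 400000 in
/-- The descended inverse. -/
theorem toDn_inv {S S' : Scheme.{u}} (t : S' ⟶ S) {X : Over S} [GrpObj X] {T : Over S'} (x : T ⟶ Red.bc t X) :
    toDn t x⁻¹ = (toDn t x)⁻¹ := (toDnHom t T).map_inv x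

variable {k : Type u} [Field k] {C : Scheme.{u}} [C.Over (Spec (CommRingCat.of k))]
  [IsProper (C ↘ Spec (CommRingCat.of k))] [Smooth (C ↘ Spec (CommRingCat.of k))]
  [GeometricallyConnected (C ↘ Spec (CommRingCat.of k))] (hdim : topologicalKrullDim ↥C = 1)
  (hf : Fam (C ↘ Spec (CommRingCat.of k)))
include hdim hf

/-- Being a twist from the base is detected after a faithfully flat quasi-compact cover. -/
theorem exists_base_of_cover {T T' : Over (Spec (CommRingCat.of k))} (π : T' ⟶ T) [Flat π.left] [Surjective π.left]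
    [QuasiCompact π.left] {d : IsoCls (PicF.XT (C ↘ Spec (CommRingCat.of k)) T)} (hd : InvC d)
    {m' : IsoCls T'.left} (hm' : InvC m')
    (e : pull (PicF.XTmap (C ↘ Spec (CommRingCat.of k)) π) d = pull (PicF.XTproj (C ↘ Spec (CommRingCat.of k)) T') m') :
    ∃ m : IsoCls T.left, InvC m ∧ d = pull (PicF.XTproj (C ↘ Spec (CommRingCat.of k)) T) m := by
  let f := C ↘ Spec (CommRingCat.of k)
  obtain ⟨L, hL, rfl⟩ := hd
  obtain ⟨N', hN', rfl⟩ := hm'
  haveI hp : IsProper (PicF.XTproj f T) := (fam_snd hf T.hom).proper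
  haveI : ∀ a : PUnit.{u + 1}, Flat ((fun _ => π.left) a) := fun _ => ‹Flat π.left›
  haveI : ∀ a : PUnit.{u + 1}, QuasiCompact ((fun _ => π.left) a) := fun _ => ‹QuasiCompact π.left›
  have hmem : Presieve.ofArrows (fun _ : PUnit.{u + 1} => T'.left) (fun _ => π.left) ∈ Scheme.fpqcPrecoverage T.left :=
    QCohDescLib.ofArrows_mem_of_finite (fun _ : PUnit.{u + 1} => π.left) fun x => ⟨PUnit.unit, π.left.surjective x⟩
  rw [pull_cl, pull_cl] at e
  obtain ⟨N, hN, ⟨i⟩⟩ := DescAppLib.exists_descend_family (PicF.XTproj f T) (fun _ : PUnit.{u + 1} => π.left) hmem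
    (fun U u _ => DescAppLib.bijective_snd_appTop (PicF.XTproj f T) (fun V => bijective_app_XT hf T V) u)
    L (fun _ => PicF.XTmap f π) (fun _ => PicF.XTproj f T') (fun _ => DescAppLib.isPullback_XTmap f π)
    (fun _ => N') (fun _ => hN') (fun _ => (cl_eq_iff.1 e).some)
  exact ⟨cl N, ⟨N, hN, rfl⟩, (cl_eq_iff.2 ⟨i⟩).symm.trans (pull_cl _ _).symm⟩

variable {σ : Spec (CommRingCat.of k) ⟶ C}
  {hσ : σ ≫ (C ↘ Spec (CommRingCat.of k)) = 𝟙 _} {J : Over (Spec (CommRingCat.of k))} [GrpObj J]
  {c : IsoCls (PicF.XT (C ↘ Spec (CommRingCat.of k)) J)} (hc : IsRigJac σ hσ J c)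
  [IsProper J.hom] [Smooth J.hom] [GeometricallyIntegral J.hom] [IsCommMonObj J]
  {j : Over.mk (C ↘ Spec (CommRingCat.of k)) ⟶ J} (hj : IsAbel σ hσ c j)
  {n : ℕ} (hn : n + 1 = Curv2.genus k C) (Z : Closeds J.left) (hZ : (Z : Set J.left) = WSet j n)
  {La : J.left.Modules} (hLa : PicF.IsInvertible La)
  (hinv : ClSub.IsInverseOf La (ClSub.idealMod (Scheme.IdealSheafData.vanishingIdeal Z)))
include hc hj hn hZ hLa hinv

/-- The pullback of `W^(g-1)` along `(x, y) ↦ y - x` is the universal class, algebraically closed case. -/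
theorem theta_univ_closed [IsAlgClosed k] :
    ∃ m : IsoCls J.left, InvC m ∧ c =
      pull (Y := PicF.XT (C ↘ Spec (CommRingCat.of k)) J)
          ((fst (Over.mk (C ↘ Spec (CommRingCat.of k))) J ≫ j)⁻¹ *
            snd (Over.mk (C ↘ Spec (CommRingCat.of k))) J).left (cl La) *
        pc (base σ hσ J) ^ (n + 1) * pull (PicF.XTproj (C ↘ Spec (CommRingCat.of k)) J) m := by
  let f := C ↘ Spec (CommRingCat.of k)
  let v := ((𝟙 J)⁻¹).left
  have hvv : v ≫ v = 𝟙 J.left := by
    refine congrArg CommaMorphism.left (?_ : (𝟙 J)⁻¹ ≫ (𝟙 J)⁻¹ = 𝟙 J)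
    rw [GrpObj.comp_inv, Category.comp_id, inv_inv]
  haveI : IsIso v := ⟨v, hvv, hvv⟩
  let Z1 : Closeds J.left := ⟨v.base ⁻¹' Z, Z.isClosed.preimage v.continuous⟩
  let L1 : J.left.Modules := (Scheme.Modules.pullback v).obj La
  have hL1 : PicF.IsInvertible L1 := AmpleDevLib.isInvertible_pb v hLa
  have hI := IntMultLib.isEffCartier_of_isInvertible _ (CohCmpLib.isInvertible_of_inverse' hLa hinv.some)
  have hinv1 : ClSub.IsInverseOf L1 (ClSub.idealMod (Scheme.IdealSheafData.vanishingIdeal Z1)) := by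
    refine CubeConsLib.cl_eq_one_iff.1 ((CubeConsLib.cl_tensor _ _).trans ?_)
    show cl L1 * idCls (Scheme.IdealSheafData.vanishingIdeal Z1) = 1
    rw [← show _ = Scheme.IdealSheafData.vanishingIdeal Z1 from AlgSpRegLib.comap_vanishingIdeal_etale v Z,
      ← EllLawLib.pull_idCls v hI (BlowUpLib.isEffCartier_comap_of_flat v hI), ← pull_cl]
    refine (map_mul (pull v) _ _).symm.trans ?_
    exact (congrArg (pull v) (((cl_tensor _ _).symm).trans (cl_eq_iff.2 hinv))).trans (map_one _)
  have hZ1 : (Z1 : Set J.left) = (Jac.transl J 1).left.base '' (((𝟙 J)⁻¹).left.base '' WSet j n) := by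
    rw [show Jac.transl J 1 = 𝟙 J by rw [Jac.transl, MonObj.comp_one, _root_.mul_one]]
    refine Eq.trans ?_ (Set.image_id _).symm
    show v.base ⁻¹' (Z : Set J.left) = v.base '' WSet j n
    rw [hZ]
    have hinvol : ∀ x : J.left, v (v x) = x := fun x => by rw [← Scheme.Hom.comp_apply, hvv]; rfl
    exact (congrFun (Set.image_eq_preimage_of_inverse hinvol hinvol) _).symm
  obtain ⟨m, hm, em⟩ := (exists_univ_twist hdim hf hc hj hn 1 Z1 hZ1 hL1 hinv1).1
  refine ⟨m, hm, em.trans ?_⟩
  rw [Finset.prod_const, Finset.card_univ, Fintype.card_fin]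
  refine congrArg (fun z => z * _ * _) ?_
  rw [show cl L1 = pull v (cl La) from (pull_cl _ _).symm]
  refine (pull_comp _ _ _).trans (congrArg (fun z => pull z (cl La)) ?_)
  refine congrArg CommaMorphism.left (?_ :
    ((fst (Over.mk f) J ≫ j) * (snd (Over.mk f) J ≫ (𝟙 J)⁻¹) * (toUnit (Over.mk f ⊗ J) ≫ 1)) ≫ (𝟙 J)⁻¹ =
      (fst (Over.mk f) J ≫ j)⁻¹ * snd (Over.mk f) J)
  rw [MonObj.comp_one, _root_.mul_one, GrpObj.comp_inv, Category.comp_id, mul_inv, GrpObj.comp_inv, Category.comp_id,
    inv_inv]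

/-- The pullback of `W^(g-1)` along `(x, y) ↦ y - x` is the universal class. -/
theorem theta_univ :
    ∃ m : IsoCls J.left, InvC m ∧ c =
      pull (Y := PicF.XT (C ↘ Spec (CommRingCat.of k)) J)
          ((fst (Over.mk (C ↘ Spec (CommRingCat.of k))) J ≫ j)⁻¹ *
            snd (Over.mk (C ↘ Spec (CommRingCat.of k))) J).left (cl La) *
        pc (base σ hσ J) ^ (n + 1) * pull (PicF.XTproj (C ↘ Spec (CommRingCat.of k)) J) m := by
  let f := C ↘ Spec (CommRingCat.of k)
  let F : Over.mk f ⊗ J ⟶ J := (fst (Over.mk f) J ≫ j)⁻¹ * snd (Over.mk f) J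
  let K := AlgebraicClosure k
  let t : Spec (CommRingCat.of K) ⟶ Spec (CommRingCat.of k) := Spec.map (CommRingCat.ofHom (algebraMap k K))
  let CK := Curv2.bc k C K
  letI : CK.Over (Spec (CommRingCat.of K)) := ⟨pullback.snd f t⟩
  have hfK : Fam (CK ↘ Spec (CommRingCat.of K)) := fam_snd hf t
  haveI := hfK.proper; haveI := hfK.smooth; haveI := hfK.conn
  haveI : IsProper (pullback.snd f t) := hfK.proper
  haveI : Smooth (pullback.snd f t) := hfK.smooth
  let JK := Red.bc t J
  haveI : IsProper JK.hom := MorphismProperty.pullback_snd J.hom t inferInstance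
  haveI : Smooth JK.hom := MorphismProperty.pullback_snd J.hom t inferInstance
  haveI : GeometricallyIntegral JK.hom := MorphismProperty.pullback_snd J.hom t inferInstance
  haveI : IsCommMonObj JK := CubeConsLib.isCommMonObj_field
  have hcK := isRigJac_bc t hf hc
  have hjK := isAbel_bc t hf hj
  have hdK : topologicalKrullDim ↥CK = 1 := dim_total hfK
  have hgK : Curv2.genus K CK = Curv2.genus k C := VeryAmpleLib.genus_bc k C K
  have hZ₁ : (Z : Set J.left) = (Jac.transl J 1).left.base '' WSet j n := by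
    rw [show Jac.transl J 1 = 𝟙 J by rw [Jac.transl, MonObj.comp_one, _root_.mul_one]]
    exact hZ.trans (Set.image_id (WSet j n)).symm
  obtain ⟨aK, ZK, haK, hZK, hinvK⟩ := exists_bc_translate hdim hf hc hj hn 1 Z hZ₁ hLa hinv K
  obtain rfl : aK = 1 := by
    refine toDn_injective t (haK.trans ?_)
    rw [MonObj.comp_one]
    exact (map_one (toDnHom t (𝟙_ _))).symm
  rw [show Jac.transl JK 1 = 𝟙 JK by rw [Jac.transl, MonObj.comp_one, _root_.mul_one]] at hZK
  let p := pullback.fst J.hom t
  let LK : JK.left.Modules := (Scheme.Modules.pullback p).obj La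
  have hLK : PicF.IsInvertible LK := AmpleDevLib.isInvertible_pb p hLa
  obtain ⟨mK, hmK, eK⟩ := theta_univ_closed (C := CK) hdK hfK hcK hjK (hn.trans hgK.symm) ZK
    (hZK.trans (Set.image_id _)) hLK hinvK
  -- the descent
  let π : dn t JK ⟶ J := toDn t (𝟙 JK)
  have hπ : π.left = p := Category.id_comp _
  haveI : Flat t := by
    rw [HasRingHomProperty.Spec_iff (P := @Flat)]
    show RingHom.Flat (algebraMap k K)
    rw [RingHom.flat_algebraMap_iff]
    infer_instance
  haveI : Surjective t := ⟨fun x => ⟨IsLocalRing.closedPoint K, Subsingleton.elim (α := PrimeSpectrum k) _ _⟩⟩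
  haveI : Flat π.left := hπ ▸ inferInstanceAs (Flat (pullback.fst J.hom t))
  haveI : Surjective π.left := hπ ▸ inferInstanceAs (Surjective (pullback.fst J.hom t))
  haveI : QuasiCompact π.left := hπ ▸ inferInstanceAs (QuasiCompact (pullback.fst J.hom t))
  let θ := AgPol.bcXTIso t (Over.mk f) JK
  obtain ⟨L', hL', eL', -⟩ := hc.rigZero.rep
  let D : IsoCls (PicF.XT f J) := pull (Y := PicF.XT f J) F.left (cl La) * pc (base σ hσ J) ^ (n + 1)
  have hD : InvC D := (InvC.pull (c := cl La) ⟨La, hLa, rfl⟩ _).mul (invC_pow' (invC_pc hf _) _)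
  obtain ⟨D', hD', eD'⟩ := hD.exists_inv
  have hgF : θ.hom ≫ PicF.XTmap f π ≫ F.left =
      ((fst (Over.mk (CK ↘ Spec (CommRingCat.of K))) JK ≫ (Over.pullback t).map j)⁻¹ *
        snd (Over.mk (CK ↘ Spec (CommRingCat.of K))) JK).left ≫ p := by
    let P := Over.mk (CK ↘ Spec (CommRingCat.of K)) ⊗ JK
    let x : dn t P ⟶ Over.mk f := toDn (X := Over.mk f) t (fst _ _)
    let y : dn t P ⟶ J := toDn t (snd _ _)
    have hg : θ.hom ≫ PicF.XTmap f π = (lift x y).left := by
      apply pullback.hom_ext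
      · refine (Category.assoc _ _ _).trans ?_
        refine (congrArg (θ.hom ≫ ·) (DescAppLib.XTmap_fst f π)).trans ?_
        exact (pullbackLeftPullbackSndIso_hom_fst f t JK.hom).trans (congrArg CommaMorphism.left (lift_fst x y)).symm
      · refine (Category.assoc _ _ _).trans ?_
        refine (congrArg (θ.hom ≫ ·) (DescAppLib.XTmap_proj f π)).trans ?_
        refine ((Category.assoc _ _ _).symm.trans (congrArg (· ≫ π.left)
          (pullbackLeftPullbackSndIso_hom_snd f t JK.hom))).trans ?_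
        refine Eq.trans ?_ (congrArg CommaMorphism.left (lift_snd x y)).symm
        rw [hπ]
        rfl
    rw [← Category.assoc, hg]
    refine congrArg CommaMorphism.left (?_ : lift x y ≫ F =
      toDn t ((fst (Over.mk (CK ↘ Spec (CommRingCat.of K))) JK ≫ (Over.pullback t).map j)⁻¹ *
        snd (Over.mk (CK ↘ Spec (CommRingCat.of K))) JK))
    rw [MonObj.comp_mul, GrpObj.comp_inv, lift_snd, lift_fst_assoc, AVIndexLib.toDn_mul]
    have hx : toDn t (fst (Over.mk (CK ↘ Spec (CommRingCat.of K))) JK ≫ (Over.pullback t).map j) = x ≫ j :=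
      toDn_comp_map (X := Over.mk f) (Y := J) t (fst (Over.mk (CK ↘ Spec (CommRingCat.of K))) JK) j
    have hi := toDn_inv t (fst (Over.mk (CK ↘ Spec (CommRingCat.of K))) JK ≫ (Over.pullback t).map j)
    rw [hx] at hi
    exact congrArg (· * y) hi.symm
  have hcK' : bcCls t c = pull θ.hom (pull (PicF.XTmap f π) c) := rfl
  have hbase : pull θ.hom (pull (PicF.XTmap f π) (pc (base σ hσ J))) =
      pc (base (bcSec t σ hσ) (bcSec_snd t) JK) := by
    rw [pull_pc hf, comp_base, ← pull_hom_pc t hf (base (bcSec t σ hσ) (bcSec_snd t) JK), toDn_base]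
  have hDK : pull θ.hom (pull (PicF.XTmap f π) D) =
      pull (Y := PicF.XT (pullback.snd f t) JK) ((fst (Over.mk (CK ↘ Spec (CommRingCat.of K))) JK ≫ (Over.pullback t).map j)⁻¹ *
        snd (Over.mk (CK ↘ Spec (CommRingCat.of K))) JK).left (cl LK) *
        pc (base (bcSec t σ hσ) (bcSec_snd t) JK) ^ (n + 1) := by
    rw [map_mul, map_mul, map_pow, map_pow, hbase]
    refine congrArg (· * _) ?_
    rw [show cl LK = pull p (cl La) from (pull_cl _ _).symm]
    refine (pull_comp _ _ _).trans ((pull_comp _ _ _).trans (Eq.trans ?_ (pull_comp _ _ _).symm))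
    exact congrArg (fun z => pull z (cl La)) ((Category.assoc _ _ _).trans hgF)
  have e : pull θ.hom (pull (PicF.XTmap f π) (c * D')) = pull (PicF.XTproj (pullback.snd f t) JK) mK := by
    have h1 : pull θ.hom (pull (PicF.XTmap f π) D) * pull θ.hom (pull (PicF.XTmap f π) D') = 1 := by
      refine (map_mul _ _ _).symm.trans ((congrArg (pull θ.hom) ((map_mul _ _ _).symm.trans ?_)).trans (map_one _))
      exact (congrArg (pull (PicF.XTmap f π)) eD').trans (map_one _)
    rw [map_mul, map_mul, ← hcK', eK]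
    show _ * pc (base (bcSec t σ hσ) (bcSec_snd t) JK) ^ (n + 1) *
      pull (PicF.XTproj (pullback.snd f t) JK) mK * _ = _
    erw [← hDK]
    rw [mul_right_comm, h1, _root_.one_mul]
  have e' : pull (PicF.XTmap f π) (c * D') = pull (PicF.XTproj f (dn t JK)) mK := by
    have h := congrArg (pull θ.inv) e
    rw [pull_comp θ.inv, Iso.inv_hom_id, DescAppLib.pull_id] at h
    refine h.trans ((pull_comp _ _ _).trans (congrArg (fun z => pull z mK) ?_))
    exact (Iso.inv_comp_eq θ).2 (pullbackLeftPullbackSndIso_hom_snd f t JK.hom).symm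
  obtain ⟨m, hm, em⟩ := exists_base_of_cover hdim hf π
    ((show InvC c from ⟨L', hL', eL'⟩).mul hD') hmK e'
  refine ⟨m, hm, ?_⟩
  calc c = c * (D * D') := by rw [eD', _root_.mul_one]
    _ = D * (c * D') := by ac_rfl
    _ = _ := congrArg (D * ·) em

end JacAlbLib

end
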