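import Groth.Agent.JacAlbLib.WTheta

/-!
# The intersection of a translate of `W^(r+1)` with a translate of theta
-/

set_option autoImplicit false
set_option linter.style.haveILetI false
set_option linter.unusedSectionVars false
set_option backward.isDefEq.respectTransparency false
set_option backward.isDefEq.respectTransparency.types false
set_option maxRecDepth 8000
set_option maxHeartbeats 1000000

universe u

open CategoryTheory CategoryTheory.Limits AlgebraicGeometry TopologicalSpace MonoidalCategory CartesianMonoidalCategory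
open CubeConsLib (pull pull_comp pull_cl cl cl_eq_iff cl_tensor IsoCls)
open EllLawLib (idCls)
open AmpleLib TwistLib
open PicCurveLib SymProd
open scoped MonObj

noncomputable section

namespace JacAlbLib

variable {k : Type u} [Field k] [IsAlgClosed k] {C : Scheme.{u}} [C.Over (Spec (CommRingCat.of k))]
  [IsProper (C ↘ Spec (CommRingCat.of k))] [Smooth (C ↘ Spec (CommRingCat.of k))]
  [GeometricallyConnected (C ↘ Spec (CommRingCat.of k))] (hdim : topologicalKrullDim ↥C = 1)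
include hdim

/-- A product of two modules with sections has a section. -/
theorem one_le_h0_mul {L M N : C.Modules} (hL : PicF.IsInvertible L) (hN : PicF.IsInvertible N)
    (e : cl N = cl L * cl M) (hL0 : 1 ≤ Module.finrank k (Coh.HH C L 0))
    (hM0 : 1 ≤ Module.finrank k (Coh.HH C M 0)) : 1 ≤ Module.finrank k (Coh.HH C N 0) := by
  haveI := FibVALib.geometricallyIntegral_of_geometricallyConnected (C ↘ Spec (CommRingCat.of k))
  haveI : IsIntegral C := GeometricallyIntegral.isIntegral_of_subsingleton (C ↘ Spec (CommRingCat.of k))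
  have hnt : Nontrivial (Coh.HH C L 0) := Module.nontrivial_of_finrank_pos (R := k) (by omega)
  obtain ⟨τ, hτ⟩ := CurvLib.exists_hom_ne_zero hnt
  have hd : 0 ≤ Curv2.deg k C L 1 := Groth.Agent.S1518.result k C hdim L hL τ hτ
  obtain ⟨m, hm⟩ := Int.eq_ofNat_of_zero_le hd
  obtain ⟨x, hx, ex⟩ := exists_points_of_h0 hdim m hL hm hL0
  refine hM0.trans (h0_points_le hdim x hx hN ?_)
  rw [e, mul_right_comm, ex, _root_.one_mul]

/-- The divisor form of the splitting. -/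
theorem split_sections (x₀ : Spec (CommRingCat.of k) ⟶ C) (hx₀ : x₀ ≫ (C ↘ Spec (CommRingCat.of k)) = 𝟙 _)
    {D Y Y' P N : C.Modules} (hD : PicF.IsInvertible D) (hY : PicF.IsInvertible Y) (hP : PicF.IsInvertible P)
    (hD0 : 1 ≤ Module.finrank k (Coh.HH C D 0)) (hY0 : 1 ≤ Module.finrank k (Coh.HH C Y 0))
    (hY' : cl Y' = cl Y * idCls x₀.ker) (hY'0 : Module.finrank k (Coh.HH C Y' 0) = 0)
    (eP : cl P = cl D * idCls x₀.ker) (eN : cl N = cl D * cl Y * idCls x₀.ker) (hN : PicF.IsInvertible N)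
    (hdeg : Curv2.deg k C (CohB1.tensorMod D Y) 1 = Curv2.genus k C) :
    1 ≤ Module.finrank k (Coh.HH C N 0) ↔
      (1 ≤ Module.finrank k (Coh.HH C P 0) ∨ 1 ≤ Module.finrank k (Coh.HH C (CohB1.tensorMod D Y) 1)) := by
  have hE : PicF.IsInvertible (CohB1.tensorMod D Y) := HilbPolyLib.isInvertible_tensor hD hY
  have eN' : cl N = cl (CohB1.tensorMod D Y) * idCls x₀.ker := by rw [eN, cl_tensor]
  have hr := rr (k := k) hdim (CohB1.tensorMod D Y)
  obtain ⟨hNE, hNgen⟩ := h0_point (k := k) hdim x₀ hx₀ hE eN'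
  constructor
  · intro hN0
    by_contra hcon
    have hP0 : Module.finrank k (Coh.HH C P 0) = 0 := by
      by_contra h
      exact hcon (Or.inl (Nat.one_le_iff_ne_zero.2 h))
    have hE1 : Module.finrank k (Coh.HH C (CohB1.tensorMod D Y) 1) = 0 := by
      by_contra h
      exact hcon (Or.inr (Nat.one_le_iff_ne_zero.2 h))
    by_cases hDg : ∃ s : Γ(D, ⊤), GenAt D s (show x₀ (IsLocalRing.closedPoint k) ∈ (⊤ : C.Opens) from trivial)
    · by_cases hYg : ∃ s : Γ(Y, ⊤), GenAt Y s (show x₀ (IsLocalRing.closedPoint k) ∈ (⊤ : C.Opens) from trivial)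
      · obtain ⟨s, hs⟩ := hDg
        obtain ⟨s', hs'⟩ := hYg
        have := hNgen ⟨_, hs.tensor hs'⟩
        omega
      · have := h0_point_not_gen (k := k) hdim x₀ hx₀ hY hY' (not_exists.1 hYg)
        omega
    · have := h0_point_not_gen (k := k) hdim x₀ hx₀ hD eP (not_exists.1 hDg)
      omega
  · rintro (hP0 | hE1)
    · exact one_le_h0_mul hdim hP hN (by rw [eN, eP, mul_right_comm]) hP0 hY0
    · by_cases hg : ∃ s : Γ(CohB1.tensorMod D Y, ⊤),
          GenAt (CohB1.tensorMod D Y) s (show x₀ (IsLocalRing.closedPoint k) ∈ (⊤ : C.Opens) from trivial)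
      · have := hNgen hg
        omega
      · have := h0_point_not_gen (k := k) hdim x₀ hx₀ hE eN' (not_exists.1 hg)
        omega

variable (hf : Fam (C ↘ Spec (CommRingCat.of k))) {σ : Spec (CommRingCat.of k) ⟶ C}
  {hσ : σ ≫ (C ↘ Spec (CommRingCat.of k)) = 𝟙 _} {J : Over (Spec (CommRingCat.of k))} [GrpObj J]
  {c : IsoCls (PicF.XT (C ↘ Spec (CommRingCat.of k)) J)} (hc : IsRigJac σ hσ J c)
  [IsProper J.hom] [Smooth J.hom] [GeometricallyIntegral J.hom] [IsCommMonObj J]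
  {j : Over.mk (C ↘ Spec (CommRingCat.of k)) ⟶ J} (hj : IsAbel σ hσ c j)
include hf hc hj

/-- The pointwise form of the splitting. -/
theorem mem_split_iff {κ : 𝟙_ (Over (Spec (CommRingCat.of k))) ⟶ J} {r m : ℕ}
    (hg : r + 1 + m = Curv2.genus k C) (hm : 1 ≤ m)
    (hκ : tcl c κ = omegaCls k C * idCls σ.ker ^ (r + m + (r + m)))
    {x y : 𝟙_ (Over (Spec (CommRingCat.of k))) ⟶ J} (hx : pnt x ∈ WSet j 1) (hy : pnt y ∈ WSet j m)
    (hnot : ¬ ∀ t, pnt t ∈ WSet j (r + 1) → pnt (t * x⁻¹ * y) ∈ WSet j (r + m))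
    (t : 𝟙_ (Over (Spec (CommRingCat.of k))) ⟶ J) :
    (pnt t ∈ WSet j (r + 1) ∧ pnt (t * x⁻¹ * y) ∈ WSet j (r + m)) ↔
      (pnt (t * x⁻¹) ∈ WSet j r ∨ (pnt t ∈ WSet j (r + 1) ∧ pnt (κ * t⁻¹ * y⁻¹) ∈ WSet j (r + m - 1))) := by
  obtain ⟨v₀, rfl⟩ := (mem_WSet_iff j 1 x).1 hx
  obtain ⟨v, rfl⟩ := (mem_WSet_iff j m y).1 hy
  let I := idCls σ.ker
  have hI : ∀ n : ℕ, IsUnit (I ^ n) := fun n => (invC_sigma_pow hdim hσ n).isUnit
  obtain ⟨x₀, hx₀⟩ : ∃ x₀, x₀ = pid (v₀ 0) := ⟨_, rfl⟩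
  have ex : tcl c (∏ i, v₀ i ≫ j) * x₀ = I := by
    have h := class_prod hdim hf hc hj v₀
    simp only [Fin.prod_univ_one, pow_one] at h ⊢; rw [hx₀]; exact h
  have ey : tcl c (∏ i, v i ≫ j) * ∏ i, pid (v i) = I ^ m := class_prod hdim hf hc hj v
  have hI₀ := invC_point hdim (v₀ 0).left (Over.w (v₀ 0))
  have hπ := invC_pids hdim Finset.univ v
  obtain ⟨Y, hY, eY⟩ := exists_div (CurvLib.isInvertible_structureModule (X := C)) hπ
  have eY1 : cl Y * ∏ i, pid (v i) = 1 := eY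
  have hY0 : 1 ≤ Module.finrank k (Coh.HH C Y 0) :=
    one_le_h0_of_points hdim (fun i => (v i).left) (fun i => Over.w (v i)) hY eY1
  have hY' : PicF.IsInvertible (CohB1.tensorMod Y (ClSub.idealMod (v₀ 0).left.ker)) :=
    HilbPolyLib.isInvertible_tensor hY
      (IntMultLib.isInvertible_idealMod _ (AlgEquivCurveLib.isEffCartier_pt hdim (v₀ 0).left (Over.w (v₀ 0))))
  have eY' : cl (CohB1.tensorMod Y (ClSub.idealMod (v₀ 0).left.ker)) = cl Y * x₀ := by
    rw [cl_tensor, hx₀]; rfl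
  -- the data attached to a point
  have data : ∀ (s : 𝟙_ (Over (Spec (CommRingCat.of k))) ⟶ J) (D : C.Modules), PicF.IsInvertible D →
      cl D * I ^ (r + 1) = tcl c s →
      cl D * x₀ * I ^ r = tcl c (s * (∏ i, v₀ i ≫ j)⁻¹) ∧
      cl D * cl Y * x₀ * I ^ (r + m) = tcl c (s * (∏ i, v₀ i ≫ j)⁻¹ * ∏ i, v i ≫ j) := by
    intro s D _ eD
    have e1 : cl D * x₀ * I ^ r = tcl c (s * (∏ i, v₀ i ≫ j)⁻¹) := by
      refine (hI 1).mul_right_cancel ?_
      rw [pow_one]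
      calc cl D * x₀ * I ^ r * I = cl D * I ^ (r + 1) * x₀ := by rw [pow_succ]; ac_rfl
        _ = tcl c (s * (∏ i, v₀ i ≫ j)⁻¹ * ∏ i, v₀ i ≫ j) * x₀ := by rw [inv_mul_cancel_right, eD]
        _ = _ := by rw [tcl_mul hc, _root_.mul_assoc, ex]
    refine ⟨e1, hπ.isUnit.mul_right_cancel ?_⟩
    calc cl D * cl Y * x₀ * I ^ (r + m) * ∏ i, pid (v i)
        = (cl D * x₀ * I ^ r) * I ^ m * (cl Y * ∏ i, pid (v i)) := by rw [pow_add]; ac_rfl
      _ = _ := by rw [eY1, _root_.mul_one, e1, ← ey]; simp only [tcl_mul hc]; ac_rfl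
  have hY'0 : Module.finrank k (Coh.HH C (CohB1.tensorMod Y (ClSub.idealMod (v₀ 0).left.ker)) 0) = 0 := by
    by_contra h
    refine hnot fun s hs => ?_
    obtain ⟨D, hD, eD⟩ := exists_twist hdim hf hc s (r + 1)
    rw [mem_WSet_iff_h0 hdim hf hc hj _ _ hD eD] at hs
    have hN := HilbPolyLib.isInvertible_tensor hD hY'
    refine (mem_WSet_iff_h0 hdim hf hc hj _ _ hN ?_).2
      (one_le_h0_mul hdim hD hN (cl_tensor _ _) hs (Nat.one_le_iff_ne_zero.2 h))
    refine Eq.trans ?_ (data s D hD eD).2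
    rw [cl_tensor, eY', ← _root_.mul_assoc]
  obtain ⟨D, hD, eD⟩ := exists_twist hdim hf hc t (r + 1)
  obtain ⟨dP, dN⟩ := data t D hD eD
  have hP : PicF.IsInvertible (CohB1.tensorMod D (ClSub.idealMod (v₀ 0).left.ker)) :=
    HilbPolyLib.isInvertible_tensor hD
      (IntMultLib.isInvertible_idealMod _ (AlgEquivCurveLib.isEffCartier_pt hdim (v₀ 0).left (Over.w (v₀ 0))))
  have eP : cl (CohB1.tensorMod D (ClSub.idealMod (v₀ 0).left.ker)) = cl D * x₀ := by rw [cl_tensor, hx₀]; rfl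
  have hN := HilbPolyLib.isInvertible_tensor hD hY'
  have eN : cl (CohB1.tensorMod D (CohB1.tensorMod Y (ClSub.idealMod (v₀ 0).left.ker))) = cl D * cl Y * x₀ := by
    rw [cl_tensor, eY', ← _root_.mul_assoc]
  have hE := HilbPolyLib.isInvertible_tensor hD hY
  obtain ⟨R, hR, eR, hER⟩ := exists_dual (k := k) hdim hE
  have eR' : cl R * I ^ (r + m - 1) = tcl c (κ * t⁻¹ * (∏ i, v i ≫ j)⁻¹) := by
    refine (invC_tcl hdim hf hc (t * ∏ i, v i ≫ j)).isUnit.mul_right_cancel ?_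
    have e2 : tcl c (t * ∏ i, v i ≫ j) = cl D * cl Y * I ^ (r + 1 + m) := by
      refine hπ.isUnit.mul_right_cancel ?_
      rw [tcl_mul hc, _root_.mul_assoc, ey, ← eD]
      calc cl D * I ^ (r + 1) * I ^ m = cl D * I ^ (r + 1 + m) * (cl Y * ∏ i, pid (v i)) := by
            rw [eY1, _root_.mul_one, pow_add _ (r + 1) m, _root_.mul_assoc]
        _ = _ := by ac_rfl
    rw [← tcl_mul hc, show κ * t⁻¹ * (∏ i, v i ≫ j)⁻¹ * (t * ∏ i, v i ≫ j) = κ by
      rw [_root_.mul_assoc κ, ← mul_inv, _root_.mul_assoc, inv_mul_cancel, _root_.mul_one], hκ, e2, ← eR, cl_tensor,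
      show r + m + (r + m) = (r + m - 1) + (r + 1 + m) by omega]
    simp only [I, pow_add]
    ac_rfl
  have hdegY : Curv2.deg k C (CohB1.tensorMod D Y) 1 = Curv2.genus k C := by
    rw [← hg]
    refine deg_twist hdim hf hc (t * ∏ i, v i ≫ j) (r + 1 + m) hE ?_
    refine hπ.isUnit.mul_right_cancel ?_
    rw [cl_tensor, tcl_mul hc, _root_.mul_assoc (tcl c t), ey, ← eD]
    calc cl D * cl Y * I ^ (r + 1 + m) * ∏ i, pid (v i) = cl D * I ^ (r + 1 + m) * (cl Y * ∏ i, pid (v i)) := by ac_rfl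
      _ = _ := by rw [eY1, _root_.mul_one, pow_add _ (r + 1) m, _root_.mul_assoc]
  rw [mem_WSet_iff_h0 hdim hf hc hj _ t hD eD, mem_WSet_iff_h0 hdim hf hc hj _ _ hN (eN ▸ dN),
    mem_WSet_iff_h0 hdim hf hc hj _ _ hP (eP ▸ dP), mem_WSet_iff_h0 hdim hf hc hj _ _ hR eR', ← hER]
  have key := fun h => split_sections hdim (v₀ 0).left (Over.w (v₀ 0)) hD hY hP h hY0
    (eY'.trans (by rw [hx₀])) hY'0 (eP.trans (by rw [hx₀])) (eN.trans (by rw [hx₀])) hN hdegY
  constructor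
  · rintro ⟨hD0, hN0⟩
    exact ((key hD0).1 hN0).imp id fun h => ⟨hD0, h⟩
  · rintro (hP0 | ⟨hD0, hE1⟩)
    · have hD0 : 1 ≤ Module.finrank k (Coh.HH C D 0) :=
        hP0.trans (h0_point (k := k) hdim (v₀ 0).left (Over.w (v₀ 0)) hD (eP.trans (by rw [hx₀]))).1
      exact ⟨hD0, (key hD0).2 (Or.inl hP0)⟩
    · exact ⟨hD0, (key hD0).2 (Or.inr hE1)⟩

end JacAlbLib

end
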