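import Groth.Agent.JacAlbLib.TorelliBase
import Groth.Agent.JacAlbLib.WSplit
import Groth.Agent.JacAlbLib.WShift

/-!
# Torelli: the curve is determined by the theta divisor
-/

set_option autoImplicit false
set_option linter.style.haveILetI false
set_option linter.unusedSectionVars false
set_option backward.isDefEq.respectTransparency false
set_option backward.isDefEq.respectTransparency.types false
set_option maxRecDepth 8000
set_option maxHeartbeats 1000000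

universe u

open CategoryTheory CategoryTheory.Limits AlgebraicGeometry TopologicalSpace MonoidalCategory CartesianMonoidalCategory
open CubeConsLib (pull pull_comp pull_cl cl cl_eq_iff cl_tensor IsoCls)
open EllLawLib (idCls)
open PicCurveLib SymProd
open scoped MonObj

noncomputable section

namespace JacAlbLib

section Algebra

variable {M : Type*} [CommGroup M]

theorem torelli_a1 (a x y c κ d : M) : κ * (d * (a * x * y⁻¹ * c)⁻¹)⁻¹ = a * x * y⁻¹ * c * κ * d⁻¹ := by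
  simp [mul_comm, mul_left_comm, mul_assoc]

theorem torelli_a2 (v s p : M) : p * (v * s⁻¹)⁻¹ = v⁻¹ * s * p := by
  simp [mul_comm, mul_left_comm, mul_assoc]

theorem torelli_a3 (a x c κ q q' p v : M) :
    κ * (q * q' * a⁻¹ * x⁻¹ * p⁻¹ * v * c⁻¹)⁻¹ = v⁻¹ * (a * x * c * κ * (q * q')⁻¹) * p := by
  simp [mul_comm, mul_left_comm, mul_assoc]

theorem torelli_a4 (a x y c κ q q' : M) :
    (y * (a * x * c * κ * (q * q')⁻¹)⁻¹)⁻¹ = a * x * y⁻¹ * c * κ * (q * q')⁻¹ := by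
  simp [mul_comm, mul_left_comm, mul_assoc]

end Algebra

variable {k : Type u} [Field k] [IsAlgClosed k]

/-- Rational points of a curve. -/
abbrev CPt (C : Scheme.{u}) [C.Over (Spec (CommRingCat.of k))] : Type u :=
  𝟙_ (Over (Spec (CommRingCat.of k))) ⟶ Over.mk (C ↘ Spec (CommRingCat.of k))

variable {C C' : Scheme.{u}} [C.Over (Spec (CommRingCat.of k))] [C'.Over (Spec (CommRingCat.of k))]
  [IsProper (C ↘ Spec (CommRingCat.of k))] [Smooth (C ↘ Spec (CommRingCat.of k))]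
  [GeometricallyConnected (C ↘ Spec (CommRingCat.of k))]
  [IsProper (C' ↘ Spec (CommRingCat.of k))] [Smooth (C' ↘ Spec (CommRingCat.of k))]
  [GeometricallyConnected (C' ↘ Spec (CommRingCat.of k))]
  (hdim : topologicalKrullDim ↥C = 1) (hdim' : topologicalKrullDim ↥C' = 1)
  (hf : Fam (C ↘ Spec (CommRingCat.of k))) (hf' : Fam (C' ↘ Spec (CommRingCat.of k)))
  {σ : Spec (CommRingCat.of k) ⟶ C} {hσ : σ ≫ (C ↘ Spec (CommRingCat.of k)) = 𝟙 _}
  {σ' : Spec (CommRingCat.of k) ⟶ C'} {hσ' : σ' ≫ (C' ↘ Spec (CommRingCat.of k)) = 𝟙 _}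
  {J : Over (Spec (CommRingCat.of k))} [GrpObj J]
  {c : IsoCls (PicF.XT (C ↘ Spec (CommRingCat.of k)) J)} (hc : IsRigJac σ hσ J c)
  {c' : IsoCls (PicF.XT (C' ↘ Spec (CommRingCat.of k)) J)} (hc' : IsRigJac σ' hσ' J c')
  [IsProper J.hom] [Smooth J.hom] [GeometricallyIntegral J.hom] [IsCommMonObj J]
  {j : Over.mk (C ↘ Spec (CommRingCat.of k)) ⟶ J} (hj : IsAbel σ hσ c j)
  {j' : Over.mk (C' ↘ Spec (CommRingCat.of k)) ⟶ J} (hj' : IsAbel σ' hσ' c' j')
include hdim hdim' hf hf' hc hc' hj hj'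

/-- **The key step of Torelli's theorem.** -/
theorem exists_transl_eq_of_minimal {l r m : ℕ} (hn : l + 2 = Curv2.genus k C) (hn' : l + 2 = Curv2.genus k C')
    (hr : r + m = l + 1) (hm : 1 ≤ m) (c₁ : 𝟙_ (Over (Spec (CommRingCat.of k))) ⟶ J)
    (hW : ∀ t, pnt t ∈ WSet j (l + 1) ↔ pnt (t * c₁⁻¹) ∈ WSet j' (l + 1))
    (a : 𝟙_ (Over (Spec (CommRingCat.of k))) ⟶ J)
    (ha : ∀ q : CPt C', pnt ((q ≫ j') * a⁻¹) ∈ WSet j (r + 1))
    (hA : ∀ a' : 𝟙_ (Over (Spec (CommRingCat.of k))) ⟶ J, ¬ ∀ q : CPt C', pnt ((q ≫ j') * a') ∈ WSet j r)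
    (hB : ∀ a' : 𝟙_ (Over (Spec (CommRingCat.of k))) ⟶ J, ¬ ∀ q : CPt C', pnt (a' * (q ≫ j')⁻¹) ∈ WSet j r) :
    ∃ t : 𝟙_ (Over (Spec (CommRingCat.of k))) ⟶ J, WSet j' 1 = (Jac.transl J t).left.base '' WSet j 1 := by
  classical
  obtain ⟨κ, hκ⟩ := exists_kappa hdim hf hc (n := r + m) (by omega)
  obtain ⟨κ', hκ'⟩ := exists_kappa hdim' hf' hc' (n := l + 1) (by omega)
  let F : (𝟙_ (Over (Spec (CommRingCat.of k))) ⟶ J) → CPt C' → Prop := fun x q =>
    pnt ((q ≫ j') * a⁻¹ * x⁻¹) ∈ WSet j r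
  let G : (𝟙_ (Over (Spec (CommRingCat.of k))) ⟶ J) → CPt C' → Prop := fun y q =>
    pnt (κ * ((q ≫ j') * a⁻¹)⁻¹ * y⁻¹) ∈ WSet j (r + m - 1)
  let E : (𝟙_ (Over (Spec (CommRingCat.of k))) ⟶ J) → (𝟙_ (Over (Spec (CommRingCat.of k))) ⟶ J) →
      (𝟙_ (Over (Spec (CommRingCat.of k))) ⟶ J) := fun x y => a * x * y⁻¹ * c₁ * κ'
  -- good pairs
  let Good : (𝟙_ (Over (Spec (CommRingCat.of k))) ⟶ J) → (𝟙_ (Over (Spec (CommRingCat.of k))) ⟶ J) → Prop :=
    fun x y => (∃ q : CPt C', pnt ((q ≫ j') * a⁻¹ * x⁻¹ * y) ∉ WSet j (l + 1)) ∧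
      ∀ q q' : CPt C', F x q → F x q' → pnt (E x y * ((q ≫ j') * (q' ≫ j'))⁻¹) ∉ WSet j' l
  -- the divisor of a good pair
  have hdiv : ∀ x y, pnt x ∈ WSet j 1 → pnt y ∈ WSet j m → Good x y → ∃ D : Fin (l + 2) → CPt C',
      ∏ i, D i ≫ j' = E x y ∧ (∀ q, F x q ∨ G y q → ∃ i, q = D i) ∧ (∀ i, F x (D i) ∨ G y (D i)) ∧
      ∀ i i', F x (D i) → F x (D i') → i = i' := by
    intro x y hx hy hg
    obtain ⟨q₀, hq₀⟩ := hg.1
    let e := a * x * y⁻¹ * c₁
    have hmem : ∀ t, pnt (t * a⁻¹ * x⁻¹ * y) ∈ WSet j (l + 1) ↔ pnt (t * e⁻¹) ∈ WSet j' (l + 1) := fun t => by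
      rw [hW, show t * a⁻¹ * x⁻¹ * y * c₁⁻¹ = t * e⁻¹ by simp only [e, mul_inv_rev, inv_inv]; ac_rfl]
    obtain ⟨D₀, hD₀, hprod, huniq, -⟩ := exists_divisor_theta hdim' hf' hc' hj' (n := l) (by omega) κ' e hκ'
      ⟨_, isClosed_transl e (isClosed_WSet j' (l + 1))⟩ rfl (fun h => hq₀ ((hmem _).2 ((mem_transl e _ _).1
        (h ((mem_WSet_one j' (q₀ ≫ j')).2 ⟨q₀, rfl⟩)))))
    let D : Fin (l + 2) → CPt C' := fun i => pt (D₀ i) (hD₀ i)
    have hD : ∏ i, D i ≫ j' = E x y := hprod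
    have hmemD : ∀ q : CPt C', pnt ((q ≫ j') * a⁻¹ * x⁻¹ * y) ∈ WSet j (l + 1) ↔ ∃ i, q = D i := by
      intro q
      rw [hmem, ← mem_kappa hdim' hf' hc' hj' κ' (n := l + 1) (by omega) hκ', mem_WSet_iff]
      constructor
      · rintro ⟨v, hv⟩
        let D' : Fin (l + 2) → CPt C' := Fin.cons q v
        obtain ⟨s, hs⟩ := huniq (fun i => (D' i).left) (fun i => Over.w (D' i)) (by
          refine Eq.trans (?_ : _ = ∏ i, D' i ≫ j') ?_
          · exact Finset.prod_congr rfl fun i _ => congrArg (· ≫ j') (Over.OverMorphism.ext rfl)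
          rw [Fin.prod_univ_succ]
          simp only [D', Fin.cons_zero, Fin.cons_succ]
          rw [← hv]
          simp only [mul_inv_rev, inv_inv]
          calc (q ≫ j') * (κ' * (e * (q ≫ j')⁻¹)) = e * κ' * ((q ≫ j') * (q ≫ j')⁻¹) := by ac_rfl
            _ = _ := by rw [mul_inv_cancel, _root_.mul_one])
        refine ⟨s 0, Over.OverMorphism.ext ?_⟩
        have h0 := hs 0
        simp only [D', Fin.cons_zero] at h0
        exact h0
      · rintro ⟨i, rfl⟩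
        refine ⟨fun b => D (i.succAbove b), ?_⟩
        rw [Fin.prod_univ_succAbove _ i] at hD
        rw [show κ' * ((D i ≫ j') * e⁻¹)⁻¹ = E x y * (D i ≫ j')⁻¹ from torelli_a1 a x y c₁ κ' (D i ≫ j'),
          ← hD, mul_inv_cancel_comm]
    have hsplit : ∀ q : CPt C', pnt ((q ≫ j') * a⁻¹ * x⁻¹ * y) ∈ WSet j (l + 1) ↔ F x q ∨ G y q := by
      intro q
      have h := mem_split_iff hdim hf hc hj (r := r) (m := m) (by omega) hm hκ hx hy
        (fun h => hq₀ (by rw [← hr]; exact h _ (ha q₀))) ((q ≫ j') * a⁻¹)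
      rw [hr] at h
      simp only [F, G, hr]
      simp only [ha q, true_and] at h
      exact h
    refine ⟨D, hD, fun q hq => (hmemD q).1 ((hsplit q).2 hq), fun i => (hsplit _).1 ((hmemD _).2 ⟨i, rfl⟩),
      fun i i' hi hi' => ?_⟩
    by_contra hne
    refine hg.2 _ _ hi hi' ((mem_WSet_iff j' l _).2 ?_)
    obtain ⟨z, rfl⟩ := Fin.exists_succAbove_eq (Ne.symm hne)
    refine ⟨fun b => D (i.succAbove (z.succAbove b)), ?_⟩
    rw [← hD, Fin.prod_univ_succAbove _ i, Fin.prod_univ_succAbove _ z]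
    simp only [mul_inv_rev]
    calc _ = ((D i ≫ j') * (D i ≫ j')⁻¹) * ((D (i.succAbove z) ≫ j') * (D (i.succAbove z) ≫ j')⁻¹) *
          ∏ b, D (i.succAbove (z.succAbove b)) ≫ j' := by ac_rfl
      _ = _ := by rw [mul_inv_cancel, mul_inv_cancel, _root_.one_mul, _root_.one_mul]
  -- finiteness of the first piece
  have hFfin : ∀ x, {q | F x q}.Finite := fun x => by
    have h := finite_pts_mem j' hdim' (isClosed_transl (a * x) (isClosed_WSet j r)) (by
      by_contra hcon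
      push Not at hcon
      exact hA (a⁻¹ * x⁻¹) fun q => by
        have h := (mem_transl _ _ _).1 (hcon q)
        rwa [mul_inv_rev, mul_comm x⁻¹] at h)
    refine h.subset fun q hq => (mem_transl _ _ _).2 ?_
    rw [mul_inv_rev, mul_comm x⁻¹, ← mul_assoc]
    exact hq
  -- generic choice for finitely many points of the curve
  have hgen : ∀ X : Finset (𝟙_ (Over (Spec (CommRingCat.of k))) ⟶ J),
      ∃ y, pnt y ∈ WSet j m ∧ ∀ x ∈ X, Good x y := by
    intro X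
    let NG : (𝟙_ (Over (Spec (CommRingCat.of k))) ⟶ J) → Set J.left := fun x =>
      ⋂ q : CPt C', (Jac.transl J ((q ≫ j') * a⁻¹ * x⁻¹)⁻¹).left.base '' WSet j (l + 1)
    let B : (𝟙_ (Over (Spec (CommRingCat.of k))) ⟶ J) → CPt C' × CPt C' → Set J.left := fun x p =>
      (Jac.transl J (a * x * c₁ * κ' * ((p.1 ≫ j') * (p.2 ≫ j'))⁻¹)).left.base '' (((𝟙 J)⁻¹).left.base '' WSet j' l)
    obtain ⟨y, hy, hy'⟩ := exists_avoid (isIrreducible_WSet (j := j) m) (isClosed_WSet j m)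
      (X.sigma fun x => Finset.insertNone ((hFfin x).toFinset ×ˢ (hFfin x).toFinset))
      (fun p => p.2.elim (NG p.1) (B p.1)) (fun p _ => by
        rcases p with ⟨x, _ | p⟩
        · exact isClosed_iInter fun q => isClosed_transl _ (isClosed_WSet j _)
        · exact isClosed_transl _ (isClosed_inv (isClosed_WSet j' l))) (fun p hp => by
        rcases p with ⟨x, _ | ⟨q, q'⟩⟩
        · by_contra hcon
          push Not at hcon
          refine hA (a⁻¹ * x⁻¹) fun q => ?_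
          rw [← mul_assoc, ← forall_mem_iff hdim hf hc hj (r := m) (m := r) (n := l + 1) (by omega) (by omega)]
          intro v
          have h := (mem_transl _ _ _).1 (Set.mem_iInter.1 (hcon _ ((mem_WSet_iff j m _).2 ⟨v, rfl⟩)) q)
          rwa [inv_inv, mul_comm] at h
        · by_contra hcon
          push Not at hcon
          refine hB ((q ≫ j') * (q' ≫ j') * a⁻¹ * x⁻¹) fun p => ?_
          rw [← forall_mem_iff hdim hf hc hj (r := m) (m := r) (n := l + 1) (by omega) (by omega)]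
          intro v
          have h := (mem_inv _ _).1 ((mem_transl _ _ _).1 (hcon _ ((mem_WSet_iff j m _).2 ⟨v, rfl⟩)))
          obtain ⟨w, hw⟩ := (mem_WSet_iff j' l _).1 h
          have h' : pnt ((∏ i, v i ≫ j) * (a * x * c₁ * κ' * ((q ≫ j') * (q' ≫ j'))⁻¹)⁻¹)⁻¹ ∈ WSet j' l := h
          have hv : pnt ((∏ i, v i ≫ j)⁻¹ * (a * x * c₁ * κ' * ((q ≫ j') * (q' ≫ j'))⁻¹) * (p ≫ j')) ∈
              WSet j' (l + 1) := (mem_WSet_iff j' _ _).2 ⟨Fin.cons p w, by
                rw [Fin.prod_univ_succ]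
                simp only [Fin.cons_zero, Fin.cons_succ]
                rw [← hw]
                exact (torelli_a2 _ _ _).symm⟩
          rw [hW, ← mem_kappa hdim' hf' hc' hj' κ' (n := l + 1) (by omega) hκ']
          exact Eq.mp (congrArg (fun t => pnt t ∈ WSet j' (l + 1))
            (torelli_a3 a x c₁ κ' (q ≫ j') (q' ≫ j') (p ≫ j') (∏ i, v i ≫ j)).symm) hv)
    refine ⟨y, hy, fun x hx => ⟨?_, fun q q' hq hq' hmem => ?_⟩⟩
    · have h := hy' ⟨x, none⟩ (Finset.mem_sigma.2 ⟨hx, Finset.mem_insertNone.2 (by simp)⟩)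
      simp only [Option.elim, NG, Set.mem_iInter, not_forall] at h
      obtain ⟨q, hq⟩ := h
      refine ⟨q, fun hq' => hq ((mem_transl _ _ _).2 ?_)⟩
      rw [inv_inv, mul_comm]
      exact hq'
    · refine hy' ⟨x, some (q, q')⟩ (Finset.mem_sigma.2 ⟨hx, Finset.some_mem_insertNone.2 (Finset.mem_product.2
        ⟨(hFfin x).mem_toFinset.2 hq, (hFfin x).mem_toFinset.2 hq'⟩)⟩) ((mem_transl _ _ _).2 ((mem_inv _ _).2 ?_))
      exact Eq.mp (congrArg (fun t => pnt t ∈ WSet j' l)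
        (torelli_a4 a x y c₁ κ' (q ≫ j') (q' ≫ j')).symm) hmem
  -- at most one point in the first piece
  have hone : ∀ x, pnt x ∈ WSet j 1 → ∀ q q', F x q → F x q' → q = q' := by
    intro x hx q q' hq hq'
    obtain ⟨y, hy, hg⟩ := hgen {x}
    obtain ⟨D, -, hmem, -, huni⟩ := hdiv x y hx hy (hg x (Finset.mem_singleton_self x))
    obtain ⟨i, rfl⟩ := hmem q (Or.inl hq)
    obtain ⟨i', rfl⟩ := hmem q' (Or.inl hq')
    rw [huni i i' hq hq']
  -- all but finitely many points meet the first piece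
  have hempty : {x : 𝟙_ (Over (Spec (CommRingCat.of k))) ⟶ J | pnt x ∈ WSet j 1 ∧ ∀ q, ¬ F x q}.Finite := by
    by_contra hinf
    obtain ⟨X, hX, hXc⟩ := Set.Infinite.exists_subset_card_eq hinf ((l + 2) ^ (l + 2) + 1)
    obtain ⟨y, hy, hg⟩ := hgen X
    obtain ⟨x₀, hx₀⟩ : X.Nonempty := Finset.card_pos.1 (by omega)
    obtain ⟨D₀, -, hmem₀, -, -⟩ := hdiv x₀ y (hX hx₀).1 hy (hg x₀ hx₀)
    have hex : ∀ x ∈ X, ∃ φ : Fin (l + 2) → Fin (l + 2), ∏ i, D₀ (φ i) ≫ j' = E x y := fun x hx => by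
      obtain ⟨D, hD, -, hFG, -⟩ := hdiv x y (hX hx).1 hy (hg x hx)
      choose φ hφ using fun i => hmem₀ (D i) (Or.inr ((hFG i).resolve_left ((hX hx).2 _)))
      exact ⟨φ, by rw [← hD]; exact Finset.prod_congr rfl fun i _ => by rw [← hφ i]⟩
    let Φ : (𝟙_ (Over (Spec (CommRingCat.of k))) ⟶ J) → (Fin (l + 2) → Fin (l + 2)) := fun x =>
      if h : x ∈ X then (hex x h).choose else id
    obtain ⟨x, hx, x', hx', hne, heq⟩ := Finset.exists_ne_map_eq_of_card_lt_of_maps_to (t := Finset.univ)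
      (by rw [hXc, Finset.card_univ, Fintype.card_fun, Fintype.card_fin]; omega) (fun x _ => Finset.mem_univ (Φ x))
    simp only [Φ, dif_pos hx, dif_pos hx'] at heq
    have e : E x y = E x' y := by
      rw [← (hex x hx).choose_spec, ← (hex x' hx').choose_spec, heq]
    exact hne (mul_left_cancel (mul_right_cancel (mul_right_cancel (mul_right_cancel e))))
  -- the differences take finitely many values
  let A : Set (𝟙_ (Over (Spec (CommRingCat.of k))) ⟶ J) := {x | pnt x ∈ WSet j 1 ∧ ∃ q, F x q}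
  let T : Set (𝟙_ (Over (Spec (CommRingCat.of k))) ⟶ J) := {t | ∃ x q, pnt x ∈ WSet j 1 ∧ F x q ∧ x * (q ≫ j')⁻¹ = t}
  have hT : T.Finite := by
    by_contra hinf
    obtain ⟨S, hS, hSc⟩ := Set.Infinite.exists_subset_card_eq hinf ((l + 2) ^ (l + 1) + 1)
    choose xf qf hxf hqf htf using fun t : S => hS t.2
    obtain ⟨y, hy, hg⟩ := hgen (Finset.univ.image xf)
    obtain ⟨t₀, ht₀⟩ : S.Nonempty := Finset.card_pos.1 (by omega)
    obtain ⟨D₀, -, hmem₀, -, -⟩ := hdiv _ y (hxf ⟨t₀, ht₀⟩) hy (hg _ (Finset.mem_image_of_mem _ (Finset.mem_univ _)))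
    have hex : ∀ t : S, ∃ φ : Fin (l + 1) → Fin (l + 2), (∏ i, D₀ (φ i) ≫ j') * (qf t ≫ j') = E (xf t) y := fun t => by
      obtain ⟨D, hD, hmem, hFG, huni⟩ := hdiv _ y (hxf t) hy (hg _ (Finset.mem_image_of_mem _ (Finset.mem_univ t)))
      obtain ⟨i₀, hi₀⟩ := hmem _ (Or.inl (hqf t))
      choose φ hφ using fun b => hmem₀ (D (i₀.succAbove b)) (Or.inr ((hFG _).resolve_left fun h =>
        Fin.succAbove_ne i₀ b (huni _ i₀ h (hi₀ ▸ hqf t))))
      refine ⟨φ, ?_⟩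
      rw [← hD, Fin.prod_univ_succAbove _ i₀, hi₀, mul_comm]
      exact congrArg (_ * ·) (Finset.prod_congr rfl fun b _ => by rw [← hφ b])
    choose Φ hΦ using hex
    obtain ⟨t, -, t', -, hne, heq⟩ := Finset.exists_ne_map_eq_of_card_lt_of_maps_to (s := (Finset.univ : Finset S))
      (t := Finset.univ) (by rw [Finset.card_univ, Finset.card_univ, Fintype.card_coe, hSc, Fintype.card_fun,
        Fintype.card_fin, Fintype.card_fin]; omega) (fun x _ => Finset.mem_univ (Φ x))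
    refine hne (Subtype.ext ?_)
    have key : ∀ s : S, (∏ i, D₀ (Φ s i) ≫ j') * (a * y⁻¹ * c₁ * κ')⁻¹ = (s : _ ⟶ J) := fun s => by
      rw [← htf s]
      have h := hΦ s
      rw [← eq_mul_inv_iff_mul_eq] at h
      rw [h]
      simp only [E, mul_inv_rev, inv_inv]
      calc _ = xf s * (qf s ≫ j')⁻¹ * ((a * a⁻¹) * (y * y⁻¹) * (c₁ * c₁⁻¹) * (κ' * κ'⁻¹)) := by ac_rfl
        _ = _ := by rw [mul_inv_cancel, mul_inv_cancel, mul_inv_cancel, mul_inv_cancel, _root_.one_mul,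
              _root_.one_mul, _root_.one_mul, _root_.mul_one]
    rw [← key t, ← key t', heq]
  -- a value taken infinitely often
  haveI := isClosedImmersion_abel hf hc hj (by omega)
  have hjinj : Function.Injective fun u : CPt C => u ≫ j := fun u v e =>
    Over.OverMorphism.ext ((cancel_mono j.left).1 (congrArg CommaMorphism.left e))
  have hAinf : {u : CPt C | ∃ q, F (u ≫ j) q}.Infinite := by
    intro hfin
    refine infinite_pts (C := C) hdim ((hfin.union (hempty.preimage hjinj.injOn)).subset fun u _ => ?_)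
    by_cases h : ∃ q, F (u ≫ j) q
    · exact Or.inl h
    · exact Or.inr ⟨(mem_WSet_one j _).2 ⟨u, rfl⟩, not_exists.1 h⟩
  obtain ⟨t, -, ht⟩ : ∃ t ∈ T, {u : CPt C | ∃ q, F (u ≫ j) q ∧ (u ≫ j) * (q ≫ j')⁻¹ = t}.Infinite := by
    by_contra hcon
    push Not at hcon
    exact hAinf ((hT.biUnion hcon).subset fun u ⟨q, hq⟩ =>
      Set.mem_biUnion (show (u ≫ j) * (q ≫ j')⁻¹ ∈ T from ⟨_, q, (mem_WSet_one j _).2 ⟨u, rfl⟩, hq, rfl⟩) ⟨q, hq, rfl⟩)
  refine ⟨t⁻¹, ?_⟩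
  have h1 : ∀ u : CPt C, pnt ((u ≫ j) * t⁻¹) ∈ WSet j' 1 := by
    intro u
    by_contra hu
    refine ht ((finite_pts_mem j hdim (isClosed_transl t (isClosed_WSet j' 1))
      ⟨u, fun h => hu ((mem_transl _ _ _).1 h)⟩).subset fun v hv => ?_)
    obtain ⟨q, -, rfl⟩ := hv
    refine (mem_transl _ _ _).2 ((mem_WSet_one j' _).2 ⟨q, ?_⟩)
    rw [mul_inv_rev, inv_inv, mul_comm (q ≫ j'), ← mul_assoc, mul_inv_cancel, _root_.one_mul]
  refine eq_of_points (isClosed_WSet j' 1) (isClosed_transl _ (isClosed_WSet j 1)) fun z => ⟨fun hz => ?_, fun hz => ?_⟩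
  · obtain ⟨q₁, rfl⟩ := (mem_WSet_one j' z).1 hz
    by_contra hq
    refine ht (Set.Finite.of_finite_image ((((finite_pts_mem j' hdim' (isClosed_transl t⁻¹ (isClosed_WSet j 1))
      ⟨q₁, hq⟩)).image fun q => (q ≫ j') * t).subset ?_) hjinj.injOn)
    rintro _ ⟨u, ⟨q, -, e⟩, rfl⟩
    have e' : (q ≫ j') * t = u ≫ j := by
      rw [← e, mul_comm (u ≫ j), ← mul_assoc, mul_inv_cancel, _root_.one_mul]
    refine ⟨q, (mem_transl _ _ _).2 ?_, e'⟩
    rw [inv_inv, e']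
    exact (mem_WSet_one j _).2 ⟨u, rfl⟩
  · rw [mem_transl, inv_inv] at hz
    obtain ⟨u, hu⟩ := (mem_WSet_one j _).1 hz
    rw [eq_mul_inv_of_mul_eq hu]
    exact h1 u

end JacAlbLib

end
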