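import Groth.Agent.JacAlbLib.ThetaAlg
import Groth.Agent.JacAlbLib.ThetaDivisor
import Groth.Agent.CurveFFLib.Auto
import Groth.Agent.SerreVanLib.CurveAmple

/-!
# Transport of Abel images and finiteness of their intersections
-/

set_option autoImplicit false
set_option linter.style.haveILetI false
set_option linter.unusedSectionVars false
set_option backward.isDefEq.respectTransparency false
set_option backward.isDefEq.respectTransparency.types false
set_option maxRecDepth 8000
set_option maxHeartbeats 1000000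

universe u

open CategoryTheory CategoryTheory.Limits AlgebraicGeometry TopologicalSpace MonoidalCategory CartesianMonoidalCategory
open CubeConsLib (pull pull_comp pull_cl cl cl_eq_iff cl_tensor IsoCls)
open EllLawLib (idCls)
open PicCurveLib SymProd
open scoped MonObj

noncomputable section

namespace JacAlbLib

section Transport

variable {C S : Scheme.{u}} {f : C ⟶ S} [IsProper f] [Flat f] [LocallyOfFinitePresentation f] (hf : Fam f)
  {σ : S ⟶ C} {hσ : σ ≫ f = 𝟙 S} {J J₁ : Over S} [GrpObj J] [GrpObj J₁] {c : IsoCls (PicF.XT f J)}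
  (e : J₁ ≅ J) [IsMonHom e.hom]
include hf

/-- Transport of the universal class along an isomorphism of groups. -/
theorem isRigJac_of_iso (hc : IsRigJac σ hσ J c) : IsRigJac σ hσ J₁ (pull (PicF.XTmap f e.hom) c) := by
  refine ⟨rigZero_pull hf σ hσ e.hom hc.rigZero, fun T d hd => ?_, fun T g h => ?_⟩
  · obtain ⟨g, hg, hu⟩ := hc.bij T d hd
    refine ⟨g ≫ e.inv, ?_, fun g' hg' => ?_⟩
    · show pull (PicF.XTmap f (g ≫ e.inv)) (pull (PicF.XTmap f e.hom) c) = d
      rw [pull_comp, DescAppLib.XTmap_comp, Category.assoc, Iso.inv_hom_id, Category.comp_id, hg]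
    · have hg'' : pull (PicF.XTmap f (g' ≫ e.hom)) c = d := by
        rw [← DescAppLib.XTmap_comp, ← pull_comp]; exact hg'
      rw [← hu _ hg'', Category.assoc, Iso.hom_inv_id, Category.comp_id]
  · rw [pull_comp, pull_comp, pull_comp, DescAppLib.XTmap_comp, DescAppLib.XTmap_comp, DescAppLib.XTmap_comp,
      MonObj.mul_comp, hc.mul]

omit [IsProper f] [Flat f] [LocallyOfFinitePresentation f] [IsMonHom e.hom] hf in
/-- Transport of an Abel map. -/
theorem isAbel_of_iso {j : Over.mk f ⟶ J} (hj : IsAbel σ hσ c j) :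
    IsAbel σ hσ (pull (PicF.XTmap f e.hom) c) (j ≫ e.inv) := by
  refine ⟨fun T x => ?_⟩
  rw [pull_comp, DescAppLib.XTmap_comp, Category.assoc, Category.assoc, Iso.inv_hom_id, Category.comp_id]
  exact hj.rel T x

end Transport

variable {k : Type u} [Field k] {C : Scheme.{u}} [C.Over (Spec (CommRingCat.of k))]

theorem list_prod_comp {T A B : Over (Spec (CommRingCat.of k))} [GrpObj A] [GrpObj B] (φ : A ⟶ B) [IsMonHom φ] :
    ∀ l : List (T ⟶ A), l.prod ≫ φ = (l.map (· ≫ φ)).prod
  | [] => by rw [List.map_nil, List.prod_nil, List.prod_nil, MonObj.one_comp]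
  | a :: l => by rw [List.map_cons, List.prod_cons, List.prod_cons, MonObj.mul_comp, list_prod_comp φ l]

/-- Abel images along a homomorphism. -/
theorem WSet_comp {A B : Over (Spec (CommRingCat.of k))} [GrpObj A] [GrpObj B] (φ : A ⟶ B) [IsMonHom φ]
    (j : Over.mk (C ↘ Spec (CommRingCat.of k)) ⟶ A) (r : ℕ) : WSet (j ≫ φ) r = φ.left.base '' WSet j r := by
  have h : Wmap (j ≫ φ) r = Wmap j r ≫ φ := by
    rw [Wmap, Wmap, list_prod_comp, List.map_ofFn]
    exact congrArg (fun g => (List.ofFn g).prod) (funext fun i => (Category.assoc _ _ _).symm)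
  show Set.range (Wmap (j ≫ φ) r).left.base = _
  rw [h, Over.comp_left, Scheme.Hom.comp_base, TopCat.coe_comp, Set.range_comp]

variable [IsAlgClosed k] [IsProper (C ↘ Spec (CommRingCat.of k))] [Smooth (C ↘ Spec (CommRingCat.of k))]
  [GeometricallyConnected (C ↘ Spec (CommRingCat.of k))]
  {J : Over (Spec (CommRingCat.of k))} [GrpObj J] [IsProper J.hom] [IsCommMonObj J]
  (j : Over.mk (C ↘ Spec (CommRingCat.of k)) ⟶ J)

theorem isClosed_range_abel : IsClosed (Set.range j.left.base) := by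
  haveI : IsProper (j.left ≫ J.hom) := by rw [Over.w j]; exact inferInstanceAs (IsProper (C ↘ Spec (CommRingCat.of k)))
  haveI : IsProper j.left := IsProper.of_comp _ J.hom
  exact j.left.isClosedMap.isClosed_range

theorem mem_WSet_one (t : 𝟙_ (Over (Spec (CommRingCat.of k))) ⟶ J) :
    pnt t ∈ WSet j 1 ↔ ∃ u : 𝟙_ (Over (Spec (CommRingCat.of k))) ⟶ Over.mk (C ↘ Spec (CommRingCat.of k)), t = u ≫ j := by
  rw [mem_WSet_iff]
  exact ⟨fun ⟨v, hv⟩ => ⟨v 0, hv.trans (Fin.prod_univ_one _)⟩, fun ⟨u, hu⟩ => ⟨fun _ => u, hu.trans (Fin.prod_univ_one (fun i : Fin 1 => (fun _ => u) i ≫ j)).symm⟩⟩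

theorem range_abel : Set.range j.left.base = WSet j 1 := by
  refine eq_of_points (isClosed_range_abel j) (isClosed_WSet j 1) fun t => ?_
  rw [mem_WSet_one]
  constructor
  · intro ht
    haveI : JacobsonSpace C := LocallyOfFiniteType.jacobsonSpace (C ↘ Spec (CommRingCat.of k))
    haveI : JacobsonSpace (Over.mk (C ↘ Spec (CommRingCat.of k))).left := inferInstanceAs (JacobsonSpace C)
    have hcl : IsClosed (j.left.base ⁻¹' {pnt t}) :=
      ((pointEquivClosedPoint J.hom) ⟨t.left, Over.w t⟩).2.preimage j.left.continuous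
    obtain ⟨p, hp⟩ := ht
    obtain ⟨q, hq, hqc⟩ := nonempty_inter_closedPoints (Z := j.left.base ⁻¹' {pnt t}) ⟨p, hp⟩ hcl.isLocallyClosed
    haveI : LocallyOfFiniteType (Over.mk (C ↘ Spec (CommRingCat.of k))).hom :=
      inferInstanceAs (LocallyOfFiniteType (C ↘ Spec (CommRingCat.of k)))
    obtain ⟨u, hu⟩ := exists_pnt (J := Over.mk (C ↘ Spec (CommRingCat.of k))) (mem_closedPoints_iff.1 hqc)
    refine ⟨u, eq_of_pnt ?_⟩
    show pnt t = j.left.base (pnt u)
    rw [hu]
    exact (show j.left.base q = pnt t from hq).symm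
  · rintro ⟨u, rfl⟩
    exact ⟨pnt u, rfl⟩

omit [GrpObj J] [IsCommMonObj J] in
/-- A closed set either contains the curve or finitely many of its points. -/
theorem finite_pts_mem (hdim : topologicalKrullDim ↥C = 1) {Z : Set J.left} (hZ : IsClosed Z)
    (hne : ∃ u : 𝟙_ (Over (Spec (CommRingCat.of k))) ⟶ Over.mk (C ↘ Spec (CommRingCat.of k)), pnt (u ≫ j) ∉ Z) :
    {u : 𝟙_ (Over (Spec (CommRingCat.of k))) ⟶ Over.mk (C ↘ Spec (CommRingCat.of k)) | pnt (u ≫ j) ∈ Z}.Finite := by
  haveI := FibVALib.geometricallyIntegral_of_geometricallyConnected (C ↘ Spec (CommRingCat.of k))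
  haveI : IsIntegral C := GeometricallyIntegral.isIntegral_of_subsingleton (C ↘ Spec (CommRingCat.of k))
  haveI : LocallyOfFiniteType (Over.mk (C ↘ Spec (CommRingCat.of k))).hom :=
    inferInstanceAs (LocallyOfFiniteType (C ↘ Spec (CommRingCat.of k)))
  obtain ⟨u₀, hu₀⟩ := hne
  have h := (SerreVanLib.proper_closed_finite k hdim (hZ.preimage j.left.continuous)
    fun h => hu₀ (Set.mem_preimage.1 (h.ge (Set.mem_univ (pnt u₀))))).1
  exact Set.Finite.of_finite_image (h.subset (Set.image_subset_iff.2 fun u hu => hu))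
    (fun u _ v _ e => eq_of_pnt (J := Over.mk (C ↘ Spec (CommRingCat.of k))) e)

omit [GrpObj J] [IsCommMonObj J] [IsProper J.hom] in
/-- A curve has infinitely many rational points. -/
theorem infinite_pts (hdim : topologicalKrullDim ↥C = 1) :
    (Set.univ : Set (𝟙_ (Over (Spec (CommRingCat.of k))) ⟶ Over.mk (C ↘ Spec (CommRingCat.of k)))).Infinite := by
  haveI := FibVALib.geometricallyIntegral_of_geometricallyConnected (C ↘ Spec (CommRingCat.of k))
  haveI : IsIntegral C := GeometricallyIntegral.isIntegral_of_subsingleton (C ↘ Spec (CommRingCat.of k))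
  haveI : LocallyOfFiniteType (Over.mk (C ↘ Spec (CommRingCat.of k))).hom :=
    inferInstanceAs (LocallyOfFiniteType (C ↘ Spec (CommRingCat.of k)))
  intro hfin
  refine CurveFFLib.infinite_closed (k := k) hdim ((hfin.image fun u => pnt u).subset fun p hp => ?_)
  obtain ⟨u, hu⟩ := exists_pnt (J := Over.mk (C ↘ Spec (CommRingCat.of k))) hp
  exact ⟨u, Set.mem_univ _, hu⟩

/-- An irreducible closed set is not covered by finitely many closed sets missing some of its points. -/
theorem exists_avoid {W : Set J.left} (hW : IsIrreducible W) (hWc : IsClosed W) {α : Type*} (s : Finset α)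
    (Z : α → Set J.left) (hZ : ∀ a ∈ s, IsClosed (Z a))
    (h : ∀ a ∈ s, ∃ t : 𝟙_ (Over (Spec (CommRingCat.of k))) ⟶ J, pnt t ∈ W ∧ pnt t ∉ Z a) :
    ∃ t : 𝟙_ (Over (Spec (CommRingCat.of k))) ⟶ J, pnt t ∈ W ∧ ∀ a ∈ s, pnt t ∉ Z a := by
  classical
  by_contra hcon
  push Not at hcon
  have hcl : IsClosed (⋃₀ (↑(s.image Z) : Set (Set J.left))) := by
    rw [Set.sUnion_eq_biUnion]
    refine (s.image Z).finite_toSet.isClosed_biUnion fun z hz => ?_
    obtain ⟨a, ha, rfl⟩ := Finset.mem_image.1 hz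
    exact hZ a ha
  have hsub : W ⊆ ⋃₀ ↑(s.image Z) := subset_of_points hWc hcl fun t ht => by
    obtain ⟨a, ha, hta⟩ := hcon t ht
    exact ⟨Z a, Finset.mem_coe.2 (Finset.mem_image_of_mem Z ha), hta⟩
  obtain ⟨z, hz, hWz⟩ := isIrreducible_iff_sUnion_isClosed.1 hW (s.image Z) (fun z hz => by
    obtain ⟨a, ha, rfl⟩ := Finset.mem_image.1 hz
    exact hZ a ha) hsub
  obtain ⟨a, ha, rfl⟩ := Finset.mem_image.1 hz
  obtain ⟨t, ht, hta⟩ := h a ha
  exact hta (hWz ht)

end JacAlbLib

end
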