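import Groth.Agent.JacAlbLib.Torelli
import Groth.Agent.AlgSpRegLib.ImageReduced

/-!
# Torelli's theorem over an algebraically closed field
-/

set_option autoImplicit false
set_option linter.style.haveILetI false
set_option linter.unusedSectionVars false
set_option backward.isDefEq.respectTransparency false
set_option backward.isDefEq.respectTransparency.types false
set_option maxRecDepth 8000
set_option maxHeartbeats 1000000

universe u

open CategoryTheory CategoryTheory.Limits AlgebraicGeometry TopologicalSpace MonoidalCategory CartesianMonoidalCategory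
open CubeConsLib (pull pull_comp pull_cl cl cl_eq_iff cl_tensor IsoCls)
open EllLawLib (idCls)
open PicCurveLib SymProd
open scoped MonObj

noncomputable section

namespace JacAlbLib

/-- Closed immersions of reduced schemes with the same image differ by an isomorphism. -/
theorem exists_iso_of_range_eq {X Y Z : Scheme.{u}} (f : X ⟶ Z) (g : Y ⟶ Z) [IsClosedImmersion f]
    [IsClosedImmersion g] [IsReduced X] [IsReduced Y] (h : Set.range f.base = Set.range g.base) :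
    ∃ α : X ≅ Y, α.hom ≫ g = f := by
  have e : f.ker = g.ker := by
    rw [AlgSpRegLib.ker_eq_vanishingIdeal f, AlgSpRegLib.ker_eq_vanishingIdeal g]
    exact congrArg (fun s => Scheme.IdealSheafData.vanishingIdeal (Closeds.closure s)) h
  refine ⟨⟨IsClosedImmersion.lift g f e.ge, IsClosedImmersion.lift f g e.le, ?_, ?_⟩, IsClosedImmersion.lift_fac _ _ _⟩
  · rw [← cancel_mono f, Category.assoc, IsClosedImmersion.lift_fac, IsClosedImmersion.lift_fac, Category.id_comp]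
  · rw [← cancel_mono g, Category.assoc, IsClosedImmersion.lift_fac, IsClosedImmersion.lift_fac, Category.id_comp]

variable {k : Type u} [Field k] [IsAlgClosed k]
  {C C' : Scheme.{u}} [C.Over (Spec (CommRingCat.of k))] [C'.Over (Spec (CommRingCat.of k))]
  [IsProper (C ↘ Spec (CommRingCat.of k))] [Smooth (C ↘ Spec (CommRingCat.of k))]
  [GeometricallyConnected (C ↘ Spec (CommRingCat.of k))]
  [IsProper (C' ↘ Spec (CommRingCat.of k))] [Smooth (C' ↘ Spec (CommRingCat.of k))]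
  [GeometricallyConnected (C' ↘ Spec (CommRingCat.of k))]
  (hdim : topologicalKrullDim ↥C = 1) (hdim' : topologicalKrullDim ↥C' = 1)
  (hf : Fam (C ↘ Spec (CommRingCat.of k))) (hf' : Fam (C' ↘ Spec (CommRingCat.of k)))
  {σ : Spec (CommRingCat.of k) ⟶ C} {hσ : σ ≫ (C ↘ Spec (CommRingCat.of k)) = 𝟙 _}
  {σ' : Spec (CommRingCat.of k) ⟶ C'} {hσ' : σ' ≫ (C' ↘ Spec (CommRingCat.of k)) = 𝟙 _}
  {J : Over (Spec (CommRingCat.of k))} [GrpObj J]
  {c : IsoCls (PicF.XT (C ↘ Spec (CommRingCat.of k)) J)} (hc : IsRigJac σ hσ J c)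
  {c' : IsoCls (PicF.XT (C' ↘ Spec (CommRingCat.of k)) J)} (hc' : IsRigJac σ' hσ' J c')
  [IsProper J.hom] [Smooth J.hom] [GeometricallyIntegral J.hom] [IsCommMonObj J]
  {j : Over.mk (C ↘ Spec (CommRingCat.of k)) ⟶ J} (hj : IsAbel σ hσ c j)
  {j' : Over.mk (C' ↘ Spec (CommRingCat.of k)) ⟶ J} (hj' : IsAbel σ' hσ' c' j')
include hdim hdim' hf hf' hc hc' hj hj'

/-- **Torelli.** Curves with translated theta divisors are translates of each other, up to sign. -/
theorem exists_transl_eq_or {l : ℕ} (hn : l + 2 = Curv2.genus k C) (hn' : l + 2 = Curv2.genus k C')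
    (c₁ : 𝟙_ (Over (Spec (CommRingCat.of k))) ⟶ J)
    (hW : ∀ t, pnt t ∈ WSet j (l + 1) ↔ pnt (t * c₁⁻¹) ∈ WSet j' (l + 1)) :
    ∃ (t : 𝟙_ (Over (Spec (CommRingCat.of k))) ⟶ J) (s : ℤ), (s = 1 ∨ s = -1) ∧
      WSet j' 1 = (Jac.transl J t).left.base '' WSet (j ≫ (𝟙 J) ^ s) 1 := by
  classical
  let P : ℕ → Prop := fun r => ∃ a : 𝟙_ (Over (Spec (CommRingCat.of k))) ⟶ J,
    (∀ q : CPt C', pnt ((q ≫ j') * a⁻¹) ∈ WSet j (r + 1)) ∨
      (∀ q : CPt C', pnt ((q ≫ j') * a⁻¹)⁻¹ ∈ WSet j (r + 1))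
  have hPl : P l := by
    obtain ⟨q₀, -⟩ := (infinite_pts (k := k) (C := C') hdim').nonempty
    refine ⟨((∏ _i : Fin l, q₀ ≫ j') * c₁)⁻¹, Or.inl fun q => ?_⟩
    rw [hW, inv_inv, ← mul_assoc, mul_inv_cancel_right, mem_WSet_iff]
    exact ⟨Fin.cons q fun _ => q₀, by rw [Fin.prod_univ_succ]; simp only [Fin.cons_zero, Fin.cons_succ]⟩
  obtain ⟨r, hrP, hrmin⟩ : ∃ r, P r ∧ ∀ s < r, ¬ P s := ⟨Nat.find ⟨l, hPl⟩, Nat.find_spec ⟨l, hPl⟩, fun s hs => Nat.find_min ⟨l, hPl⟩ hs⟩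
  have hrl : r ≤ l := not_lt.1 fun h => hrmin l h hPl
  haveI := isClosedImmersion_abel hf' hc' hj' (by omega)
  have h0 : ∀ a' : 𝟙_ (Over (Spec (CommRingCat.of k))) ⟶ J, (∀ q : CPt C', pnt ((q ≫ j') * a') ∈ WSet j 0) → False := by
    intro a' h
    have hinj : Function.Injective fun u : CPt C' => u ≫ j' := fun u v e =>
      Over.OverMorphism.ext ((cancel_mono j'.left).1 (congrArg CommaMorphism.left e))
    refine infinite_pts (k := k) (C := C') hdim' (Set.Subsingleton.finite fun u _ v _ => hinj ?_)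
    obtain ⟨_, hu⟩ := (mem_WSet_iff j 0 _).1 (h u)
    obtain ⟨_, hv⟩ := (mem_WSet_iff j 0 _).1 (h v)
    rw [Fin.prod_univ_zero, mul_eq_one_iff_eq_inv] at hu hv
    exact hu.trans hv.symm
  have hA : ∀ a' : 𝟙_ (Over (Spec (CommRingCat.of k))) ⟶ J, ¬ ∀ q : CPt C', pnt ((q ≫ j') * a') ∈ WSet j r := by
    intro a' h
    rcases r with _ | s
    · exact h0 a' h
    · exact hrmin s (by omega) ⟨a'⁻¹, Or.inl fun q => by rw [inv_inv]; exact h q⟩
  have hB : ∀ a' : 𝟙_ (Over (Spec (CommRingCat.of k))) ⟶ J, ¬ ∀ q : CPt C', pnt (a' * (q ≫ j')⁻¹) ∈ WSet j r := by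
    intro a' h
    rcases r with _ | s
    · refine h0 a'⁻¹ fun q => ?_
      obtain ⟨v, hv⟩ := (mem_WSet_iff j 0 _).1 (h q)
      refine (mem_WSet_iff j 0 _).2 ⟨v, ?_⟩
      rw [Fin.prod_univ_zero] at hv ⊢
      rw [← inv_eq_one, mul_inv_rev, inv_inv]
      exact hv
    · exact hrmin s (by omega) ⟨a', Or.inr fun q => by rw [mul_inv_rev, inv_inv]; exact h q⟩
  obtain ⟨a, ha | ha⟩ := hrP
  · obtain ⟨t, ht⟩ := exists_transl_eq_of_minimal hdim hdim' hf hf' hc hc' hj hj' (r := r) (m := l + 1 - r) hn hn'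
      (by omega) (by omega) c₁ hW a ha hA hB
    exact ⟨t, 1, Or.inl rfl, by rw [zpow_one, Category.comp_id]; exact ht⟩
  · obtain ⟨κ, hκ⟩ := exists_kappa hdim hf hc (n := l + 1) (by omega)
    let e : J ≅ J := ⟨(𝟙 J)⁻¹, (𝟙 J)⁻¹, inv_comp_inv, inv_comp_inv⟩
    haveI : IsMonHom e.hom := inferInstanceAs (IsMonHom (𝟙 J : J ⟶ J)⁻¹)
    have hc₁ := isRigJac_of_iso hf e hc
    have hj₁ : IsAbel σ hσ (pull (PicF.XTmap (C ↘ Spec (CommRingCat.of k)) e.hom) c) (j ≫ (𝟙 J)⁻¹) :=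
      isAbel_of_iso e hj
    have hmem : ∀ (n : ℕ) (z : 𝟙_ (Over (Spec (CommRingCat.of k))) ⟶ J),
        pnt z ∈ WSet (j ≫ (𝟙 J)⁻¹) n ↔ pnt z⁻¹ ∈ WSet j n := fun n z => by
      rw [WSet_comp, mem_inv]
    obtain ⟨t, ht⟩ := exists_transl_eq_of_minimal hdim hdim' hf hf' hc₁ hc' hj₁ hj' (r := r) (m := l + 1 - r) hn hn'
      (by omega) (by omega) (κ⁻¹ * c₁) (fun z => by
        rw [hmem, ← mem_kappa hdim hf hc hj κ (n := l + 1) (by omega) hκ z⁻¹, inv_inv, hW,
          mul_inv_rev, inv_inv, ← mul_assoc z, mul_right_comm z, mul_comm κ z])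
      a (fun q => by rw [hmem]; exact ha q)
      (fun a' h => hB a'⁻¹ fun q => by
        have h' := h q
        rwa [hmem, mul_inv_rev] at h')
      (fun a' h => hA a'⁻¹ fun q => by
        have h' := h q
        rwa [hmem, mul_inv_rev, inv_inv] at h')
    exact ⟨t, -1, Or.inr rfl, by rw [zpow_neg, zpow_one]; exact ht⟩

/-- The isomorphism of curves. -/
theorem exists_iso_of_theta {l : ℕ} (hn : l + 2 = Curv2.genus k C) (hn' : l + 2 = Curv2.genus k C')
    (c₁ : 𝟙_ (Over (Spec (CommRingCat.of k))) ⟶ J)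
    (hW : ∀ t, pnt t ∈ WSet j (l + 1) ↔ pnt (t * c₁⁻¹) ∈ WSet j' (l + 1)) :
    ∃ (α : C ≅ C') (hα : α.hom ≫ (C' ↘ Spec (CommRingCat.of k)) = (C ↘ Spec (CommRingCat.of k)))
      (t : 𝟙_ (Over (Spec (CommRingCat.of k))) ⟶ J) (s : ℤ), (s = 1 ∨ s = -1) ∧
      Over.homMk α.hom hα ≫ j' = j ^ s * (toUnit (Over.mk (C ↘ Spec (CommRingCat.of k))) ≫ t) := by
  obtain ⟨t, s, hs, h⟩ := exists_transl_eq_or hdim hdim' hf hf' hc hc' hj hj' hn hn' c₁ hW
  haveI := isClosedImmersion_abel hf' hc' hj' (by omega)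
  haveI := isClosedImmersion_abel hf hc hj (by omega)
  let φ : Over.mk (C ↘ Spec (CommRingCat.of k)) ⟶ J := (j ≫ (𝟙 J) ^ s) ≫ Jac.transl J t
  have hinv : IsIso ((𝟙 J : J ⟶ J) ^ s).left := by
    rcases hs with rfl | rfl
    · rw [zpow_one]; infer_instance
    · refine ⟨((𝟙 J : J ⟶ J) ^ (-1 : ℤ)).left, ?_, ?_⟩ <;>
      · rw [← Over.comp_left, zpow_neg, zpow_one, inv_comp_inv]; rfl
  haveI : IsIso (Jac.transl J t).left :=
    ⟨(Jac.transl J t⁻¹).left, by rw [← Over.comp_left, transl_inv_hom]; rfl, by rw [← Over.comp_left, transl_inv_hom']; rfl⟩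
  haveI : IsClosedImmersion φ.left := by
    show IsClosedImmersion ((j.left ≫ ((𝟙 J : J ⟶ J) ^ s).left) ≫ (Jac.transl J t).left)
    infer_instance
  haveI := FibVALib.geometricallyIntegral_of_geometricallyConnected (C ↘ Spec (CommRingCat.of k))
  haveI := FibVALib.geometricallyIntegral_of_geometricallyConnected (C' ↘ Spec (CommRingCat.of k))
  haveI : IsIntegral C := GeometricallyIntegral.isIntegral_of_subsingleton (C ↘ Spec (CommRingCat.of k))
  haveI : IsIntegral C' := GeometricallyIntegral.isIntegral_of_subsingleton (C' ↘ Spec (CommRingCat.of k))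
  have hr : Set.range φ.left.base = Set.range j'.left.base := by
    rw [range_abel j', h, ← range_abel (j ≫ (𝟙 J) ^ s), ← Set.range_comp]
    rfl
  haveI : IsReduced (Over.mk (C ↘ Spec (CommRingCat.of k))).left := inferInstanceAs (IsReduced C)
  haveI : IsReduced (Over.mk (C' ↘ Spec (CommRingCat.of k))).left := inferInstanceAs (IsReduced C')
  obtain ⟨α, hα⟩ := exists_iso_of_range_eq φ.left j'.left hr
  have hα' : α.hom ≫ (C' ↘ Spec (CommRingCat.of k)) = (C ↘ Spec (CommRingCat.of k)) := by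
    rw [← show j'.left ≫ J.hom = (C' ↘ Spec (CommRingCat.of k)) from Over.w j', ← Category.assoc, hα]
    exact Over.w φ
  refine ⟨α, hα', t, s, hs, Eq.trans (Over.OverMorphism.ext hα) ?_⟩
  show (j ≫ (𝟙 J) ^ s) ≫ Jac.transl J t = _
  rw [Jac.transl, MonObj.comp_mul, Category.comp_id, ← Category.assoc, toUnit_unique ((j ≫ (𝟙 J) ^ s) ≫ toUnit J) (toUnit _),
    GrpObj.comp_zpow, Category.comp_id]

end JacAlbLib

end

noncomputable section

namespace JacAlbLib

variable {k : Type u} [Field k] [IsAlgClosed k] {J J' : Over (Spec (CommRingCat.of k))} [GrpObj J] [GrpObj J']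
  [LocallyOfFiniteType J.hom] [LocallyOfFiniteType J'.hom]

/-- Comparison of translated sets under an isomorphism of groups. -/
theorem mem_image_of_theta (β : J ≅ J') [IsMonHom β.hom] (c₀ : 𝟙_ (Over (Spec (CommRingCat.of k))) ⟶ J')
    (a : 𝟙_ (Over (Spec (CommRingCat.of k))) ⟶ J) (a' : 𝟙_ (Over (Spec (CommRingCat.of k))) ⟶ J')
    {W : Set J.left} {V : Set J'.left}
    (h : β.hom.left.base '' ((Jac.transl J a).left.base '' W) =
      (Jac.transl J' c₀).left.base ⁻¹' ((Jac.transl J' a').left.base '' V))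
    (z : 𝟙_ (Over (Spec (CommRingCat.of k))) ⟶ J') :
    pnt z ∈ β.hom.left.base '' W ↔ pnt (z * (a ≫ β.hom) * c₀ * a'⁻¹) ∈ V := by
  have e : ∀ p, β.inv.left (β.hom.left p) = p := fun p => by
    rw [← Scheme.Hom.comp_apply, ← Over.comp_left, Iso.hom_inv_id]; rfl
  have e' : ∀ p, β.hom.left (β.inv.left p) = p := fun p => by
    rw [← Scheme.Hom.comp_apply, ← Over.comp_left, Iso.inv_hom_id]; rfl
  have hi : ∀ (w : 𝟙_ (Over (Spec (CommRingCat.of k))) ⟶ J') (S : Set J.left),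
      pnt w ∈ β.hom.left.base '' S ↔ pnt (w ≫ β.inv) ∈ S := fun w S =>
    ⟨fun ⟨p, hp, hpw⟩ => by
      show β.inv.left (pnt w) ∈ S
      rw [← show β.hom.left p = pnt w from hpw, e]; exact hp, fun hw => ⟨_, hw, e' _⟩⟩
  have h1 : pnt (z * (a ≫ β.hom)) ∈ β.hom.left.base '' ((Jac.transl J a).left.base '' W) ↔ pnt z ∈ β.hom.left.base '' W := by
    rw [hi, hi, mem_transl, MonObj.mul_comp, Category.assoc, Iso.hom_inv_id, Category.comp_id, mul_inv_cancel_right]
  rw [← h1, h]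
  show pnt ((z * (a ≫ β.hom)) ≫ Jac.transl J' c₀) ∈ (Jac.transl J' a').left.base '' V ↔ _
  rw [comp_transl, mem_transl]

end JacAlbLib

end
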